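import Mathlib

/-!
Weight spaces of abelian subgroups and their translates under a `p`-element.
-/

set_option autoImplicit false

namespace CfsgLib.HallHigmanB

open Module

universe u v w

variable {G : Type u} [Group G] [Finite G] {K : Type v} [Field K] {V : Type w} [AddCommGroup V] [Module K V]

omit [Finite G] in
theorem rho_inv_apply (ρ : G →* Module.End K V) (g : G) (v : V) : ρ g (ρ g⁻¹ v) = v := by
  rw [← Module.End.mul_apply, ← map_mul, mul_inv_cancel, map_one, Module.End.one_apply]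

omit [Finite G] in
theorem rho_apply_inv (ρ : G →* Module.End K V) (g : G) (v : V) : ρ g⁻¹ (ρ g v) = v := by
  rw [← Module.End.mul_apply, ← map_mul, inv_mul_cancel, map_one, Module.End.one_apply]

/-- Weight vectors. -/
def wspace (ρ : G →* Module.End K V) (A : Subgroup G) (c : A →* Kˣ) (U : Submodule K V) : Submodule K V :=
  U ⊓ ⨅ a : A, Module.End.eigenspace (ρ (a : G)) (c a : K)

omit [Finite G] in
theorem mem_wspace {ρ : G →* Module.End K V} {A : Subgroup G} {c : A →* Kˣ} {U : Submodule K V} {v : V} :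
    v ∈ wspace ρ A c U ↔ v ∈ U ∧ ∀ a : A, ρ (a : G) v = (c a : K) • v := by
  simp [wspace, Submodule.mem_iInf]

omit [Finite G] in
/-- Commuting maps have a common eigenvector. -/
theorem exists_weight [IsAlgClosed K] [FiniteDimensional K V] (ρ : G →* Module.End K V) (A : Subgroup G)
    {U : Submodule K V} (hU0 : U ≠ ⊥) (hA : ∀ a ∈ A, ∀ v ∈ U, ρ a v ∈ U)
    (hcomm : ∀ a ∈ A, ∀ b ∈ A, ∀ v ∈ U, ρ a (ρ b v) = ρ b (ρ a v)) :
    ∃ c : A →* Kˣ, wspace ρ A c U ≠ ⊥ := by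
  classical
  have hex : ∃ n, ∃ S ≤ U, S ≠ ⊥ ∧ (∀ a ∈ A, ∀ v ∈ S, ρ a v ∈ S) ∧ finrank K S = n := ⟨_, U, le_rfl, hU0, hA, rfl⟩
  obtain ⟨S, hSU, hS0, hSA, hSn⟩ := Nat.find_spec hex
  haveI : Nontrivial S := Submodule.nontrivial_iff_ne_bot.mpr hS0
  have hscal : ∀ a : A, ∃ μ : K, ∀ v ∈ S, ρ (a : G) v = μ • v := by
    intro a
    obtain ⟨μ, hμ⟩ := Module.End.exists_eigenvalue ((ρ (a : G)).restrict (fun v hv => hSA a a.2 v hv))
    obtain ⟨v, hv⟩ := hμ.exists_hasEigenvector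
    refine ⟨μ, ?_⟩
    set S' := S ⊓ Module.End.eigenspace (ρ (a : G)) μ with hS'
    have hv' : (v : V) ∈ S' := Submodule.mem_inf.mpr ⟨v.2, Module.End.mem_eigenspace_iff.mpr
      (congrArg Subtype.val hv.apply_eq_smul)⟩
    have hne : S' ≠ ⊥ := fun e => hv.2 (Subtype.ext ((Submodule.mem_bot K).mp (e ▸ hv')))
    have hinv : ∀ b ∈ A, ∀ u ∈ S', ρ b u ∈ S' := fun b hb u hu => by
      obtain ⟨hu1, hu2⟩ := Submodule.mem_inf.mp hu
      refine Submodule.mem_inf.mpr ⟨hSA b hb u hu1, Module.End.mem_eigenspace_iff.mpr ?_⟩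
      rw [hcomm a a.2 b hb u (hSU hu1), Module.End.mem_eigenspace_iff.mp hu2, map_smul]
    have heq : S' = S := by
      refine Submodule.eq_of_le_of_finrank_le inf_le_left ?_
      rw [hSn]
      exact Nat.find_min' hex ⟨S', inf_le_left.trans hSU, hne, hinv, rfl⟩
    intro u hu
    exact Module.End.mem_eigenspace_iff.mp (Submodule.mem_inf.mp (heq.symm ▸ hu : u ∈ S')).2
  choose μ hμ using hscal
  obtain ⟨v, hvS, hv0⟩ := Submodule.exists_mem_ne_zero_of_ne_bot hS0
  have hμmul : ∀ a b : A, μ (a * b) = μ a * μ b := fun a b => by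
    refine smul_left_injective K hv0 ?_
    show μ (a * b) • v = (μ a * μ b) • v
    rw [← hμ (a * b) v hvS, Subgroup.coe_mul, map_mul, Module.End.mul_apply, hμ b v hvS, map_smul, hμ a v hvS,
      smul_smul, mul_comm]
  have hμ1 : μ 1 = 1 := by
    refine smul_left_injective K hv0 ?_
    show μ 1 • v = (1 : K) • v
    rw [← hμ 1 v hvS, OneMemClass.coe_one, map_one, one_smul, Module.End.one_apply]
  let c : A →* Kˣ := MonoidHom.toHomUnits { toFun := μ, map_one' := hμ1, map_mul' := hμmul }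
  refine ⟨c, fun e => hv0 ((Submodule.mem_bot K).mp (e ▸ ?_))⟩
  exact mem_wspace.mpr ⟨hSU hvS, fun a => hμ a v hvS⟩

omit [Finite G] in
/-- The elements of the normalizer fixing a character. -/
def fixer (A : Subgroup G) (c : A →* Kˣ) : Subgroup G where
  carrier := {g | g ∈ Subgroup.normalizer (A : Set G) ∧ ∀ a b : A, g * a * g⁻¹ = (b : G) → c b = c a}
  one_mem' := ⟨one_mem _, fun a b h => by rw [one_mul, inv_one, mul_one] at h; rw [Subtype.ext h]⟩
  mul_mem' := by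
    rintro g g' ⟨hg, h1⟩ ⟨hg', h2⟩
    refine ⟨mul_mem hg hg', fun a b h => ?_⟩
    have hm : g' * (a : G) * g'⁻¹ ∈ A := (Subgroup.mem_normalizer_iff.mp hg' _).mp a.2
    rw [h1 ⟨_, hm⟩ b (by rw [← h]; group), h2 a ⟨_, hm⟩ rfl]
  inv_mem' := by
    rintro g ⟨hg, h1⟩
    refine ⟨inv_mem hg, fun a b h => ?_⟩
    rw [h1 b a (by rw [← h]; group)]

omit [Finite G] in
theorem mem_wspace_conj {ρ : G →* Module.End K V} {A : Subgroup G} {c : A →* Kˣ} {U : Submodule K V} {g : G}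
    (hg : g ∈ fixer A c) (hU : ∀ v ∈ U, ρ g v ∈ U) {v : V} (hv : v ∈ wspace ρ A c U) :
    ρ g v ∈ wspace ρ A c U := by
  obtain ⟨hvU, hva⟩ := mem_wspace.mp hv
  refine mem_wspace.mpr ⟨hU v hvU, fun a => ?_⟩
  have hm : g⁻¹ * (a : G) * g ∈ A := by
    have := (Subgroup.mem_normalizer_iff.mp (inv_mem hg.1) _).mp a.2
    rwa [inv_inv] at this
  rw [← Module.End.mul_apply, ← map_mul, show (a : G) * g = g * (g⁻¹ * (a : G) * g) by group, map_mul,
    Module.End.mul_apply, hva ⟨_, hm⟩, map_smul, hg.2 ⟨_, hm⟩ a (by group)]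

omit [Finite G] in
theorem pow_apply_mem {U : Submodule K V} (T : Module.End K V) (hT : ∀ v ∈ U, T v ∈ U) (i : ℕ) {v : V} (hv : v ∈ U) :
    (T ^ i) v ∈ U := by
  induction i with
  | zero => simpa using hv
  | succ i ih => rw [pow_succ', Module.End.mul_apply]; exact hT _ ih

omit [Finite G] in
theorem sub_one_apply_mem {U : Submodule K V} (T : Module.End K V) (hT : ∀ v ∈ U, T v ∈ U) {v : V} (hv : v ∈ U) :
    (T - 1) v ∈ U := by
  rw [LinearMap.sub_apply, Module.End.one_apply]; exact sub_mem (hT v hv) hv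

/-- The translates of a weight space under a `p`-element multiply the nilpotency index. -/
theorem lift {p : ℕ} [Fact p.Prime] [CharP K p] (ρ : G →* Module.End K V) (A : Subgroup G)
    (hA0 : ((Nat.card A : ℕ) : K) ≠ 0) {U : Submodule K V} {y : G} (hy : y ∈ Subgroup.normalizer (A : Set G))
    (hyU : ∀ v ∈ U, ρ y v ∈ U) {e : ℕ} (he : orderOf y = p ^ e) (c : A →* Kˣ) (hW : wspace ρ A c U ≠ ⊥) :
    ∃ k ≤ e, y ^ p ^ k ∈ fixer A c ∧ (∀ k' < k, y ^ p ^ k' ∉ fixer A c) ∧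
      (∀ w ∈ wspace ρ A c U, ρ (y ^ p ^ k) w ∈ wspace ρ A c U) ∧
      ∀ r : ℕ, (∀ u ∈ U, ((ρ y - 1) ^ r) u = 0) →
        ∃ r' : ℕ, p ^ k * r' ≤ r ∧ ∀ w ∈ wspace ρ A c U, ((ρ (y ^ p ^ k) - 1) ^ r') w = 0 := by
  classical
  have hp := (Fact.out : p.Prime)
  haveI := Fintype.ofFinite A
  have hex : ∃ k, y ^ p ^ k ∈ fixer A c := ⟨e, by rw [← he, pow_orderOf_eq_one]; exact one_mem _⟩
  set k := Nat.find hex with hk
  have hyi : ∀ i : ℕ, ∀ v ∈ U, ρ (y ^ i) v ∈ U := fun i v hv => by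
    rw [map_pow]; exact pow_apply_mem _ hyU i hv
  have hWinv : ∀ w ∈ wspace ρ A c U, ρ (y ^ p ^ k) w ∈ wspace ρ A c U := fun w hw =>
    mem_wspace_conj (Nat.find_spec hex) (hyi _) hw
  refine ⟨k, Nat.find_min' hex (by rw [← he, pow_orderOf_eq_one]; exact one_mem _), Nat.find_spec hex,
    fun k' hk' => Nat.find_min hex hk', hWinv, fun r hr => ?_⟩
  -- no smaller power fixes `c`
  have hmin : ∀ d : ℕ, 0 < d → d < p ^ k → y ^ d ∉ fixer A c := by
    intro d hd0 hd hmem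
    obtain ⟨v, hve, hv⟩ := (Nat.dvd_prime_pow hp).mp (Nat.gcd_dvd_right d (p ^ e))
    have hlt : v < k := by
      by_contra hge
      have h1 : p ^ k ≤ p ^ v := Nat.pow_le_pow_right hp.pos (not_lt.mp hge)
      have h2 : Nat.gcd d (p ^ e) ≤ d := Nat.le_of_dvd hd0 (Nat.gcd_dvd_left _ _)
      omega
    have hb : (y : G) ^ ((Nat.gcd d (p ^ e) : ℕ) : ℤ) ∈ Subgroup.zpowers (y ^ d) := by
      rw [Nat.gcd_eq_gcd_ab, zpow_add, zpow_mul, zpow_mul, zpow_natCast, zpow_natCast, ← he, pow_orderOf_eq_one,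
        one_zpow, mul_one]
      exact ⟨_, rfl⟩
    rw [zpow_natCast, hv] at hb
    exact Nat.find_min hex hlt (Subgroup.zpowers_le.mpr hmem hb)
  -- the twisted characters
  have hconj : ∀ (i : ℕ) (a : A), (y ^ i)⁻¹ * (a : G) * y ^ i ∈ A := fun i a => by
    have := (Subgroup.mem_normalizer_iff.mp (inv_mem (pow_mem hy i)) _).mp a.2
    rwa [inv_inv] at this
  let τ : ℕ → (A →* Kˣ) := fun i => MonoidHom.mk' (fun a => c ⟨_, hconj i a⟩) fun a b => by
    show c ⟨_, _⟩ = _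
    rw [← map_mul]
    exact congrArg c (Subtype.ext (show (y ^ i)⁻¹ * ((a : G) * b) * y ^ i =
      ((y ^ i)⁻¹ * (a : G) * y ^ i) * ((y ^ i)⁻¹ * (b : G) * y ^ i) by group))
  set s := p ^ k - 1 with hs
  have hτne : ∀ i < s, τ i * (τ s)⁻¹ ≠ 1 := by
    intro i hi h
    replace h : τ i = τ s := MonoidHom.ext fun a => by
      have h' := DFunLike.congr_fun h a
      rw [MonoidHom.mul_apply, MonoidHom.inv_apply, MonoidHom.one_apply, mul_inv_eq_one] at h'
      exact h'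
    obtain ⟨d, hd⟩ := Nat.exists_eq_add_of_le hi.le
    have hd' : i + d = s := hd.symm
    refine hmin d (by omega) (by omega) ⟨pow_mem hy d, fun a b hab => ?_⟩
    have h1 := DFunLike.congr_fun h ⟨_, (Subgroup.mem_normalizer_iff.mp (pow_mem hy (i + d)) _).mp a.2⟩
    rw [← hd'] at h1
    have h2 : c b = c a := by
      calc c b = τ i ⟨_, (Subgroup.mem_normalizer_iff.mp (pow_mem hy (i + d)) _).mp a.2⟩ :=
            congrArg c (Subtype.ext (by
              show (b : G) = (y ^ i)⁻¹ * (y ^ (i + d) * (a : G) * (y ^ (i + d))⁻¹) * y ^ i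
              rw [← hab, pow_add]; group))
        _ = τ (i + d) ⟨_, (Subgroup.mem_normalizer_iff.mp (pow_mem hy (i + d)) _).mp a.2⟩ := h1
        _ = c a := congrArg c (Subtype.ext (by
              show (y ^ (i + d))⁻¹ * (y ^ (i + d) * (a : G) * (y ^ (i + d))⁻¹) * y ^ (i + d) = (a : G)
              group))
    exact h2
  let E : Module.End K V := ∑ a : A, ((τ s a)⁻¹ : Kˣ).val • ρ (a : G)
  have hEact : ∀ (i : ℕ), ∀ w ∈ wspace ρ A c U, E (ρ (y ^ i) w) =
      (∑ a : A, ((τ i * (τ s)⁻¹) a : Kˣ).val) • ρ (y ^ i) w := by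
    intro i w hw
    rw [LinearMap.sum_apply, Finset.sum_smul]
    refine Finset.sum_congr rfl fun a _ => ?_
    rw [LinearMap.smul_apply, ← Module.End.mul_apply, ← map_mul,
      show (a : G) * y ^ i = y ^ i * ((y ^ i)⁻¹ * (a : G) * y ^ i) by group, map_mul, Module.End.mul_apply,
      (mem_wspace.mp hw).2 ⟨_, hconj i a⟩, map_smul, smul_smul, MonoidHom.mul_apply, MonoidHom.inv_apply, Units.val_mul,
      mul_comm]
    rfl
  have hE0 : ∀ i < s, ∀ w ∈ wspace ρ A c U, E (ρ (y ^ i) w) = 0 := fun i hi w hw => by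
    rw [hEact i w hw]
    have h0 : ∑ a : A, (Units.coeHom K).comp (τ i * (τ s)⁻¹) a = 0 := sum_hom_units_eq_zero _ fun h => hτne i hi
      (MonoidHom.ext fun a => Units.ext (DFunLike.congr_fun h a))
    rw [show (∑ a : A, ((τ i * (τ s)⁻¹) a : Kˣ).val) = 0 from h0, zero_smul]
  have hEs : ∀ w ∈ wspace ρ A c U, E (ρ (y ^ s) w) = ((Nat.card A : ℕ) : K) • ρ (y ^ s) w := fun w hw => by
    rw [hEact s w hw, show τ s * (τ s)⁻¹ = 1 from MonoidHom.ext fun a => by
      rw [MonoidHom.mul_apply, MonoidHom.inv_apply, mul_inv_cancel, MonoidHom.one_apply]]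
    simp [Nat.card_eq_fintype_card]
  have hmain : ∀ g ∈ wspace ρ A c U, g ≠ 0 → ((ρ y - 1) ^ s) g ≠ 0 := by
    intro g hg hg0 h
    have hind : ∀ j i : ℕ, (i + j < s → E (ρ (y ^ i) (((ρ y - 1) ^ j) g)) = 0) ∧
        (i + j = s → E (ρ (y ^ i) (((ρ y - 1) ^ j) g)) = E (ρ (y ^ s) g)) := by
      intro j
      induction j with
      | zero =>
        intro i
        refine ⟨fun hi => ?_, fun hi => ?_⟩
        · rw [pow_zero, Module.End.one_apply]; exact hE0 i (by omega) g hg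
        · rw [pow_zero, Module.End.one_apply, show i = s by omega]
      | succ j ih =>
        intro i
        have hstep : E (ρ (y ^ i) (((ρ y - 1) ^ (j + 1)) g)) =
            E (ρ (y ^ (i + 1)) (((ρ y - 1) ^ j) g)) - E (ρ (y ^ i) (((ρ y - 1) ^ j) g)) := by
          rw [pow_succ' (ρ y - 1), Module.End.mul_apply, LinearMap.sub_apply, Module.End.one_apply, map_sub, map_sub,
            ← Module.End.mul_apply (f := ρ (y ^ i)), ← map_mul, ← pow_succ]
        refine ⟨fun hi => ?_, fun hi => ?_⟩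
        · rw [hstep, (ih (i + 1)).1 (by omega), (ih i).1 (by omega), sub_zero]
        · rw [hstep, (ih (i + 1)).2 (by omega), (ih i).1 (by omega), sub_zero]
    have h1 := (hind s 0).2 (zero_add s)
    rw [h, map_zero, map_zero, hEs g hg] at h1
    rcases smul_eq_zero.mp h1.symm with h2 | h2
    · exact hA0 h2
    · exact hg0 (by rw [← rho_apply_inv ρ (y ^ s) g, h2, map_zero])
  obtain ⟨g₀, hg₀, hg₀'⟩ := Submodule.exists_mem_ne_zero_of_ne_bot hW
  have hgU : g₀ ∈ U := (mem_wspace.mp hg₀).1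
  haveI : Nontrivial V := ⟨⟨g₀, 0, hg₀'⟩⟩
  haveI : CharP (Module.End K V) p := charP_of_injective_algebraMap (algebraMap K (Module.End K V)).injective p
  have hfrob : (ρ y - 1) ^ p ^ k = ρ (y ^ p ^ k) - 1 := by
    rw [sub_pow_char_pow_of_commute _ _ (Commute.one_right _), one_pow, map_pow]
  have hr' : ∃ r' : ℕ, ∀ w ∈ wspace ρ A c U, ((ρ (y ^ p ^ k) - 1) ^ r') w = 0 := by
    refine ⟨r, fun w hw => ?_⟩
    rw [← hfrob, ← pow_mul, show p ^ k * r = (p ^ k * r - r) + r from (Nat.sub_add_cancel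
      (Nat.le_mul_of_pos_left r (pow_pos hp.pos k))).symm, pow_add, Module.End.mul_apply, hr w (mem_wspace.mp hw).1, map_zero]
  refine ⟨Nat.find hr', ?_, Nat.find_spec hr'⟩
  rcases hf : Nat.find hr' with _ | m
  · simp
  · have hm := Nat.find_min hr' (m := m) (by omega)
    push Not at hm
    obtain ⟨w, hw, hw0⟩ := hm
    have hgW : ((ρ (y ^ p ^ k) - 1) ^ m) w ∈ wspace ρ A c U :=
      pow_apply_mem _ (fun v hv => sub_one_apply_mem _ hWinv hv) m hw
    have h1 := hmain _ hgW hw0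
    rw [← hfrob, ← pow_mul, ← Module.End.mul_apply, ← pow_add] at h1
    by_contra hle
    have hpk : 0 < p ^ k := pow_pos hp.pos k
    obtain ⟨t, ht⟩ : ∃ t, s + p ^ k * m = t + r := ⟨s + p ^ k * m - r, by rw [mul_add, mul_one] at hle; omega⟩
    rw [ht, pow_add, Module.End.mul_apply, hr w (mem_wspace.mp hw).1, map_zero] at h1
    exact h1 rfl

end CfsgLib.HallHigmanB
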