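import Cfsg.Agent.Lib.HallHigmanB.Irreducible
import Cfsg.Agent.Lib.HallHigmanB.Weights

/-!
A stable weight space of the radical carries an almost free block.
-/

set_option autoImplicit false
set_option maxHeartbeats 1000000

namespace CfsgLib.HallHigmanB

open Module
open scoped commutatorElement

universe u v w

variable {G : Type u} [Group G] [Finite G] {K : Type v} [Field K] [IsAlgClosed K]
  {V : Type w} [AddCommGroup V] [Module K V] [FiniteDimensional K V]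

omit [Finite G] [IsAlgClosed K] [FiniteDimensional K V] in
/-- A fixed vector of a map of prime power order in characteristic `p`. -/
theorem exists_fixed_of_pow {p : ℕ} [Fact p.Prime] [CharP K p] {M : Type*} [AddCommGroup M] [Module K M]
    (g : Module.End K M) {e : ℕ} (hg : g ^ p ^ e = 1) (P : Submodule K M) (hP : ∀ m ∈ P, g m ∈ P) (hne : P ≠ ⊥) :
    ∃ m ∈ P, m ≠ 0 ∧ g m = m := by
  classical
  obtain ⟨m₀, hm₀, hm₀'⟩ := Submodule.exists_mem_ne_zero_of_ne_bot hne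
  haveI : Nontrivial M := ⟨⟨m₀, 0, hm₀'⟩⟩
  haveI : CharP (Module.End K M) p := charP_of_injective_algebraMap (algebraMap K (Module.End K M)).injective p
  have h0 : ((g - 1) ^ p ^ e) m₀ = 0 := by
    rw [sub_pow_char_pow_of_commute _ _ (Commute.one_right g), one_pow, hg, sub_self, LinearMap.zero_apply]
  have hex : ∃ j : ℕ, ((g - 1) ^ j) m₀ = 0 := ⟨_, h0⟩
  have hj : Nat.find hex ≠ 0 := fun e => by
    have := Nat.find_spec hex
    rw [e, pow_zero] at this
    exact hm₀' this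
  refine ⟨((g - 1) ^ (Nat.find hex - 1)) m₀, pow_apply_mem _ (fun v hv => sub_one_apply_mem g hP hv) _ hm₀,
    Nat.find_min hex (by omega), ?_⟩
  have h1 := Nat.find_spec hex
  rw [← Nat.succ_pred_eq_of_ne_zero hj, Nat.succ_eq_add_one, pow_succ', Module.End.mul_apply, LinearMap.sub_apply,
    Module.End.one_apply, sub_eq_zero, ← Nat.sub_one] at h1
  exact h1

/-- The nilpotency of an element fixing a weight of the radical and acting freely modulo it. -/
theorem core {p q : ℕ} [Fact p.Prime] [Fact q.Prime] [CharP K p] (hpq : p ≠ q) (ρ : G →* Module.End K V)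
    (Q : Subgroup G) (hQ : IsPGroup q Q) {x : G} (hxQ : x ∈ Subgroup.normalizer (Q : Set G)) {e : ℕ}
    (hxo : orderOf x = p ^ e) (R : Subgroup G) (hRQ : R ≤ Q) (c : R →* Kˣ) (hxc : x ∈ fixer R c)
    (W : Submodule K V) (hW0 : W ≠ ⊥) (hWQ : ∀ u ∈ Q, ∀ v ∈ W, ρ u v ∈ W) (hWx : ∀ v ∈ W, ρ x v ∈ W)
    (hWR : ∀ r : R, ∀ v ∈ W, ρ (r : G) v = (c r : K) • v) (hcom : ∀ u ∈ Q, ∀ w ∈ Q, ⁅u, w⁆ ∈ R)
    (hrad : ∀ u ∈ Q, (∀ w ∈ Q, ∀ h : ⁅u, w⁆ ∈ R, c ⟨_, h⟩ = 1) → u ∈ R)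
    (hfree : ∀ i, x ^ i ≠ 1 → ∀ u ∈ Q, ⁅x ^ i, u⁆ ∈ R → u ∈ R) (hRne : ¬ Q ≤ R) (r : ℕ)
    (hr : ∀ v ∈ W, ((ρ x - 1) ^ r) v = 0) :
    p ^ e ≤ r ∨ ∃ b, 1 ≤ b ∧ q ^ b + 1 = p ^ e ∧ q ^ b ≤ r ∧ R.relIndex Q = (q ^ b) ^ 2 := by
  classical
  have hp := (Fact.out : p.Prime)
  haveI := Fintype.ofFinite Q
  obtain ⟨S, hSW, hSi, hS0, hSmin⟩ := Blocks.SemisimplePieces.exists_minimal (ρ.comp Q.subtype) (U := W)
    (fun g v hv => hWQ g g.2 v hv) hW0
  haveI : Nontrivial S := Submodule.nontrivial_iff_ne_bot.mpr hS0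
  let ρ₀ : Q →* Module.End K S :=
    { toFun := fun u => (ρ (u : G)).restrict (fun v hv => hSi u v hv)
      map_one' := LinearMap.ext fun v => Subtype.ext (by simp)
      map_mul' := fun u w => LinearMap.ext fun v => Subtype.ext (by
        show ρ ((u : G) * w) (v : V) = ρ (u : G) (ρ (w : G) v)
        rw [map_mul]; rfl) }
  have hρ₀ : ∀ (u : Q) (v : S), (ρ₀ u v : V) = ρ (u : G) (v : V) := fun u v => rfl
  have hirr : ∀ T : Submodule K S, (∀ g, ∀ v ∈ T, ρ₀ g v ∈ T) → T = ⊥ ∨ T = ⊤ := by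
    intro T hT
    rcases hSmin (T.map S.subtype) (Submodule.map_subtype_le S T) (fun g v hv => by
      obtain ⟨v, hv, rfl⟩ := hv
      exact ⟨ρ₀ g v, hT g v hv, rfl⟩) with h | h
    · exact Or.inl (Submodule.map_injective_of_injective S.injective_subtype (h.trans (Submodule.map_bot _).symm))
    · exact Or.inr (Submodule.map_injective_of_injective S.injective_subtype (h.trans S.map_subtype_top.symm))
  have hWR' : ∀ (u : Q) (h : (u : G) ∈ R), ρ₀ u = (c ⟨_, h⟩ : K) • 1 := fun u h =>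
    LinearMap.ext fun v => Subtype.ext (by
      rw [hρ₀, hWR ⟨_, h⟩ v (hSW v.2)]; rfl)
  have hscR : ∀ u : Q, (∃ a : K, ρ₀ u = a • 1) → (u : G) ∈ R := by
    rintro u ⟨a, ha⟩
    refine hrad u u.2 fun w hw h => ?_
    have h1 : ρ₀ ⁅u, ⟨w, hw⟩⁆ = (c ⟨_, h⟩ : K) • 1 := hWR' _ h
    have h2 : ρ₀ ⁅u, ⟨w, hw⟩⁆ = 1 := by
      rw [commutatorElement_def, map_mul, map_mul, map_mul]
      have h3 : ρ₀ u * ρ₀ ⟨w, hw⟩ = ρ₀ ⟨w, hw⟩ * ρ₀ u := by
        rw [ha, smul_mul_assoc, one_mul, mul_smul_comm, mul_one]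
      rw [h3, mul_assoc (ρ₀ ⟨w, hw⟩), ← map_mul ρ₀ u, mul_inv_cancel, map_one, mul_one, ← map_mul, mul_inv_cancel, map_one]
    obtain ⟨v, hv⟩ := exists_ne (0 : S)
    refine Units.ext (smul_left_injective K hv ?_)
    show (c ⟨_, h⟩ : K) • v = (1 : K) • v
    rw [one_smul]
    exact (LinearMap.congr_fun (h1.symm.trans h2) v)
  have hcomm : ∀ u w : Q, ∃ l : K, ρ₀ (u * w) = l • ρ₀ (w * u) := fun u w => by
    refine ⟨(c ⟨_, hcom u u.2 w w.2⟩ : K), ?_⟩
    rw [show u * w = ⁅u, w⁆ * (w * u) by rw [commutatorElement_def]; group, map_mul, hWR' ⁅u, w⁆ (hcom u u.2 w w.2),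
      smul_mul_assoc, one_mul]
    rfl
  let α : MulAut Q := Subgroup.normalizerMonoidHom Q ⟨x, hxQ⟩
  have hα : ∀ (i : ℕ) (u : Q), ((α ^ i) u : G) = x ^ i * u * (x ^ i)⁻¹ := fun i u => by
    induction i with
    | zero => simp
    | succ i ih =>
      rw [pow_succ', MulAut.mul_apply]
      show x * ((α ^ i) u : G) * x⁻¹ = _
      rw [ih, pow_succ']; group
  have hpow : α ^ p ^ e = 1 := MulEquiv.ext fun u => Subtype.ext (by
    rw [hα, ← hxo, pow_orderOf_eq_one]; simp)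
  have hscal : ∀ u, ∀ a : K, ρ₀ u = a • 1 → ρ₀ (α u) = a • 1 := fun u a ha => by
    have hu := hscR u ⟨a, ha⟩
    have hu' : ((α u : Q) : G) ∈ R := (Subgroup.mem_normalizer_iff.mp hxc.1 _).mp hu
    rw [hWR' _ hu', hxc.2 ⟨_, hu⟩ ⟨_, hu'⟩ rfl, ← hWR' u hu, ha]
  obtain ⟨T, hTP, hTc, hT⟩ := irreducible_bound hpq hQ ρ₀ hirr hcomm α hpow hscal (fun i hi0 hi u hu => by
      have hi1 : x ^ i ≠ 1 := fun h1 => absurd (Nat.le_of_dvd hi0 (hxo ▸ orderOf_dvd_of_pow_eq_one h1)) (not_le.mpr hi)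
      have h1 := hscR _ hu
      rw [Subgroup.coe_mul, hα, Subgroup.coe_inv, ← commutatorElement_def] at h1
      exact ⟨_, hWR' u (hfree i hi1 u u.2 h1)⟩) (by
      obtain ⟨u, hu, huR⟩ := SetLike.not_le_iff_exists.mp hRne
      exact ⟨⟨u, hu⟩, fun h => huR (hscR _ h)⟩)
  refine (hT r ?_).imp id fun ⟨b, hb1, hb2, hb3, hb4⟩ => ⟨b, hb1, hb2, hb3,
    hb4 (R.subgroupOf Q) fun u => ⟨fun h => ⟨_, hWR' u h⟩, hscR u⟩⟩
  -- an equivariant map intertwining `T` with `x`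
  let P : Submodule K (S →ₗ[K] V) :=
    { carrier := {φ | (∀ s, φ s ∈ W) ∧ ∀ (u : Q) (s : S), φ (ρ₀ u s) = ρ (u : G) (φ s)}
      add_mem' := fun {φ ψ} hφ hψ => ⟨fun s => add_mem (hφ.1 s) (hψ.1 s), fun u s => by
        rw [LinearMap.add_apply, LinearMap.add_apply, hφ.2, hψ.2, map_add]⟩
      zero_mem' := ⟨fun s => zero_mem W, fun u s => by simp⟩
      smul_mem' := fun a φ hφ => ⟨fun s => W.smul_mem a (hφ.1 s), fun u s => by
        rw [LinearMap.smul_apply, LinearMap.smul_apply, hφ.2, map_smul]⟩ }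
  let g : Module.End K (S →ₗ[K] V) := (LinearMap.llcomp K S V V (ρ x)).comp (LinearMap.lcomp K V (T ^ (p ^ e - 1)))
  have hg : ∀ φ s, g φ s = ρ x (φ ((T ^ (p ^ e - 1)) s)) := fun φ s => rfl
  have hgi : ∀ (i : ℕ) φ s, (g ^ i) φ s = ρ (x ^ i) (φ (((T ^ (p ^ e - 1)) ^ i) s)) := by
    intro i
    induction i with
    | zero => intro φ s; simp
    | succ i ih =>
      intro φ s
      rw [pow_succ' g, Module.End.mul_apply, hg, ih, ← Module.End.mul_apply (f := (T ^ (p ^ e - 1)) ^ i), ← pow_succ,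
        ← Module.End.mul_apply (f := ρ x), ← map_mul, ← pow_succ']
  have hgP : g ^ p ^ e = 1 := LinearMap.ext fun φ => LinearMap.ext fun s => by
    rw [hgi, ← pow_mul, mul_comm, pow_mul, hTP, one_pow, ← hxo, pow_orderOf_eq_one, map_one]; rfl
  have hTi : ∀ (i : ℕ) u, T ^ i * ρ₀ u = ρ₀ ((α ^ i) u) * T ^ i := by
    intro i
    induction i with
    | zero => intro u; simp
    | succ i ih =>
      intro u
      rw [pow_succ', mul_assoc, ih, ← mul_assoc, hTc, pow_succ' α, MulAut.mul_apply, mul_assoc]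
  have hP : ∀ φ ∈ P, g φ ∈ P := fun φ hφ => ⟨fun s => hWx _ (hφ.1 _), fun u s => by
    rw [hg, hg, ← Module.End.mul_apply (f := T ^ (p ^ e - 1)), hTi, Module.End.mul_apply, hφ.2,
      ← Module.End.mul_apply (f := ρ x), ← map_mul, ← Module.End.mul_apply (f := ρ (u : G)), ← map_mul]
    congr 2
    rw [hα, ← mul_assoc, ← mul_assoc, ← pow_succ', Nat.sub_add_cancel (pow_pos hp.pos e), ← hxo, pow_orderOf_eq_one,
      one_mul]
    congr 1
    refine inv_eq_of_mul_eq_one_right ?_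
    rw [← pow_succ, Nat.sub_add_cancel (orderOf_pos x), pow_orderOf_eq_one]⟩
  obtain ⟨φ, hφP, hφ0, hφg⟩ := exists_fixed_of_pow g hgP P hP (fun hbot => by
    have hι : S.subtype ∈ P := ⟨fun s => hSW s.2, fun u s => rfl⟩
    rw [hbot, Submodule.mem_bot] at hι
    obtain ⟨v, hv⟩ := exists_ne (0 : S)
    exact hv (Subtype.ext (LinearMap.congr_fun hι v)))
  have hφT : ∀ s, φ (T s) = ρ x (φ s) := fun s => by
    have h := LinearMap.congr_fun hφg (T s)
    rw [hg, ← Module.End.mul_apply, ← pow_succ, Nat.sub_add_cancel (pow_pos hp.pos e), hTP] at h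
    exact h.symm
  have hinj : Function.Injective φ := by
    rw [← LinearMap.ker_eq_bot]
    rcases hirr (LinearMap.ker φ) (fun u v hv => by
      rw [LinearMap.mem_ker] at hv ⊢
      rw [hφP.2, hv, map_zero]) with h | h
    · exact h
    · exact absurd (LinearMap.ker_eq_top.mp h) hφ0
  have hpowφ : ∀ (k : ℕ) s, φ (((T - 1) ^ k) s) = ((ρ x - 1) ^ k) (φ s) := by
    intro k
    induction k with
    | zero => intro s; simp
    | succ k ih =>
      intro s
      rw [pow_succ', pow_succ', Module.End.mul_apply, Module.End.mul_apply, LinearMap.sub_apply,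
        LinearMap.sub_apply, map_sub, hφT, Module.End.one_apply, Module.End.one_apply, ih]
  refine LinearMap.ext fun s => hinj ?_
  rw [hpowφ, hr _ (hφP.1 s), LinearMap.zero_apply, map_zero]

end CfsgLib.HallHigmanB
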