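import Cfsg.Agent.Lib.HallHigmanB.Core
import Cfsg.Agent.Lib.Coprime
import Cfsg.Agent.Lib.CoprimeGen
import Cfsg.Agent.Lib.PLocal.Offender.Dual

/-!
The theorem of Hall and Higman on the minimal polynomial of a `p`-element.
-/

set_option autoImplicit false
set_option maxHeartbeats 1000000

namespace CfsgLib.HallHigmanB

open Module
open scoped commutatorElement

universe u v w

variable {G : Type u} [Group G] [Finite G] {K : Type v} [Field K] [IsAlgClosed K]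
  {V : Type w} [AddCommGroup V] [Module K V] [FiniteDimensional K V]

omit [Finite G] in
/-- A commutative group of maps fixing no more than `1` has a weight nontrivial at a given element. -/
theorem exists_weight_ne {p : ℕ} [Fact p.Prime] [CharP K p] [Finite G] (ρ : G →* Module.End K V)
    (hρ : Function.Injective ρ) (A : Subgroup G) (hA : ∀ a ∈ A, ∀ b ∈ A, a * b = b * a) {a₀ : G} (ha₀ : a₀ ∈ A)
    (ha1 : a₀ ≠ 1) (hcop : (orderOf a₀).Coprime p) :
    ∃ c : A →* Kˣ, wspace ρ A c ⊤ ≠ ⊥ ∧ c ⟨a₀, ha₀⟩ ≠ 1 := by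
  classical
  obtain ⟨μ, hμ1, hμ⟩ : ∃ μ : K, μ ≠ 1 ∧ Module.End.eigenspace (ρ a₀) μ ≠ ⊥ := by
    by_contra hcon
    push Not at hcon
    -- only the eigenvalue one, so unipotent
    have hnil : IsNilpotent (ρ a₀ - 1) := by
      refine ⟨finrank K V, LinearMap.ext fun v => ?_⟩
      have htop : Module.End.maxGenEigenspace (ρ a₀) 1 = ⊤ := by
        rw [eq_top_iff, ← Module.End.iSup_maxGenEigenspace_eq_top (ρ a₀), iSup_le_iff]
        intro μ
        by_cases h : μ = 1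
        · rw [h]
        · rw [(Module.End.maxGenEigenspace (ρ a₀) μ).eq_bot_iff.mpr fun v hv => ?_]
          · exact bot_le
          · by_contra hv0
            have h1 : (ρ a₀).HasEigenvalue μ :=
              Module.End.HasUnifEigenvalue.lt zero_lt_one (k := (⊤ : ℕ∞)) (fun e => hv0 ((Submodule.mem_bot K).mp (e ▸ hv)))
            exact h1 (hcon μ h)
      have hv : v ∈ Module.End.maxGenEigenspace (ρ a₀) 1 := htop.symm ▸ Submodule.mem_top
      rw [Module.End.maxGenEigenspace_eq_genEigenspace_finrank, Module.End.mem_genEigenspace_nat,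
        LinearMap.mem_ker, one_smul] at hv
      exact hv
    obtain ⟨k, hk⟩ := hnil
    have hp := (Fact.out : p.Prime)
    rcases subsingleton_or_nontrivial V with hs | hn
    · exact ha1 (hρ (LinearMap.ext fun v => Subsingleton.elim _ _))
    haveI : CharP (Module.End K V) p := charP_of_injective_algebraMap (algebraMap K (Module.End K V)).injective p
    have h1 : ρ (a₀ ^ p ^ k) = 1 := by
      have h2 : (ρ a₀ - 1) ^ p ^ k = 0 := pow_eq_zero_of_le (Nat.lt_pow_self hp.one_lt).le hk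
      rw [sub_pow_char_pow_of_commute _ _ (Commute.one_right _), one_pow, sub_eq_zero, ← map_pow] at h2
      exact h2
    obtain ⟨i, hi⟩ := exists_pow_eq_self_of_coprime (x := a₀) (n := p ^ k) (Nat.Coprime.pow_left k hcop.symm)
    exact ha1 (by rw [← hi, show a₀ ^ p ^ k = 1 from hρ (h1.trans (map_one ρ).symm), one_pow])
  obtain ⟨c, hc⟩ := exists_weight ρ A (U := Module.End.eigenspace (ρ a₀) μ) hμ (fun a ha v hv => by
    rw [Module.End.mem_eigenspace_iff] at hv ⊢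
    rw [← Module.End.mul_apply, ← map_mul, hA a₀ ha₀ a ha, map_mul, Module.End.mul_apply, hv, map_smul])
    (fun a ha b hb v _ => by rw [← Module.End.mul_apply, ← map_mul, hA a ha b hb, map_mul, Module.End.mul_apply])
  obtain ⟨v, hv, hv0⟩ := Submodule.exists_mem_ne_zero_of_ne_bot hc
  obtain ⟨hv1, hv2⟩ := mem_wspace.mp hv
  refine ⟨c, fun e => hv0 ((Submodule.mem_bot K).mp (e ▸ mem_wspace.mpr ⟨Submodule.mem_top, hv2⟩)), fun h => hμ1 ?_⟩
  refine smul_left_injective K hv0 ?_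
  show μ • v = (1 : K) • v
  rw [← Module.End.mem_eigenspace_iff.mp hv1, hv2 ⟨a₀, ha₀⟩, h, Units.val_one]

theorem cast_card_ne_zero {p q : ℕ} [Fact p.Prime] [Fact q.Prime] [CharP K p] (hpq : p ≠ q) {H : Type*} [Group H]
    [Finite H] (hH : IsPGroup q H) : ((Nat.card H : ℕ) : K) ≠ 0 := by
  obtain ⟨t, ht⟩ := IsPGroup.iff_card.mp hH
  rw [ht, Ne, CharP.cast_eq_zero_iff K p]
  exact fun hd => hpq ((Nat.prime_dvd_prime_iff_eq (Fact.out : p.Prime) (Fact.out : q.Prime)).mp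
    ((Fact.out : p.Prime).dvd_of_dvd_pow hd))

omit [Finite G] in
theorem mem_zpowers_of_ne_one {p n : ℕ} [Fact p.Prime] [Finite G] {x : G} (hx : orderOf x = p ^ n) (i : ℕ)
    (hi : x ^ i ≠ 1) : x ^ p ^ (n - 1) ∈ Subgroup.zpowers (x ^ i) := by
  have hp := (Fact.out : p.Prime)
  obtain ⟨v, hv, hve⟩ := (Nat.dvd_prime_pow hp).mp (Nat.gcd_dvd_right i (p ^ n))
  have hb : x ^ ((Nat.gcd i (p ^ n) : ℕ) : ℤ) ∈ Subgroup.zpowers (x ^ i) := by
    rw [Nat.gcd_eq_gcd_ab, zpow_add, zpow_mul, zpow_mul, zpow_natCast, zpow_natCast, ← hx, pow_orderOf_eq_one,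
      one_zpow, mul_one]
    exact ⟨_, rfl⟩
  rw [zpow_natCast, hve] at hb
  rcases eq_or_lt_of_le hv with h | h
  · exfalso
    refine hi (orderOf_dvd_iff_pow_eq_one.mp ?_)
    rw [hx, ← h, ← hve]
    exact Nat.gcd_dvd_left _ _
  · rw [show n - 1 = v + (n - 1 - v) by omega, pow_add, pow_mul]
    exact Subgroup.pow_mem _ hb _

omit [Finite G] in
/-- A normal subgroup inside an invariant `q`-group centralised by `y`. -/
theorem normalizer_centralizer_inf {x y : G} (hxy : Commute x y) {Q : Subgroup G} (hxQ : x ∈ Subgroup.normalizer (Q : Set G))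
    [Finite G] : x ∈ Subgroup.normalizer ((Q ⊓ Subgroup.centralizer {y} : Subgroup G) : Set G) :=
  Subgroup.mem_normalizer_fintype fun u hu => by
    obtain ⟨hu1, hu2⟩ := Subgroup.mem_inf.mp hu
    refine Subgroup.mem_inf.mpr ⟨(Subgroup.mem_normalizer_iff.mp hxQ u).mp hu1, Subgroup.mem_centralizer_singleton_iff.mpr ?_⟩
    have h := Subgroup.mem_centralizer_singleton_iff.mp hu2
    calc x * u * x⁻¹ * y = x * (u * (x⁻¹ * y * x)) * x⁻¹ := by group
      _ = x * (u * y) * x⁻¹ := by rw [mul_assoc x⁻¹ y x, ← hxy.eq, inv_mul_cancel_left]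
      _ = x * (y * u) * x⁻¹ := by rw [h]
      _ = y * (x * u * x⁻¹) := by rw [← mul_assoc x y, hxy.eq]; group

/-- The bound coming from an invariant `q`-subgroup not centralised by the element of order `p`. -/
theorem bound_of_invariant {p q : ℕ} [Fact p.Prime] [Fact q.Prime] [CharP K p] (hpq : p ≠ q)
    (ρ : G →* Module.End K V) (hρ : Function.Injective ρ) (Q : Subgroup G) (hQ : IsPGroup q Q) {x : G}
    (hxQ : x ∈ Subgroup.normalizer (Q : Set G)) {n : ℕ} (hn : 1 ≤ n) (hxo : orderOf x = p ^ n)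
    (hyQ : x ^ p ^ (n - 1) ∉ Subgroup.centralizer (Q : Set G)) (r : ℕ) (hr : (ρ x - 1) ^ r = 0) :
    p ^ n ≤ r ∨ (¬ IsMulCommutative Q ∧ ∃ k b, k < n ∧ 1 ≤ b ∧ q ^ b + 1 = p ^ (n - k) ∧ p ^ k * q ^ b ≤ r ∧
      ((∀ u ∈ Q, Commute (x ^ p ^ (n - 1)) u → Commute x u) → k = 0)) := by
  classical
  have hp := (Fact.out : p.Prime)
  set y := x ^ p ^ (n - 1) with hy
  -- choose a minimal one
  obtain ⟨Q₀, ⟨hQ0Q, hxQ0, hyQ0⟩, hmin⟩ := Set.Finite.exists_minimalFor (fun H : Subgroup G => Nat.card H)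
    {H : Subgroup G | H ≤ Q ∧ x ∈ Subgroup.normalizer (H : Set G) ∧ y ∉ Subgroup.centralizer (H : Set G)}
    (Set.toFinite _) ⟨Q, le_rfl, hxQ, hyQ⟩
  have hQ0 : IsPGroup q Q₀ := hQ.to_le hQ0Q
  haveI : Group.IsNilpotent Q₀ := hQ0.isNilpotent
  have hproper : ∀ M : Subgroup G, M ≤ Q₀ → x ∈ Subgroup.normalizer (M : Set G) → M ≠ Q₀ →
      y ∈ Subgroup.centralizer (M : Set G) := fun M hM hxM hne => by
    by_contra h
    exact hne (Subgroup.eq_of_le_of_card_ge hM (hmin (j := M) ⟨hM.trans hQ0Q, hxM, h⟩ (Subgroup.card_le_of_le hM)))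
  have hpn0 : p ^ (n - 1) < p ^ n := Nat.pow_lt_pow_right hp.one_lt (by omega)
  have hy1 : y ≠ 1 := fun h => by
    have := Nat.le_of_dvd (pow_pos hp.pos _) (hxo ▸ orderOf_dvd_of_pow_eq_one h)
    omega
  have hyo : orderOf y ∣ p ^ n := hxo ▸ orderOf_pow_dvd _
  have hxy : Commute x y := Commute.self_pow x _
  have hcopY : ∀ {H : Subgroup G}, IsPGroup q H → ∀ g : G, orderOf g ∣ p ^ n →
      (Nat.card (Subgroup.zpowers g)).Coprime (Nat.card H) := fun {H} hH g hg => by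
    obtain ⟨t, ht⟩ := IsPGroup.iff_card.mp hH
    rw [ht, Nat.card_zpowers]
    exact (Nat.Coprime.pow n t ((Nat.coprime_primes hp (Fact.out : q.Prime)).mpr hpq)).coprime_dvd_left hg
  have hQK : ∀ (H : Subgroup G), H ≤ Q → ((Nat.card H : ℕ) : K) ≠ 0 := fun H hH => cast_card_ne_zero hpq (hQ.to_le hH)
  have hcopel : ∀ u ∈ Q, (orderOf u).Coprime p := fun u hu => by
    obtain ⟨t, ht⟩ := IsPGroup.iff_card.mp hQ
    exact (Nat.Coprime.pow_left t ((Nat.coprime_primes (Fact.out : q.Prime) hp).mpr hpq.symm)).coprime_dvd_left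
      (ht ▸ Subgroup.orderOf_dvd_natCard Q hu)
  by_cases hcom : ∀ u ∈ Q₀, ∀ w ∈ Q₀, u * w = w * u
  · -- the abelian case
    left
    obtain ⟨u, hu, hyu⟩ : ∃ u ∈ Q₀, y * u ≠ u * y := by
      by_contra hcon
      push Not at hcon
      exact hyQ0 (Subgroup.mem_centralizer_iff.mpr fun u hu => (hcon u hu).symm)
    have hyu' : y * u * y⁻¹ ∈ Q₀ := (Subgroup.mem_normalizer_iff.mp (pow_mem hxQ0 _) u).mp hu
    have ha0 : y * u * y⁻¹ * u⁻¹ ∈ Q₀ := mul_mem hyu' (inv_mem hu)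
    obtain ⟨c, hc, hc1⟩ := exists_weight_ne ρ hρ Q₀ hcom ha0 (fun h => hyu (by
      rw [mul_inv_eq_one, mul_inv_eq_iff_eq_mul] at h; exact h)) (hcopel _ (hQ0Q ha0))
    obtain ⟨k, hk, hkfix, -, -, hlift⟩ := lift (p := p) ρ Q₀ (hQK _ hQ0Q) (U := ⊤) hxQ0 (fun v _ => Submodule.mem_top)
      hxo c hc
    obtain rfl : k = n := by
      by_contra hne
      have hyfix : y ∈ fixer Q₀ c := by
        rw [hy, show n - 1 = k + (n - 1 - k) by omega, pow_add, pow_mul]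
        exact pow_mem hkfix _
      refine hc1 ?_
      have h1 := hyfix.2 ⟨u, hu⟩ ⟨_, hyu'⟩ rfl
      rw [show (⟨y * u * y⁻¹ * u⁻¹, ha0⟩ : Q₀) = ⟨_, hyu'⟩ * ⟨u, hu⟩⁻¹ from rfl, map_mul, map_inv, h1, mul_inv_cancel]
    obtain ⟨r', hle, hker⟩ := hlift r fun v _ => by rw [hr, LinearMap.zero_apply]
    refine le_trans ?_ hle
    refine Nat.le_mul_of_pos_right _ (Nat.pos_of_ne_zero fun h => ?_)
    obtain ⟨v, hv, hv0⟩ := Submodule.exists_mem_ne_zero_of_ne_bot hc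
    have := hker v hv
    rw [h, pow_zero] at this
    exact hv0 this
  -- the non-abelian case
  push Not at hcom
  obtain ⟨u₀, hu₀, w₀, hw₀, huw⟩ := hcom
  have hYQ : Subgroup.zpowers y ≤ Subgroup.normalizer (Q₀ : Set G) := Subgroup.zpowers_le.mpr (pow_mem hxQ0 _)
  set Y := Subgroup.zpowers y with hY
  have hYcop := hcopY hQ0 y hyo
  have hgen : ⁅Q₀, Y⁆ = Q₀ := by
    have hle : ⁅Q₀, Y⁆ ≤ Q₀ := by
      rw [Subgroup.commutator_le]
      intro u hu g hg
      rw [commutatorElement_def, show u * g * u⁻¹ * g⁻¹ = u * (g * u⁻¹ * g⁻¹) by group]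
      exact mul_mem hu ((Subgroup.mem_normalizer_iff.mp (hYQ hg) _).mp (inv_mem hu))
    by_contra hne
    have hxM : x ∈ Subgroup.normalizer ((⁅Q₀, Y⁆ : Subgroup G) : Set G) := Subgroup.mem_normalizer_fintype fun u hu => by
      have hle2 : (⁅Q₀, Y⁆).map (MulAut.conj x).toMonoidHom ≤ ⁅Q₀, Y⁆ := by
        rw [Subgroup.map_commutator]
        refine Subgroup.commutator_mono ?_ ?_
        · rintro _ ⟨v, hv, rfl⟩; exact (Subgroup.mem_normalizer_iff.mp hxQ0 v).mp hv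
        · rintro _ ⟨_, ⟨i, rfl⟩, rfl⟩
          refine ⟨i, ?_⟩
          show y ^ i = x * y ^ i * x⁻¹
          rw [(hxy.zpow_right i).eq, mul_inv_cancel_right]
      exact hle2 ⟨u, hu, rfl⟩
    have h1 := hproper _ hle hxM hne
    have h2 : ⁅⁅Q₀, Y⁆, Y⁆ = ⊥ := Subgroup.commutator_eq_bot_iff_le_centralizer.mpr fun u hu =>
      Subgroup.mem_centralizer_iff.mpr fun g hg => by
        obtain ⟨i, rfl⟩ := hg
        exact ((show Commute y u from (Subgroup.mem_centralizer_iff.mp h1 u hu).symm).zpow_left i).eq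
    rw [coprime_commutator_commutator hYQ hYcop (Or.inl inferInstance)] at h2
    refine hyQ0 (Subgroup.mem_centralizer_iff.mpr fun u hu => ?_)
    exact (Subgroup.mem_centralizer_iff.mp (Subgroup.commutator_eq_bot_iff_le_centralizer.mp h2 hu) y
      (Subgroup.mem_zpowers y)).symm
  set D := ⁅Q₀, Q₀⁆ with hD
  have hDQ : D ≤ Q₀ := by
    rw [hD, Subgroup.commutator_le]
    intro u hu v hv
    rw [commutatorElement_def]; exact mul_mem (mul_mem (mul_mem hu hv) (inv_mem hu)) (inv_mem hv)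
  have hDne : D ≠ Q₀ := fun h => by
    haveI : Nontrivial Q₀ := ⟨⟨⟨u₀, hu₀⟩, ⟨w₀, hw₀⟩, fun e => huw (by
      have he : u₀ = w₀ := congrArg Subtype.val e
      rw [he])⟩⟩
    refine (Group.IsSolvable.commutator_lt_top_of_nontrivial Q₀).ne (Subgroup.map_injective Q₀.subtype_injective ?_)
    rw [commutator_def, Subgroup.map_commutator, ← MonoidHom.range_eq_map, Subgroup.range_subtype, ← hD, h]
  have hxD : x ∈ Subgroup.normalizer (D : Set G) := Subgroup.mem_normalizer_fintype fun u hu => by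
    have hle2 : D.map (MulAut.conj x).toMonoidHom ≤ D := by
      rw [hD, Subgroup.map_commutator]
      refine Subgroup.commutator_mono ?_ ?_ <;>
      · rintro _ ⟨v, hv, rfl⟩; exact (Subgroup.mem_normalizer_iff.mp hxQ0 v).mp hv
    exact hle2 ⟨u, hu, rfl⟩
  set Z := Q₀ ⊓ Subgroup.centralizer {y} with hZ
  have hDZ : D ≤ Z := fun d hd => Subgroup.mem_inf.mpr ⟨hDQ hd, Subgroup.mem_centralizer_singleton_iff.mpr
    (Subgroup.mem_centralizer_iff.mp (hproper D hDQ hxD hDne) d hd)⟩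
  have hZn : ∀ u ∈ Q₀, ∀ z ∈ Z, ⁅u, z⁆ ∈ Z := fun u hu z hz =>
    hDZ (Subgroup.commutator_mem_commutator hu (Subgroup.mem_inf.mp hz).1)
  have hZc : ∀ u ∈ Q₀, ∀ z ∈ Z, Commute u z := by
    have h1 : ⁅⁅Q₀, Z⁆, Y⁆ = ⊥ := Subgroup.commutator_eq_bot_iff_le_centralizer.mpr <| Subgroup.commutator_le.mpr
      fun u hu z hz => Subgroup.mem_centralizer_iff.mpr fun g hg => by
        obtain ⟨i, rfl⟩ := hg
        exact ((show Commute y ⁅u, z⁆ from (Subgroup.mem_centralizer_singleton_iff.mp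
          (Subgroup.mem_inf.mp (hZn u hu z hz)).2).symm).zpow_left i).eq
    have h2 : ⁅⁅Z, Y⁆, Q₀⁆ = ⊥ := by
      rw [show ⁅Z, Y⁆ = ⊥ from Subgroup.commutator_eq_bot_iff_le_centralizer.mpr fun z hz =>
        Subgroup.mem_centralizer_iff.mpr fun g hg => by
          obtain ⟨i, rfl⟩ := hg
          exact ((show Commute y z from (Subgroup.mem_centralizer_singleton_iff.mp
            (Subgroup.mem_inf.mp hz).2).symm).zpow_left i).eq, Subgroup.commutator_bot_left]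
    have h3 : ⁅⁅Y, Q₀⁆, Z⁆ = ⊥ := Subgroup.commutator_commutator_eq_bot_of_rotate h1 (by
      rw [Subgroup.commutator_comm Z Y] at h2; rw [Subgroup.commutator_comm Y Z] at h2; exact h2)
    rw [Subgroup.commutator_comm Y Q₀, hgen] at h3
    exact fun u hu z hz => (Subgroup.mem_centralizer_iff.mp (Subgroup.commutator_eq_bot_iff_le_centralizer.mp h3 hu) z hz).symm
  have hd0 : ⁅u₀, w₀⁆ ∈ Z := hDZ (Subgroup.commutator_mem_commutator hu₀ hw₀)
  obtain ⟨χ, hχ, hχ1⟩ := exists_weight_ne ρ hρ Z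
    (fun a ha b hb => (hZc a (Subgroup.mem_inf.mp ha).1 b hb).eq) hd0
    (fun h => huw (commutatorElement_eq_one_iff_mul_comm.mp h))
    (hcopel _ (hQ0Q (Subgroup.mem_inf.mp hd0).1))
  have hxZ : x ∈ Subgroup.normalizer (Z : Set G) := normalizer_centralizer_inf hxy hxQ0
  obtain ⟨k₁, hk₁, hk₁fix, hk₁min, hW₁x, hlift₁⟩ := lift (p := p) ρ Z (hQK _ (inf_le_left.trans hQ0Q)) (U := ⊤) hxZ
    (fun v _ => Submodule.mem_top) hxo χ hχ
  have hk₁n : k₁ ≤ n - 1 := by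
    by_contra hlt
    refine hk₁min (n - 1) (by omega) ⟨pow_mem hxZ _, fun a b hab => ?_⟩
    have hya : y * (a : G) * y⁻¹ = (a : G) := by
      rw [← Subgroup.mem_centralizer_singleton_iff.mp (Subgroup.mem_inf.mp a.2).2, mul_inv_cancel_right]
    rw [show b = a from Subtype.ext (hab.symm.trans hya)]
  set x₁ := x ^ p ^ k₁ with hx₁
  set W₁ := wspace ρ Z χ ⊤ with hW₁
  have hx₁Q : x₁ ∈ Subgroup.normalizer (Q₀ : Set G) := pow_mem hxQ0 _
  -- the radical
  let R : Subgroup G :=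
    { carrier := {u | u ∈ Q₀ ∧ ∀ w ∈ Q₀, ∀ h : ⁅u, w⁆ ∈ Z, χ ⟨_, h⟩ = 1}
      one_mem' := ⟨one_mem _, fun w _ h => by
        rw [show (⟨⁅(1 : G), w⁆, h⟩ : Z) = 1 from Subtype.ext (commutatorElement_one_left w), map_one]⟩
      mul_mem' := by
        rintro a b ⟨ha, ha'⟩ ⟨hb, hb'⟩
        refine ⟨mul_mem ha hb, fun w hw h => ?_⟩
        have h1 := hDZ (Subgroup.commutator_mem_commutator ha hw)
        have h2 := hDZ (Subgroup.commutator_mem_commutator hb hw)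
        rw [show (⟨⁅a * b, w⁆, h⟩ : Z) = ⟨_, h2⟩ * ⟨_, h1⟩ from Subtype.ext (by
          calc ⁅a * b, w⁆ = a * ⁅b, w⁆ * a⁻¹ * ⁅a, w⁆ := by simp only [commutatorElement_def]; group
            _ = ⁅b, w⁆ * ⁅a, w⁆ := by rw [(hZc a ha _ h2).eq, mul_inv_cancel_right]),
          map_mul, ha' w hw h1, hb' w hw h2, one_mul]
      inv_mem' := by
        rintro a ⟨ha, ha'⟩
        refine ⟨inv_mem ha, fun w hw h => ?_⟩
        have h1 := hDZ (Subgroup.commutator_mem_commutator ha hw)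
        rw [show (⟨⁅a⁻¹, w⁆, h⟩ : Z) = (⟨_, h1⟩)⁻¹ from Subtype.ext (by
          calc ⁅a⁻¹, w⁆ = a⁻¹ * ⁅a, w⁆⁻¹ * a := by simp only [commutatorElement_def]; group
            _ = ⁅a, w⁆⁻¹ := by rw [(hZc a⁻¹ (inv_mem ha) _ (inv_mem h1)).eq, inv_mul_cancel_right]),
          map_inv, ha' w hw h1, inv_one] }
  have hRQ : R ≤ Q₀ := fun u hu => hu.1
  have hZR : Z ≤ R := fun z hz => ⟨(Subgroup.mem_inf.mp hz).1, fun w hw h => by
    rw [show (⟨⁅z, w⁆, h⟩ : Z) = 1 from Subtype.ext (commutatorElement_eq_one_iff_mul_comm.mpr (hZc w hw z hz).eq.symm),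
      map_one]⟩
  have hW₁Q : ∀ u ∈ Q₀, ∀ v ∈ W₁, ρ u v ∈ W₁ := fun u hu v hv => by
    refine mem_wspace.mpr ⟨Submodule.mem_top, fun a => ?_⟩
    rw [← Module.End.mul_apply, ← map_mul, ← (hZc u hu a a.2).eq, map_mul, Module.End.mul_apply,
      (mem_wspace.mp hv).2 a, map_smul]
  have hx₁R : x₁ ∈ Subgroup.normalizer (R : Set G) := Subgroup.mem_normalizer_fintype fun u hu => by
    obtain ⟨hu1, hu2⟩ := hu
    refine ⟨(Subgroup.mem_normalizer_iff.mp hx₁Q u).mp hu1, fun w hw h => ?_⟩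
    have hw' : x₁⁻¹ * w * x₁ ∈ Q₀ := by
      have := (Subgroup.mem_normalizer_iff.mp (inv_mem hx₁Q) w).mp hw
      rwa [inv_inv] at this
    have h2 := hu2 _ hw' (hDZ (Subgroup.commutator_mem_commutator hu1 hw'))
    rw [hk₁fix.2 ⟨_, hDZ (Subgroup.commutator_mem_commutator hu1 hw')⟩ ⟨_, h⟩ (by
      show x₁ * ⁅u, x₁⁻¹ * w * x₁⁆ * x₁⁻¹ = ⁅x₁ * u * x₁⁻¹, w⁆
      simp only [commutatorElement_def]; group), h2]
  have hRcomm : ∀ a ∈ R, ∀ b ∈ R, ∀ v ∈ W₁, ρ a (ρ b v) = ρ b (ρ a v) := fun a ha b hb v hv => by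
    have h1 := hDZ (Subgroup.commutator_mem_commutator ha.1 hb.1)
    rw [← Module.End.mul_apply, ← map_mul, show a * b = ⁅a, b⁆ * (b * a) by rw [commutatorElement_def]; group, map_mul,
      Module.End.mul_apply, map_mul, Module.End.mul_apply,
      (mem_wspace.mp (hW₁Q b hb.1 _ (hW₁Q a ha.1 v hv))).2 ⟨_, h1⟩, ha.2 b hb.1 h1, Units.val_one, one_smul]
  obtain ⟨c, hc⟩ := exists_weight ρ R (U := W₁) hχ (fun a ha => hW₁Q a ha.1) hRcomm
  obtain ⟨v₀, hv₀, hv₀0⟩ := Submodule.exists_mem_ne_zero_of_ne_bot hc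
  have hcχ : ∀ (z : G) (hz : z ∈ Z), c ⟨z, hZR hz⟩ = χ ⟨z, hz⟩ := fun z hz => by
    refine Units.ext (smul_left_injective K hv₀0 ?_)
    show (c ⟨z, hZR hz⟩ : K) • v₀ = (χ ⟨z, hz⟩ : K) • v₀
    rw [← (mem_wspace.mp hv₀).2 ⟨z, hZR hz⟩, ← (mem_wspace.mp (mem_wspace.mp hv₀).1).2 ⟨z, hz⟩]
  have hx₁o : orderOf x₁ = p ^ (n - k₁) := by
    rw [hx₁, orderOf_pow, hxo, Nat.gcd_eq_right (pow_dvd_pow p (by omega)), Nat.pow_div (by omega) hp.pos]
  obtain ⟨k₂, hk₂, hk₂fix, hk₂min, hW₂x, hlift₂⟩ := lift (p := p) ρ R (hQK _ (hRQ.trans hQ0Q)) (U := W₁) hx₁R hW₁x hx₁o c hc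
  obtain ⟨r₁, hr₁, hker₁⟩ := hlift₁ r fun v _ => by rw [hr, LinearMap.zero_apply]
  obtain ⟨r₂, hr₂, hker₂⟩ := hlift₂ r₁ hker₁
  set x₂ := x₁ ^ p ^ k₂ with hx₂
  have hx₂x : x₂ = x ^ p ^ (k₁ + k₂) := by rw [hx₂, hx₁, ← pow_mul, ← pow_add]
  have hx₂o : orderOf x₂ = p ^ (n - (k₁ + k₂)) := by
    rw [hx₂x, orderOf_pow, hxo, Nat.gcd_eq_right (pow_dvd_pow p (by omega)), Nat.pow_div (by omega) hp.pos]
  have hxfix : ∀ i : ℕ, x₂ ^ i ≠ 1 → ∀ u ∈ Q₀, ⁅x₂ ^ i, u⁆ ∈ R → u ∈ R := by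
    intro i hi u hu hui
    have hxi : x₂ ^ i = x ^ (p ^ (k₁ + k₂) * i) := by rw [hx₂x, ← pow_mul]
    set g := x₂ ^ i with hg
    have hgR : g ∈ Subgroup.normalizer (R : Set G) := pow_mem (pow_mem hx₁R _) _
    have hgQ : g ∈ Subgroup.normalizer (Q₀ : Set G) := pow_mem (pow_mem hx₁Q _) _
    have hQR : Q₀ ≤ Subgroup.normalizer (R : Set G) := fun v hv => Subgroup.mem_normalizer_fintype fun a ha => by
      rw [show v * a * v⁻¹ = ⁅v, a⁆ * a by rw [commutatorElement_def, inv_mul_cancel_right]]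
      exact mul_mem (hZR (hDZ (Subgroup.commutator_mem_commutator hv ha.1))) ha
    obtain ⟨v, hv, hvR⟩ := coprime_fixed_quotient (Subgroup.zpowers_le.mpr hgQ)
      (hcopY hQ0 g (hxi ▸ hxo ▸ orderOf_pow_dvd _)) (Or.inl inferInstance) hRQ hQR (Subgroup.zpowers_le.mpr hgR) hu
      (fun a ha => by
        obtain ⟨j, rfl⟩ := (isOfFinOrder_of_finite g).mem_powers_iff_mem_zpowers.mpr ha
        dsimp only
        induction j with
        | zero => simp
        | succ j ih =>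
          have h5 := mul_mem ((Subgroup.mem_normalizer_iff.mp hgR _).mp (ih (Subgroup.pow_mem _ (Subgroup.mem_zpowers _) j))) hui
          rwa [show g * (g ^ j * u * (g ^ j)⁻¹ * u⁻¹) * g⁻¹ * ⁅g, u⁆ = g ^ (j + 1) * u * (g ^ (j + 1))⁻¹ * u⁻¹ by
            rw [commutatorElement_def, pow_succ']; group] at h5)
    obtain ⟨hvQ, hvC⟩ := Subgroup.mem_inf.mp hv
    have hyg : y ∈ Subgroup.zpowers g := hxi ▸ mem_zpowers_of_ne_one hxo _ (hxi ▸ hi)
    have hvZ : v ∈ Z := Subgroup.mem_inf.mpr ⟨hvQ, Subgroup.mem_centralizer_singleton_iff.mpr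
      (Subgroup.mem_centralizer_iff.mp hvC y hyg).symm⟩
    have := mul_mem (hZR hvZ) (inv_mem hvR)
    rwa [mul_inv_rev, inv_inv, mul_inv_cancel_left] at this
  have hRne : ¬ Q₀ ≤ R := fun h => hχ1 ((h hu₀).2 w₀ hw₀ hd0)
  have hW₂Q : ∀ u ∈ Q₀, ∀ v ∈ wspace ρ R c W₁, ρ u v ∈ wspace ρ R c W₁ := fun u hu v hv => by
    obtain ⟨hv1, hv2⟩ := mem_wspace.mp hv
    refine mem_wspace.mpr ⟨hW₁Q u hu v hv1, fun a => ?_⟩
    have h1 := hDZ (Subgroup.commutator_mem_commutator a.2.1 hu)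
    rw [← Module.End.mul_apply, ← map_mul, show (a : G) * u = ⁅(a : G), u⁆ * (u * a) by rw [commutatorElement_def]; group,
      map_mul, Module.End.mul_apply, map_mul, Module.End.mul_apply, hv2 a, map_smul,
      (mem_wspace.mp (Submodule.smul_mem W₁ _ (hW₁Q u hu v hv1))).2 ⟨_, h1⟩, a.2.2 u hu h1, Units.val_one, one_smul]
  have hfin := core hpq ρ Q₀ hQ0 (pow_mem hx₁Q _) hx₂o R hRQ c hk₂fix (wspace ρ R c W₁) hc hW₂Q hW₂x
    (fun a v hv => (mem_wspace.mp hv).2 a) (fun a ha b hb => hZR (hDZ (Subgroup.commutator_mem_commutator ha hb)))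
    (fun a ha h => ⟨ha, fun w hw hh => by rw [← hcχ _ hh]; exact h w hw (hZR hh)⟩) hxfix hRne r₂ hker₂
  have hk : p ^ (k₁ + k₂) * r₂ ≤ r := by
    rw [pow_add, mul_assoc]; exact (Nat.mul_le_mul_left _ hr₂).trans hr₁
  rcases hfin with h | ⟨b, hb1, hb2, hb3, -⟩
  · left
    refine le_trans ?_ hk
    calc p ^ n = p ^ (k₁ + k₂) * p ^ (n - (k₁ + k₂)) := by rw [← pow_add, Nat.add_sub_cancel' (by omega)]
      _ ≤ _ := Nat.mul_le_mul_left _ h
  · refine Or.inr ⟨fun hab => huw (congrArg Subtype.val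
      (hab.is_comm.comm (⟨u₀, hQ0Q hu₀⟩ : Q) ⟨w₀, hQ0Q hw₀⟩)), k₁ + k₂, b, ?_, hb1, hb2,
      (Nat.mul_le_mul_left _ hb3).trans hk, fun hxc => ?_⟩
    · by_contra hge
      rw [Nat.sub_eq_zero_of_le (not_lt.mp hge), pow_zero] at hb2
      have := Nat.one_le_pow b q (Fact.out : q.Prime).pos
      omega
    · -- if `x` centralises the fixed points of `y`, every weight in sight is stable
      have hxz : ∀ z ∈ Z, x * z * x⁻¹ = z := fun z hz => by
        obtain ⟨hz1, hz2⟩ := Subgroup.mem_inf.mp hz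
        rw [(hxc z (hQ0Q hz1) (show Commute y z from (Subgroup.mem_centralizer_singleton_iff.mp hz2).symm)).eq,
          mul_inv_cancel_right]
      obtain rfl : k₁ = 0 := by
        by_contra hne
        refine hk₁min 0 (Nat.pos_of_ne_zero hne) ?_
        rw [pow_zero, pow_one]
        exact ⟨hxZ, fun a b hab => by rw [show b = a from Subtype.ext (hab.symm.trans (hxz _ a.2))]⟩
      have hx₁x : x₁ = x := by rw [hx₁, pow_zero, pow_one]
      have hRZ : R ≤ Z := fun u hu => Subgroup.mem_inf.mpr ⟨hRQ hu, Subgroup.mem_centralizer_singleton_iff.mpr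
        (Subgroup.mem_centralizer_iff.mp (hproper R hRQ (hx₁x ▸ hx₁R) (fun e => hRne e.ge)) u hu)⟩
      by_contra hne
      refine hk₂min 0 (by omega) ?_
      rw [pow_zero, pow_one, hx₁x]
      exact ⟨hx₁x ▸ hx₁R, fun a b hab => by rw [show b = a from Subtype.ext (hab.symm.trans (hxz _ (hRZ a.2)))]⟩

/-- A `p`-element of a `p`-soluble group without normal `p`-subgroups moves an invariant `q`-subgroup. -/
theorem exists_invariant {p : ℕ} [Fact p.Prime] (hsol : Cfsg.IsPSolvable p G) (hOp : Cfsg.pCore p G = ⊥) {x : G} {n : ℕ}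
    (hn : 1 ≤ n) (hxo : orderOf x = p ^ n) :
    ∃ (q : ℕ) (_ : Fact q.Prime) (Q : Subgroup G), p ≠ q ∧ IsPGroup q Q ∧ x ∈ Subgroup.normalizer (Q : Set G) ∧
      x ^ p ^ (n - 1) ∉ Subgroup.centralizer (Q : Set G) := by
  classical
  have hp := (Fact.out : p.Prime)
  set M := Cfsg.pPrimeCore p G with hM
  have hMn : M.Normal := inferInstance
  have hMcop : (Nat.card M).Coprime p := CfsgLib.card_pPrimeCore_coprime p
  have hA : Subgroup.zpowers x ≤ Subgroup.normalizer (M : Set G) := by rw [Subgroup.normalizer_eq_top]; exact le_top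
  have hcop : (Nat.card (Subgroup.zpowers x)).Coprime (Nat.card M) := by
    rw [Nat.card_zpowers, hxo]; exact Nat.Coprime.pow_left n hMcop.symm
  by_contra hcon
  push Not at hcon
  have hy : x ^ p ^ (n - 1) ∈ Subgroup.centralizer (M : Set G) := by
    set L := M ⊓ Subgroup.centralizer {x ^ p ^ (n - 1)} with hL
    have hLM : L = M := by
      refine Subgroup.eq_of_le_of_card_ge inf_le_left (Nat.le_of_dvd Nat.card_pos ?_)
      rw [Nat.dvd_iff_prime_pow_dvd_dvd]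
      intro q k hq hd
      haveI := Fact.mk hq
      rcases Nat.eq_zero_or_pos k with rfl | hk
      · simp
      have hqp : p ≠ q := fun e => by
        subst e
        exact hp.one_lt.ne' (Nat.eq_one_of_dvd_coprimes hMcop ((dvd_pow_self p hk.ne').trans hd) dvd_rfl)
      obtain ⟨S, hS⟩ := coprime_exists_invariant_sylow hA hcop (Or.inl inferInstance) q
      have h1 := hcon q ⟨hq⟩ ((S : Subgroup M).map M.subtype) hqp (S.2.map M.subtype) (hS (Subgroup.mem_zpowers x))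
      have hle : (S : Subgroup M).map M.subtype ≤ L := fun s hs => Subgroup.mem_inf.mpr
        ⟨Subgroup.map_subtype_le _ hs, Subgroup.mem_centralizer_singleton_iff.mpr (Subgroup.mem_centralizer_iff.mp h1 s hs)⟩
      refine Nat.dvd_trans ?_ (Subgroup.card_dvd_of_le hle)
      rw [Subgroup.card_map_of_injective M.subtype_injective, Sylow.card_eq_multiplicity]
      exact pow_dvd_pow q ((hq.pow_dvd_iff_le_factorization Nat.card_pos.ne').mp hd)
    refine Subgroup.mem_centralizer_iff.mpr fun m hm => ?_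
    rw [← hLM] at hm
    exact Subgroup.mem_centralizer_singleton_iff.mp (Subgroup.mem_inf.mp hm).2
  have h1 := Offender.centralizer_pPrimeCore_le hsol hOp hy
  have hd : p ^ n ∣ p ^ (n - 1) := by
    rw [← hxo, orderOf_dvd_iff_pow_eq_one, ← orderOf_eq_one_iff]
    exact Nat.eq_one_of_dvd_coprimes (Nat.Coprime.pow_right n hMcop) (Subgroup.orderOf_dvd_natCard M h1)
      (hxo ▸ orderOf_pow_dvd _)
  have h2 := Nat.le_of_dvd (pow_pos hp.pos _) hd
  have h3 : p ^ (n - 1) < p ^ n := Nat.pow_lt_pow_right hp.one_lt (by omega)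
  omega

/-- **Theorem B** of Hall and Higman. -/
theorem theorem_b {p : ℕ} [Fact p.Prime] [CharP K p] [Nontrivial V] (hsol : Cfsg.IsPSolvable p G)
    (hOp : Cfsg.pCore p G = ⊥) (ρ : G →* Module.End K V) (hρ : Function.Injective ρ) {x : G} {n : ℕ}
    (hxo : orderOf x = p ^ n) (r : ℕ) (hr : (ρ x - 1) ^ r = 0) :
    p ^ n ≤ r ∨ ∃ n₀ q m : ℕ, 1 ≤ n₀ ∧ n₀ ≤ n ∧ q.Prime ∧ 1 ≤ m ∧ p ^ n₀ - 1 = q ^ m ∧
      (∀ Q : Sylow q G, ¬ IsMulCommutative Q) ∧ p ^ (n - n₀) * (p ^ n₀ - 1) ≤ r := by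
  classical
  rcases Nat.eq_zero_or_pos n with rfl | hn
  · left
    rw [pow_zero, Nat.one_le_iff_ne_zero]
    intro h
    rw [h, pow_zero] at hr
    exact one_ne_zero hr
  obtain ⟨q, hq, Q, hpq, hQ, hxQ, hyQ⟩ := exists_invariant hsol hOp hn hxo
  rcases bound_of_invariant hpq ρ hρ Q hQ hxQ hn hxo hyQ r hr with h | ⟨hnc, k, b, hk, hb1, hb2, hb3, -⟩
  · exact Or.inl h
  · refine Or.inr ⟨n - k, q, b, by omega, by omega, hq.out, hb1, by omega, fun S hS => hnc ?_, ?_⟩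
    · obtain ⟨T, hT⟩ := hQ.exists_le_sylow
      obtain ⟨e⟩ : Nonempty ((T : Subgroup G) ≃* (S : Subgroup G)) := ⟨T.equiv S⟩
      exact ⟨⟨fun a b => Subtype.ext (congrArg (fun z : (T : Subgroup G) => (z : G)) (show
        (⟨a, hT a.2⟩ : (T : Subgroup G)) * ⟨b, hT b.2⟩ = ⟨b, hT b.2⟩ * ⟨a, hT a.2⟩ from
          e.injective (by rw [map_mul, map_mul]; exact hS.is_comm.comm _ _)))⟩⟩
    · rw [show n - (n - k) = k by omega, show p ^ (n - k) - 1 = q ^ b by omega]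
      exact hb3

end CfsgLib.HallHigmanB
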