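import Mathlib
import Cfsg.Agent.Lib.Elementary
import Cfsg.Agent.Lib.PGroup.CyclicMax

/-!
Elements of small displacement in a `p`-group acting coprimely on an abelian group.
-/

set_option autoImplicit false
set_option maxHeartbeats 1000000

namespace CfsgLib.HallHigmanB.Displacement

open scoped commutatorElement

universe u

variable {p : ℕ} [hp : Fact p.Prime]

/-- `e ↦ f e / e`. -/
def disp {E : Type u} [CommGroup E] (f : MulAut E) : E →* E :=
  MonoidHom.mk' (fun e => f e / e) fun a b => by rw [map_mul, mul_div_mul_comm]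

theorem disp_apply {E : Type u} [CommGroup E] (f : MulAut E) (e : E) : disp f e = f e / e := rfl

/-- `e ↦ e * f e * ⋯ * f ^ (p - 1) e`. -/
def proj {E : Type u} [CommGroup E] (p : ℕ) (f : MulAut E) : E →* E :=
  ∏ t ∈ Finset.range p, (f ^ t).toMonoidHom

theorem proj_apply {E : Type u} [CommGroup E] (f : MulAut E) (e : E) :
    proj p f e = ∏ t ∈ Finset.range p, (f ^ t) e := MonoidHom.finsetProd_apply _ _ _

theorem pow_fixed {E : Type u} [CommGroup E] {f : MulAut E} {e : E} (h : f e = e) : ∀ t : ℕ, (f ^ t) e = e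
  | 0 => rfl
  | t + 1 => by rw [pow_succ, MulAut.mul_apply, h, pow_fixed h t]

theorem proj_fixed {E : Type u} [CommGroup E] {f : MulAut E} {e : E} (h : f e = e) : proj p f e = e ^ p := by
  rw [proj_apply, Finset.prod_congr rfl fun t _ => pow_fixed h t, Finset.prod_const, Finset.card_range]

theorem apply_proj {E : Type u} [CommGroup E] {f : MulAut E} (hf : f ^ p = 1) (e : E) :
    f (proj p f e) = proj p f e := by
  rw [proj_apply, map_prod, Finset.prod_congr rfl fun t _ => show f ((f ^ t) e) = (f ^ (t + 1)) e by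
    rw [pow_succ', MulAut.mul_apply]]
  have h1 := Finset.prod_range_succ' (fun t => (f ^ t) e) p
  have h2 := Finset.prod_range_succ (fun t => (f ^ t) e) p
  rw [h2, hf, pow_zero] at h1
  exact mul_right_cancel h1.symm

theorem commute_proj {E : Type u} [CommGroup E] {f g : MulAut E} (hfg : Commute g f) {e : E} (he : g e = e) :
    g (proj p f e) = proj p f e := by
  rw [proj_apply, map_prod]
  refine Finset.prod_congr rfl fun t _ => ?_
  rw [← MulAut.mul_apply, (hfg.pow_right t).eq, MulAut.mul_apply, he]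

theorem eq_one_of_pow {E : Type u} [CommGroup E] [Finite E] (hcop : (Nat.card E).Coprime p) {e : E} {t : ℕ}
    (h : e ^ p ^ t = 1) : e = 1 :=
  orderOf_eq_one_iff.mp (Nat.eq_one_of_dvd_coprimes (hcop.pow_right t) (orderOf_dvd_natCard e)
    (orderOf_dvd_of_pow_eq_one h))

theorem pow_inj {E : Type u} [CommGroup E] [Finite E] (hcop : (Nat.card E).Coprime p) {e f : E}
    (h : e ^ p = f ^ p) : e = f :=
  div_eq_one.mp (eq_one_of_pow (t := 1) hcop (by rw [pow_one, div_pow, h, div_self']))

/-- An element of `p`-power order fixing a subgroup and its quotient pointwise is trivial. -/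
theorem eq_one_of_chain {E : Type u} [CommGroup E] [Finite E] (hcop : (Nat.card E).Coprime p) {f : MulAut E} {t : ℕ}
    (hf : f ^ p ^ t = 1) (S : Subgroup E) (h1 : ∀ e ∈ S, f e = e) (h2 : ∀ e, f e / e ∈ S) : f = 1 := by
  refine MulEquiv.ext fun e => ?_
  have h : ∀ i : ℕ, (f ^ i) e = e * (f e / e) ^ i := fun i => by
    induction i with
    | zero => simp
    | succ i ih =>
      rw [pow_succ', MulAut.mul_apply, ih, map_mul, map_pow, h1 _ (h2 e), pow_succ', ← mul_assoc, mul_div_cancel]
  have h3 := h (p ^ t)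
  rw [hf, MulAut.one_apply, left_eq_mul] at h3
  exact div_eq_one.mp (eq_one_of_pow hcop h3)

section action

variable {P : Type u} [Group P] [Finite P] {E : Type u} [CommGroup E] [Finite E]

/-- `y` is a `p ^ j`-th power and displaces little. -/
def Good (p : ℕ) (φ : P →* MulAut E) (y : P) : Prop :=
  ∃ (a : P) (j : ℕ), a ^ p ^ j = y ∧ Nat.card (disp (φ y)).range < (p + 1) ^ ((p - 1) * p ^ j)

/-- The action on an invariant subgroup. -/
def restr (φ : P →* MulAut E) (S : Subgroup E) (hS : ∀ g, ∀ e ∈ S, φ g e ∈ S) : P →* MulAut S :=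
  MonoidHom.mk'
    (fun g =>
      { toFun := fun e => ⟨φ g e, hS g e e.2⟩
        invFun := fun e => ⟨φ g⁻¹ e, hS g⁻¹ e e.2⟩
        left_inv := fun e => Subtype.ext (by
          show φ g⁻¹ (φ g e) = e
          rw [← MulAut.mul_apply, ← map_mul, inv_mul_cancel, map_one, MulAut.one_apply])
        right_inv := fun e => Subtype.ext (by
          show φ g (φ g⁻¹ e) = e
          rw [← MulAut.mul_apply, ← map_mul, mul_inv_cancel, map_one, MulAut.one_apply])
        map_mul' := fun e f => Subtype.ext (map_mul (φ g) _ _) })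
    fun g h => MulEquiv.ext fun e => Subtype.ext (by
      show φ (g * h) e = φ g (φ h e)
      rw [map_mul, MulAut.mul_apply])

omit [Finite P] [Finite E] in
theorem restr_apply (φ : P →* MulAut E) (S : Subgroup E) (hS : ∀ g, ∀ e ∈ S, φ g e ∈ S) (g : P) (e : S) :
    ((restr φ S hS g e : S) : E) = φ g e := rfl

omit [Finite P] in
theorem card_disp_restr (φ : P →* MulAut E) (S : Subgroup E) (hS : ∀ g, ∀ e ∈ S, φ g e ∈ S) (g : P) :
    Nat.card (disp (restr φ S hS g)).range ≤ Nat.card (disp (φ g)).range := by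
  rw [← Subgroup.card_map_of_injective S.subtype_injective]
  refine Subgroup.card_le_of_le ?_
  rintro _ ⟨_, ⟨e, rfl⟩, rfl⟩
  exact ⟨e, rfl⟩

/-- The action on a quotient. -/
def quot (φ : P →* MulAut E) (S : Subgroup E) (hS : ∀ g, ∀ e ∈ S, φ g e ∈ S) : P →* MulAut (E ⧸ S) :=
  MonoidHom.mk'
    (fun g => QuotientGroup.congr S S (φ g) (le_antisymm
      (by rintro _ ⟨e, he, rfl⟩; exact hS g e he)
      (fun e he => ⟨φ g⁻¹ e, hS g⁻¹ e he, by
        show φ g (φ g⁻¹ e) = e
        rw [← MulAut.mul_apply, ← map_mul, mul_inv_cancel, map_one, MulAut.one_apply]⟩)))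
    fun g h => MulEquiv.ext fun x => by
      obtain ⟨e, rfl⟩ := QuotientGroup.mk_surjective x
      show QuotientGroup.mk (φ (g * h) e) = QuotientGroup.mk (φ g (φ h e))
      rw [map_mul, MulAut.mul_apply]

omit [Finite P] [Finite E] in
theorem quot_apply (φ : P →* MulAut E) (S : Subgroup E) (hS : ∀ g, ∀ e ∈ S, φ g e ∈ S) (g : P) (e : E) :
    quot φ S hS g (e : E ⧸ S) = ((φ g e : E) : E ⧸ S) := rfl

omit [Finite P] in
theorem card_disp_quot (φ : P →* MulAut E) (S : Subgroup E) (hS : ∀ g, ∀ e ∈ S, φ g e ∈ S) (g : P) :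
    Nat.card (disp (quot φ S hS g)).range ≤ Nat.card (disp (φ g)).range := by
  refine le_trans (Subgroup.card_le_of_le (K := (disp (φ g)).range.map (QuotientGroup.mk' S)) ?_) ?_
  · rintro _ ⟨x, rfl⟩
    obtain ⟨e, rfl⟩ := QuotientGroup.mk_surjective x
    exact ⟨disp (φ g) e, ⟨e, rfl⟩, by rw [disp_apply, disp_apply, map_div, quot_apply]; rfl⟩
  · exact Nat.le_of_dvd Nat.card_pos (Subgroup.card_map_dvd _ _)

theorem good_restr {φ : P →* MulAut E} {y : P} (h : Good p φ y) (S : Subgroup E) (hS : ∀ g, ∀ e ∈ S, φ g e ∈ S) :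
    Good p (restr φ S hS) y := by
  obtain ⟨a, j, ha, hlt⟩ := h
  exact ⟨a, j, ha, (card_disp_restr φ S hS y).trans_lt hlt⟩

theorem good_quot {φ : P →* MulAut E} {y : P} (h : Good p φ y) (S : Subgroup E) (hS : ∀ g, ∀ e ∈ S, φ g e ∈ S) :
    Good p (quot φ S hS) y := by
  obtain ⟨a, j, ha, hlt⟩ := h
  exact ⟨a, j, ha, (card_disp_quot φ S hS y).trans_lt hlt⟩

/-- A central element without fixed points, and an element moved into its cosets with fixed points. -/
structure Frame (p : ℕ) (φ : P →* MulAut E) (z a : P) : Prop where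
  cop : (Nat.card E).Coprime p
  zc : ∀ g, g * z = z * g
  zp : z ^ p = 1
  zfix : ∀ e, φ z e = e → e = 1
  ap : a ^ p = 1
  aconj : ∀ g, ∃ i : ℕ, g * a * g⁻¹ = a * z ^ i
  afix : ∃ e, e ≠ 1 ∧ φ a e = e
  ane : a ≠ 1

/-- The fixed points of an element. -/
def fixed (φ : P →* MulAut E) (a : P) : Subgroup E := (φ a).toMonoidHom.eqLocus (MonoidHom.id E)

omit [Finite P] [Finite E] in
theorem mem_fixed {φ : P →* MulAut E} {a : P} {e : E} : e ∈ fixed φ a ↔ φ a e = e := Iff.rfl

omit [Finite P] [Finite E] in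
theorem conj_fix {φ : P →* MulAut E} {a : P} (g : P) {e : E} (he : φ a e = e) :
    φ (g * a * g⁻¹) (φ g e) = φ g e := by
  rw [← MulAut.mul_apply, ← map_mul, inv_mul_cancel_right, map_mul, MulAut.mul_apply, he]

omit [Finite P] [Finite E] in
theorem fixed_invariant {φ : P →* MulAut E} {a g : P} (hg : g * a = a * g) {e : E} (he : e ∈ fixed φ a) :
    φ g e ∈ fixed φ a := by
  rw [mem_fixed, ← MulAut.mul_apply, ← map_mul, ← hg, map_mul, MulAut.mul_apply, mem_fixed.mp he]

namespace Frame

variable {φ : P →* MulAut E} {z a : P} (F : Frame p φ z a)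

include F

omit [Finite P] [Finite E] in
theorem conj (g : P) : Frame p φ z (g * a * g⁻¹) := by
  refine ⟨F.cop, F.zc, F.zp, F.zfix, by rw [conj_pow, F.ap, mul_one, mul_inv_cancel], fun h => ?_, ?_,
    fun h => F.ane (conj_eq_one_iff.mp h)⟩
  · obtain ⟨i, hi⟩ := F.aconj g
    obtain ⟨j, hj⟩ := F.aconj h
    refine ⟨j, ?_⟩
    rw [hi]
    calc h * (a * z ^ i) * h⁻¹ = h * a * (z ^ i * h⁻¹) := by group
      _ = h * a * (h⁻¹ * z ^ i) := by rw [((show Commute h⁻¹ z from F.zc _).pow_right i).eq]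
      _ = a * z ^ j * z ^ i := by rw [← mul_assoc, hj]
      _ = a * z ^ i * z ^ j := by rw [mul_assoc, ← pow_add, add_comm, pow_add, ← mul_assoc]
  · obtain ⟨e, he, he'⟩ := F.afix
    exact ⟨φ g e, fun h => he ((φ g).injective (h.trans (map_one _).symm)), conj_fix g he'⟩

omit [Finite P] in
theorem zpow_fix {m : ℕ} (hm : z ^ m ≠ 1) {e : E} (he : φ (z ^ m) e = e) : e = 1 := by
  obtain ⟨k, hk⟩ : ∃ k : ℕ, (z ^ m) ^ k = z := exists_pow_eq_self_of_coprime (by
    refine Nat.Coprime.coprime_dvd_right (orderOf_dvd_of_pow_eq_one F.zp) ?_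
    exact (Nat.coprime_comm.mp (hp.out.coprime_iff_not_dvd.mpr fun hd => hm (by
      obtain ⟨c, rfl⟩ := hd
      rw [pow_mul, F.zp, one_pow]))))
  refine F.zfix e ?_
  rw [← hk, map_pow]
  exact pow_fixed he k

omit [Finite P] in
theorem card_ge (S : Subgroup E) (hS : ∀ e ∈ S, φ z e ∈ S) (hne : S ≠ ⊥) : p + 1 ≤ Nat.card S := by
  obtain ⟨v, hv, hv1⟩ := (Subgroup.bot_or_exists_ne_one S).resolve_left hne
  have hmem : ∀ i : ℕ, φ (z ^ i) v ∈ S := fun i => by
    induction i with
    | zero => simpa using hv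
    | succ i ih => rw [pow_succ', map_mul, MulAut.mul_apply]; exact hS _ ih
  let f : Option (Fin p) → S := fun o => o.elim 1 fun i => ⟨_, hmem i⟩
  have key : ∀ i j : Fin p, i < j → φ (z ^ (i : ℕ)) v ≠ φ (z ^ (j : ℕ)) v := fun i j h he => by
    refine hv1 (F.zpow_fix (m := (j : ℕ) - i) (fun h1 => ?_) ((φ (z ^ (i : ℕ))).injective ?_))
    · refine hv1 (F.zfix v ?_)
      have hj : ((j : ℕ) - i).Coprime p := Nat.coprime_comm.mp (hp.out.coprime_iff_not_dvd.mpr fun hd => by
        have := Nat.le_of_dvd (by omega) hd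
        omega)
      have : z = 1 := orderOf_eq_one_iff.mp (Nat.eq_one_of_dvd_coprimes hj (orderOf_dvd_of_pow_eq_one h1)
        (orderOf_dvd_of_pow_eq_one F.zp))
      rw [this, map_one, MulAut.one_apply]
    · rw [← MulAut.mul_apply, ← map_mul, ← pow_add, show (i : ℕ) + ((j : ℕ) - i) = j by omega]
      exact he.symm
  have hinj : Function.Injective f := by
    rintro (_ | i) (_ | j) h
    · rfl
    · exact absurd ((φ (z ^ (j : ℕ))).injective ((congrArg Subtype.val h).symm.trans (map_one _).symm)) hv1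
    · exact absurd ((φ (z ^ (i : ℕ))).injective ((congrArg Subtype.val h).trans (map_one _).symm)) hv1
    · rcases lt_trichotomy i j with h' | h' | h'
      · exact absurd (congrArg Subtype.val h) (key i j h')
      · rw [h']
      · exact absurd (congrArg Subtype.val h).symm (key j i h')
  calc p + 1 = Nat.card (Option (Fin p)) := by rw [Nat.card_eq_fintype_card, Fintype.card_option, Fintype.card_fin]
    _ ≤ Nat.card S := Nat.card_le_card_of_injective f hinj

omit [Finite P] [Finite E] in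
theorem fixed_ne_bot : fixed φ a ≠ ⊥ := fun h => by
  obtain ⟨e, he, he'⟩ := F.afix
  exact he (Subgroup.mem_bot.mp (h ▸ mem_fixed.mpr he'))

omit [Finite P] [Finite E] in
theorem az : a * z = z * a := F.zc a

omit [Finite P] in
theorem sep {m : ℕ} (hm : z ^ m ≠ 1) {e : E} (he : φ (a * z ^ m) e = e) : proj p (φ a) e = 1 := by
  have hfa : φ a (proj p (φ a) e) = proj p (φ a) e := apply_proj (by rw [← map_pow, F.ap, map_one]) e
  have hfz : φ (a * z ^ m) (proj p (φ a) e) = proj p (φ a) e :=
    commute_proj ((show Commute (a * z ^ m) a from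
      Commute.mul_left (Commute.refl a) (((show Commute a z from F.az).pow_right m).symm)).map φ) he
  refine F.zpow_fix hm ?_
  rw [((show Commute a z from F.az).pow_right m).eq, map_mul, MulAut.mul_apply, hfa] at hfz
  exact hfz

omit [Finite P] [Finite E] in
theorem conj_pow_eq {b : P} {i : ℕ} (hi : b * a * b⁻¹ = a * z ^ i) (t : ℕ) :
    b ^ t * a * (b ^ t)⁻¹ = a * z ^ (i * t) := by
  induction t with
  | zero => simp
  | succ t ih =>
    calc b ^ (t + 1) * a * (b ^ (t + 1))⁻¹ = b * (b ^ t * a * (b ^ t)⁻¹) * b⁻¹ := by group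
      _ = b * a * (z ^ (i * t) * b⁻¹) := by rw [ih]; group
      _ = b * a * (b⁻¹ * z ^ (i * t)) := by rw [((show Commute b⁻¹ z from F.zc _).pow_right (i * t)).eq]
      _ = a * z ^ (i * (t + 1)) := by rw [← mul_assoc, hi, mul_assoc, ← pow_add]; ring_nf

omit [Finite P] [Finite E] in
theorem conj_eq_of_mem {g : P} (hg : g ∈ Subgroup.centralizer ({a} : Set P)) : g * a = a * g :=
  Subgroup.mem_centralizer_singleton_iff.mp hg

omit [Finite P] [Finite E] in
theorem zpow_ne {b : P} (hb : b ∉ Subgroup.centralizer ({a} : Set P)) {i : ℕ} (hi : b * a * b⁻¹ = a * z ^ i)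
    {t : ℕ} (ht0 : 0 < t) (ht : t < p) : z ^ (i * t) ≠ 1 := fun h => by
  refine hb (Subgroup.mem_centralizer_singleton_iff.mpr ?_)
  have h1 : z ^ i = 1 := by
    refine orderOf_eq_one_iff.mp (Nat.eq_one_of_dvd_coprimes (hp.out.coprime_iff_not_dvd.mpr fun hd => by
      have := Nat.le_of_dvd ht0 hd
      omega) (orderOf_dvd_of_pow_eq_one (by rw [← pow_mul, mul_comm, pow_mul, F.zp, one_pow])) ?_)
    exact orderOf_dvd_of_pow_eq_one (by rw [← pow_mul, h])
  rw [h1, mul_one] at hi
  exact mul_inv_eq_iff_eq_mul.mp hi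

omit [Finite P] [Finite E] in
theorem pow_mem_centralizer (b : P) : b ^ p ∈ Subgroup.centralizer ({a} : Set P) := by
  obtain ⟨i, hi⟩ := F.aconj b
  have h := F.conj_pow_eq hi p
  rw [mul_comm i, pow_mul, F.zp, one_pow, mul_one] at h
  exact Subgroup.mem_centralizer_singleton_iff.mpr (mul_inv_eq_iff_eq_mul.mp h)

omit [Finite P] [Finite E] in
theorem centralizer_normal : (Subgroup.centralizer ({a} : Set P)).Normal := by
  refine ⟨fun n hn g => Subgroup.mem_centralizer_singleton_iff.mpr ?_⟩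
  obtain ⟨i, hi⟩ := F.aconj g⁻¹
  rw [inv_inv] at hi
  have h1 : n * (g⁻¹ * a * g) = g⁻¹ * a * g * n := by
    rw [hi, ← mul_assoc, F.conj_eq_of_mem hn, mul_assoc a n, ((show Commute n z from F.zc n).pow_right i).eq, ← mul_assoc]
  calc g * n * g⁻¹ * a = g * (n * (g⁻¹ * a * g)) * g⁻¹ := by group
    _ = g * (g⁻¹ * a * g * n) * g⁻¹ := by rw [h1]
    _ = a * (g * n * g⁻¹) := by group

omit [Finite P] in
/-- The translates of the fixed points of `a` are independent. -/
theorem recover {b : P} (hb : b ∉ Subgroup.centralizer ({a} : Set P)) (f : Fin p → E)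
    (hf : ∀ t, f t ∈ fixed φ a) (s : Fin p) :
    proj p (φ a) (φ ((b ^ (s : ℕ))⁻¹) (∏ t : Fin p, φ (b ^ (t : ℕ)) (f t))) = f s ^ p := by
  obtain ⟨i, hi⟩ := F.aconj b
  rw [map_prod, map_prod, Finset.prod_eq_single s]
  · rw [← MulAut.mul_apply, ← map_mul, inv_mul_cancel, map_one, MulAut.one_apply, proj_fixed (mem_fixed.mp (hf s))]
  · intro t _ hts
    rw [← MulAut.mul_apply, ← map_mul]
    have hne : (t : ℕ) ≠ s := fun e => hts (Fin.ext e)
    rcases lt_or_gt_of_ne hne with h | h
    · have hw : (b ^ (s : ℕ))⁻¹ * b ^ (t : ℕ) = b ^ (p - (s - t) : ℕ) * (b ^ p)⁻¹ := by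
        rw [eq_mul_inv_iff_mul_eq, mul_assoc, ← pow_add, show (t : ℕ) + p = s + (p - (s - t)) by omega, pow_add,
          inv_mul_cancel_left]
      rw [hw, map_mul, MulAut.mul_apply]
      refine F.sep (F.zpow_ne hb hi (t := p - (s - t)) (by omega) (by omega)) ?_
      rw [← F.conj_pow_eq hi]
      exact conj_fix _ (fixed_invariant (F.conj_eq_of_mem (inv_mem (F.pow_mem_centralizer b))) (hf t))
    · have hw : (b ^ (s : ℕ))⁻¹ * b ^ (t : ℕ) = b ^ ((t : ℕ) - s) := by
        rw [inv_mul_eq_iff_eq_mul, ← pow_add]; congr 1; omega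
      rw [hw]
      refine F.sep (F.zpow_ne hb hi (t := (t : ℕ) - s) (by omega) (by omega)) ?_
      rw [← F.conj_pow_eq hi]
      exact conj_fix _ (hf t)
  · exact fun h => absurd (Finset.mem_univ s) h

omit [Finite P] in
theorem fixed_card : p + 1 ≤ Nat.card (fixed φ a) :=
  F.card_ge _ (fun _ he => fixed_invariant F.az.symm he) F.fixed_ne_bot

omit [Finite P] in
/-- An element moving the blocks displaces all but one of them. -/
theorem card_disp_of_moves {b : P} (hb : b ∉ Subgroup.centralizer ({a} : Set P)) :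
    (p + 1) ^ (p - 1) ≤ Nat.card (disp (φ b)).range := by
  refine le_trans (Nat.pow_le_pow_left F.fixed_card _) ?_
  let ext : (Fin (p - 1) → fixed φ a) → Fin p → E := fun f t => if h : (t : ℕ) < p - 1 then (f ⟨t, h⟩ : E) else 1
  have hext : ∀ f t, ext f t ∈ fixed φ a := fun f t => by
    simp only [ext]; split
    · exact Subtype.mem _
    · exact one_mem _
  let P₀ : (Fin (p - 1) → fixed φ a) → E := fun f => ∏ t : Fin p, φ (b ^ (t : ℕ)) (ext f t)
  have hinj : Function.Injective fun f => (⟨_, P₀ f, rfl⟩ : (disp (φ b)).range) := by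
    intro f f' h
    have h1 : disp (φ b) (P₀ f / P₀ f') = 1 := by rw [map_div, div_eq_one]; exact congrArg Subtype.val h
    rw [disp_apply, div_eq_one] at h1
    have hprod : P₀ f / P₀ f' = ∏ t : Fin p, φ (b ^ (t : ℕ)) (ext f t / ext f' t) := by
      simp only [P₀, map_div, Finset.prod_div_distrib]
    have hall : ∀ s : Fin p, (ext f s / ext f' s) ^ p = proj p (φ a) (P₀ f / P₀ f') := fun s => by
      rw [← F.recover hb (fun t => ext f t / ext f' t) (fun t => div_mem (hext f t) (hext f' t)) s, ← hprod]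
      congr 1
      have h2 : φ (b ^ (s : ℕ)) (P₀ f / P₀ f') = P₀ f / P₀ f' := by rw [map_pow]; exact pow_fixed h1 _
      conv_lhs => rw [← h2]
      rw [← MulAut.mul_apply, ← map_mul, inv_mul_cancel, map_one, MulAut.one_apply]
    have hlast : ext f ⟨p - 1, Nat.sub_lt hp.out.pos one_pos⟩ / ext f' ⟨p - 1, Nat.sub_lt hp.out.pos one_pos⟩ = 1 := by
      simp [ext]
    funext t
    have h3 := hall ⟨t, lt_of_lt_of_le t.2 (Nat.sub_le _ _)⟩
    rw [← hall ⟨p - 1, Nat.sub_lt hp.out.pos one_pos⟩, hlast] at h3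
    have h4 := pow_inj F.cop h3
    simp only [ext, t.2, ↓reduceDIte, Fin.eta, div_eq_one] at h4
    exact Subtype.ext h4
  have := Nat.card_le_card_of_injective _ hinj
  rwa [Nat.card_fun, Nat.card_fin] at this

omit [Finite P] in
/-- An element of the stabiliser commuting with a transitive one displaces every block alike. -/
theorem card_disp_pow {b y : P} (hb : b ∉ Subgroup.centralizer ({a} : Set P)) (hby : b * y = y * b)
    (hy : y ∈ Subgroup.centralizer ({a} : Set P)) :
    Nat.card ((fixed φ a).map (disp (φ y))) ^ p ≤ Nat.card (disp (φ y)).range := by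
  have hsub : ∀ e ∈ (fixed φ a).map (disp (φ y)), e ∈ fixed φ a := by
    rintro _ ⟨e, he, rfl⟩
    exact div_mem (fixed_invariant (F.conj_eq_of_mem hy) he) he
  let P₀ : (Fin p → (fixed φ a).map (disp (φ y))) → E := fun f => ∏ t : Fin p, φ (b ^ (t : ℕ)) (f t : E)
  have hmem : ∀ f, P₀ f ∈ (disp (φ y)).range := fun f => by
    refine Subgroup.prod_mem _ fun t _ => ?_
    obtain ⟨e, -, he⟩ := (f t).2
    refine ⟨φ (b ^ (t : ℕ)) e, ?_⟩
    rw [← he, disp_apply, disp_apply, map_div, ← MulAut.mul_apply, ← map_mul,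
      ← ((show Commute b y from hby).pow_left _).eq, map_mul, MulAut.mul_apply]
  have hinj : Function.Injective fun f => (⟨_, hmem f⟩ : (disp (φ y)).range) := by
    intro f f' h
    funext s
    have h1 : P₀ f = P₀ f' := congrArg Subtype.val h
    refine Subtype.ext (pow_inj F.cop ?_)
    rw [← F.recover hb (fun t => (f t : E)) (fun t => hsub _ (f t).2) s,
      ← F.recover hb (fun t => (f' t : E)) (fun t => hsub _ (f' t).2) s]
    exact congrArg (fun w => proj p (φ a) (φ (b ^ (s : ℕ))⁻¹ w)) h1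
  have := Nat.card_le_card_of_injective _ hinj
  rwa [Nat.card_fun, Nat.card_fin] at this

omit [Finite P] in
/-- An element of the stabiliser displacing two blocks. -/
theorem card_disp_two {g y : P} (hg : g ∉ Subgroup.centralizer ({a} : Set P))
    (hy : y ∈ Subgroup.centralizer ({a} : Set P)) {e₀ e₁ : E} (he₀ : φ a e₀ = e₀) (h0 : φ y e₀ ≠ e₀)
    (he₁ : φ (g * a * g⁻¹) e₁ = e₁) (h1 : φ y e₁ ≠ e₁) :
    (p + 1) ^ 2 ≤ Nat.card (disp (φ y)).range := by
  have hy' : y * (g * a * g⁻¹) = g * a * g⁻¹ * y := by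
    obtain ⟨i, hi⟩ := F.aconj g
    rw [hi, ← mul_assoc, F.conj_eq_of_mem hy, mul_assoc a y, ((show Commute y z from F.zc y).pow_right i).eq, ← mul_assoc]
  have hinv : ∀ b : P, y * b = b * y → Frame p φ z b → ∀ e ∈ (fixed φ b).map (disp (φ y)),
      φ z e ∈ (fixed φ b).map (disp (φ y)) := by
    rintro b _ Fb _ ⟨e, he, rfl⟩
    refine ⟨φ z e, fixed_invariant Fb.az.symm he, ?_⟩
    rw [disp_apply, disp_apply, map_div, ← MulAut.mul_apply, ← map_mul, F.zc y, map_mul, MulAut.mul_apply]
  have c0 : p + 1 ≤ Nat.card ((fixed φ a).map (disp (φ y))) := F.card_ge _ (hinv a (F.conj_eq_of_mem hy) F)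
    fun h => h0 (div_eq_one.mp (Subgroup.mem_bot.mp (h ▸ Subgroup.mem_map_of_mem (disp (φ y)) (mem_fixed.mpr he₀))))
  have c1 : p + 1 ≤ Nat.card ((fixed φ (g * a * g⁻¹)).map (disp (φ y))) := F.card_ge _ (hinv _ hy' (F.conj g))
    fun h => h1 (div_eq_one.mp (Subgroup.mem_bot.mp (h ▸ Subgroup.mem_map_of_mem (disp (φ y)) (mem_fixed.mpr he₁))))
  refine le_trans ((pow_two (p + 1)).le.trans (Nat.mul_le_mul c0 c1)) ?_
  rw [← Nat.card_prod]
  refine Nat.card_le_card_of_injective
    (fun w => ⟨(w.1 : E) * w.2, mul_mem (Subgroup.map_le_range _ _ w.1.2) (Subgroup.map_le_range _ _ w.2.2)⟩) ?_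
  intro w w' h
  have h2 : (w.1 : E) * w.2 = (w'.1 : E) * w'.2 := congrArg Subtype.val h
  have hfix : ∀ (b : P), y * b = b * y → ∀ e ∈ (fixed φ b).map (disp (φ y)), φ b e = e := by
    rintro b hb _ ⟨e, he, rfl⟩
    exact mem_fixed.mp (div_mem (fixed_invariant hb he) he)
  obtain ⟨i, hi⟩ := F.aconj g
  have hzi : z ^ i ≠ 1 := by
    simpa using F.zpow_ne hg hi (t := 1) one_pos hp.out.one_lt
  have hπ : ∀ x : ((fixed φ (g * a * g⁻¹)).map (disp (φ y)) : Subgroup E), proj p (φ a) (x : E) = 1 :=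
    fun x => F.sep hzi (hi ▸ hfix _ hy' _ x.2)
  have h3 := congrArg (proj p (φ a)) h2
  rw [map_mul, map_mul, hπ, hπ, mul_one, mul_one, proj_fixed (hfix a (F.conj_eq_of_mem hy) _ w.1.2),
    proj_fixed (hfix a (F.conj_eq_of_mem hy) _ w'.1.2)] at h3
  have h4 := pow_inj F.cop h3
  rw [h4, mul_right_inj] at h2
  exact Prod.ext (Subtype.ext h4) (Subtype.ext h2)

end Frame

omit [Finite P] in
/-- For an irreducible nonabelian group there is a frame. -/
theorem exists_frame [Finite P] (hp2 : p ≠ 2) (hP : IsPGroup p P) (hcop : (Nat.card E).Coprime p) [Nontrivial E]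
    (φ : P →* MulAut E) (hinj : Function.Injective φ)
    (hirr : ∀ S : Subgroup E, (∀ g, ∀ e ∈ S, φ g e ∈ S) → S = ⊥ ∨ S = ⊤) (hnc : ¬ ∀ g h : P, g * h = h * g) :
    ∃ z a, Frame p φ z a := by
  classical
  haveI : Group.IsNilpotent P := hP.isNilpotent
  have hfix : ∀ c : P, (∀ g, g * c = c * g) → c ≠ 1 → fixed φ c = ⊥ := fun c hc hc1 => by
    refine (hirr (fixed φ c) fun g e he => fixed_invariant (hc g) he).resolve_right fun h => hc1 (hinj ?_)
    rw [map_one]
    exact MulEquiv.ext fun e => mem_fixed.mp (h ▸ Subgroup.mem_top e)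
  have hncyc : ¬ IsCyclic (⊤ : Subgroup P) := fun h => hnc fun g k => by
    haveI := h
    exact congrArg Subtype.val ((IsCyclic.isMulCommutative (α := (⊤ : Subgroup P))).is_comm.comm ⟨g, trivial⟩ ⟨k, trivial⟩)
  obtain ⟨A, -, hAn, ⟨hAab, hAe⟩, hAc⟩ := CfsgLib.CyclicMax.exists_normal_sq hP hp2 ⊤ hncyc
  haveI := hAn
  have hAne : A ≠ ⊥ := fun h => by
    rw [h, Subgroup.card_bot] at hAc
    exact (Nat.one_lt_pow two_ne_zero hp.out.one_lt).ne hAc
  obtain ⟨z, hz, hz1⟩ := (Subgroup.bot_or_exists_ne_one _).resolve_left (CfsgLib.inf_center_ne_bot_of_nilpotent hAne)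
  obtain ⟨hzA, hzZ⟩ := Subgroup.mem_inf.mp hz
  have hzc : ∀ g, g * z = z * g := Subgroup.mem_center_iff.mp hzZ
  have hzp : z ^ p = 1 := hAe z hzA
  have hzfix : ∀ e, φ z e = e → e = 1 := fun e he =>
    Subgroup.mem_bot.mp (hfix z hzc hz1 ▸ mem_fixed.mpr he)
  have hzo : Nat.card (Subgroup.zpowers z) = p := by rw [Nat.card_zpowers, orderOf_eq_prime hzp hz1]
  obtain ⟨a₀, ha₀, ha₀z⟩ : ∃ a₀ ∈ A, a₀ ∉ Subgroup.zpowers z := by
    refine SetLike.not_le_iff_exists.mp fun h => ?_
    have := Subgroup.card_le_of_le h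
    rw [hAc, hzo, pow_two] at this
    exact absurd this (not_le.mpr (lt_mul_of_one_lt_left hp.out.pos hp.out.one_lt))
  obtain ⟨v, hv⟩ := exists_ne (1 : E)
  obtain ⟨i, -, hi⟩ : ∃ i ∈ Finset.range p, proj p (φ (a₀ * z ^ i)) v ≠ 1 := by
    by_contra hcon
    push Not at hcon
    have hprod : ∏ i ∈ Finset.range p, proj p (φ (a₀ * z ^ i)) v = 1 := Finset.prod_eq_one hcon
    simp only [proj_apply] at hprod
    rw [Finset.prod_comm, Finset.prod_eq_single_of_mem 0 (Finset.mem_range.mpr hp.out.pos) fun t ht ht0 => ?_] at hprod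
    · simp only [pow_zero, MulAut.one_apply, Finset.prod_const, Finset.card_range] at hprod
      exact hv (eq_one_of_pow (t := 1) hcop (by rwa [pow_one]))
    · have hcomm : Commute (a₀ : P) z := hzc a₀
      have h1 : ∏ i ∈ Finset.range p, (φ (a₀ * z ^ i) ^ t) v =
          φ (a₀ ^ t) (proj p (φ (z ^ t)) v) := by
        rw [proj_apply, map_prod (φ (a₀ ^ t))]
        refine Finset.prod_congr rfl fun i _ => ?_
        rw [← map_pow, (hcomm.pow_right i).mul_pow, map_mul, MulAut.mul_apply, ← map_pow φ, ← pow_mul, ← pow_mul, mul_comm]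
      have h2 : φ (z ^ t) (proj p (φ (z ^ t)) v) = proj p (φ (z ^ t)) v :=
        apply_proj (by rw [← map_pow, ← pow_mul, mul_comm, pow_mul, hzp, one_pow, map_one]) v
      have hne : z ^ t ≠ 1 := fun h => hz1 (orderOf_eq_one_iff.mp (Nat.eq_one_of_dvd_coprimes
        (Nat.coprime_comm.mp (hp.out.coprime_iff_not_dvd.mpr fun hd => by
          have := Nat.le_of_dvd (Nat.pos_of_ne_zero ht0) hd
          have := Finset.mem_range.mp ht
          omega))
        (orderOf_dvd_of_pow_eq_one h) (orderOf_dvd_of_pow_eq_one hzp)))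
      have h3 : proj p (φ (z ^ t)) v = 1 := Subgroup.mem_bot.mp
        (hfix (z ^ t) (fun g => ((show Commute g z from hzc g).pow_right t).eq) hne ▸ mem_fixed.mpr h2)
      rw [h1, h3, map_one]
  set a := a₀ * z ^ i with ha
  have haA : a ∈ A := mul_mem ha₀ (pow_mem hzA i)
  have hap : a ^ p = 1 := hAe a haA
  -- the image of `A` modulo `z` is central
  haveI : (Subgroup.zpowers z).Normal := ⟨fun n hn g => by
    obtain ⟨k, rfl⟩ := hn
    rw [((show Commute g z from hzc g).zpow_right k).eq, mul_inv_cancel_right]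
    exact ⟨k, rfl⟩⟩
  set π := QuotientGroup.mk' (Subgroup.zpowers z) with hπ
  haveI : (A.map π).Normal := hAn.map π (QuotientGroup.mk'_surjective _)
  haveI : Group.IsNilpotent (P ⧸ Subgroup.zpowers z) := (hP.to_quotient _).isNilpotent
  have hcard : Nat.card (A.map π) = p := by
    have h1 := Subgroup.card_eq_card_quotient_mul_card_subgroup ((Subgroup.zpowers z).subgroupOf A)
    rw [hAc, Nat.card_congr (Subgroup.subgroupOfEquivOfLe (Subgroup.zpowers_le.mpr hzA)).toEquiv, hzo, pow_two] at h1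
    have h2 : ((Subgroup.zpowers z).subgroupOf A) = (π.comp A.subtype).ker := by
      rw [← MonoidHom.comap_ker, hπ, QuotientGroup.ker_mk']; rfl
    rw [← Subgroup.range_subtype A, ← MonoidHom.range_comp, ← Subgroup.index_ker, ← h2]
    exact (Nat.eq_of_mul_eq_mul_right hp.out.pos h1).symm
  have hcent : A.map π ≤ Subgroup.center _ := by
    have hne : A.map π ≠ ⊥ := fun h => by
      rw [h, Subgroup.card_bot] at hcard
      exact hp.out.one_lt.ne hcard
    have h1 := CfsgLib.inf_center_ne_bot_of_nilpotent hne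
    have h2 : A.map π ⊓ Subgroup.center _ = A.map π := by
      refine Subgroup.eq_of_le_of_card_ge inf_le_left ?_
      rcases (Nat.dvd_prime hp.out).mp (hcard ▸ Subgroup.card_dvd_of_le (inf_le_left (b := Subgroup.center (P ⧸ Subgroup.zpowers z)) (a := A.map π))) with h | h
      · exact absurd (Subgroup.eq_bot_of_card_eq _ h) h1
      · rw [h, hcard]
    exact h2 ▸ inf_le_right
  refine ⟨z, a, hcop, hzc, hzp, hzfix, hap, fun g => ?_, ⟨proj p (φ a) v, hi, apply_proj (by rw [← map_pow, hap, map_one]) v⟩, fun h => ha₀z ?_⟩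
  rotate_left
  · rw [eq_inv_of_mul_eq_one_left h]
    exact inv_mem (Subgroup.pow_mem _ (Subgroup.mem_zpowers z) i)
  have h1 := Subgroup.mem_center_iff.mp (hcent (Subgroup.mem_map_of_mem π haA)) (π g)
  rw [← map_mul, ← map_mul, hπ, QuotientGroup.mk'_eq_mk'] at h1
  obtain ⟨w, hw, hw'⟩ := h1
  obtain ⟨k, hk⟩ := (isOfFinOrder_of_finite z).mem_powers_iff_mem_zpowers.mpr (inv_mem hw)
  refine ⟨k, mul_inv_eq_iff_eq_mul.mpr ?_⟩
  have hw'' : g * a = a * g * w⁻¹ := eq_mul_inv_iff_mul_eq.mpr hw'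
  rw [hw'', mul_assoc a g, mul_assoc a (z ^ k) g, ← ((show Commute g z from hzc g).pow_right k).eq]
  congr 2
  exact hk.symm

end action

/-- The transfer of an element of a normal subgroup. -/
theorem transfer_apply_of_mem {G : Type u} [Group G] (N : Subgroup G) [N.Normal] [N.FiniteIndex] {A : Type u}
    [CommGroup A] (ψ : N →* A) {y : G} (hy : y ∈ N) :
    ∃ t : G ⧸ N → G, (∀ q, (t q : G ⧸ N) = q) ∧
      MonoidHom.transfer ψ y =
        letI := N.fintypeQuotientOfFiniteIndex
        ∏ q : G ⧸ N, ψ ⟨(t q)⁻¹ * y * t q, by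
          have h := (inferInstance : N.Normal).conj_mem y hy (t q)⁻¹
          rwa [inv_inv] at h⟩ := by
  classical
  letI := N.fintypeQuotientOfFiniteIndex
  let T : N.LeftTransversal := default
  refine ⟨fun q => (T.2.leftQuotientEquiv q : G), fun q => T.2.leftQuotientEquiv.symm_apply_apply q, ?_⟩
  rw [MonoidHom.transfer_def ψ T]
  unfold Subgroup.leftTransversals.diff
  refine Finset.prod_congr rfl fun q _ => congrArg ψ (Subtype.ext ?_)
  have hq : y⁻¹ • q = q := by
    obtain ⟨g, rfl⟩ := QuotientGroup.mk_surjective q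
    show ((y⁻¹ * g : G) : G ⧸ N) = g
    rw [QuotientGroup.eq]
    simpa [mul_assoc] using (inferInstance : N.Normal).conj_mem y hy g⁻¹
  show ((T.2.leftQuotientEquiv q : G))⁻¹ * ((y • T).2.leftQuotientEquiv q : G) = (T.2.leftQuotientEquiv q : G)⁻¹ * y * T.2.leftQuotientEquiv q
  rw [Subgroup.smul_apply_eq_smul_apply_inv_smul, hq, smul_eq_mul, mul_assoc]

/-- Elements of small displacement commute. -/
theorem commute_good : ∀ (n : ℕ) {P E : Type u} [Group P] [Finite P] [CommGroup E] [Finite E],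
    Nat.card E ≤ n → p ≠ 2 → IsPGroup p P → (Nat.card E).Coprime p → ∀ (φ : P →* MulAut E) (y y' : P),
    Good p φ y → Good p φ y' → φ ⁅y, y'⁆ = 1 := by
  intro n
  induction n with
  | zero =>
    intro P E _ _ _ _ hn
    exact absurd hn (by have := Nat.card_pos (α := E); omega)
  | succ n ih =>
    intro P E _ _ _ _ hn hp2 hP hcop φ y y' hy hy'
    classical
    obtain ⟨t, ht⟩ := hP ⁅y, y'⁆
    by_cases hred : ∃ S : Subgroup E, (∀ g, ∀ e ∈ S, φ g e ∈ S) ∧ S ≠ ⊥ ∧ S ≠ ⊤
    · obtain ⟨S, hS, hbot, htop⟩ := hred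
      have hlt1 : Nat.card S < Nat.card E := lt_of_le_of_ne (Subgroup.card_le_card_group S) fun h =>
        htop (Subgroup.eq_top_of_card_eq S h)
      have hlt2 : Nat.card (E ⧸ S) < Nat.card E := by
        rw [Subgroup.card_eq_card_quotient_mul_card_subgroup S]
        exact lt_mul_of_one_lt_right Nat.card_pos (Finite.one_lt_card_iff_nontrivial.mpr
          ((Subgroup.nontrivial_iff_ne_bot _).mpr hbot))
      have h1 := ih (E := S) (by omega) hp2 hP (hcop.coprime_dvd_left (Subgroup.card_subgroup_dvd_card S))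
        (restr φ S hS) y y' (good_restr hy S hS) (good_restr hy' S hS)
      have h2 := ih (E := E ⧸ S) (by omega) hp2 hP (hcop.coprime_dvd_left (Subgroup.card_quotient_dvd_card S))
        (quot φ S hS) y y' (good_quot hy S hS) (good_quot hy' S hS)
      refine eq_one_of_chain hcop (f := φ ⁅y, y'⁆) (t := t) (by rw [← map_pow, ht, map_one]) S (fun e he => ?_)
        fun e => ?_
      · exact congrArg Subtype.val (DFunLike.congr_fun h1 (⟨e, he⟩ : S))
      · have h3 := DFunLike.congr_fun h2 (e : E ⧸ S)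
        rw [quot_apply, MulAut.one_apply] at h3
        rwa [← QuotientGroup.eq_one_iff, QuotientGroup.mk_div, div_eq_one]
    push Not at hred
    rcases subsingleton_or_nontrivial E with hs | hnt
    · exact MulEquiv.ext fun e => Subsingleton.elim _ _
    -- pass to the image
    let Pb := P ⧸ φ.ker
    let φb : Pb →* MulAut E := QuotientGroup.kerLift φ
    have hPb : IsPGroup p Pb := hP.to_quotient _
    suffices φb ⁅(y : Pb), (y' : Pb)⁆ = 1 by exact this
    have hb : ∀ w : P, Good p φ w → Good p φb (w : Pb) := fun w ⟨a, j, ha, hlt⟩ =>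
      ⟨a, j, by rw [← ha]; rfl, hlt⟩
    have hby := hb y hy
    have hby' := hb y' hy'
    generalize (y : Pb) = Y at hby ⊢
    generalize (y' : Pb) = Y' at hby' ⊢
    by_cases hnc : ∀ g h : Pb, g * h = h * g
    · rw [commutatorElement_eq_one_iff_mul_comm.mpr (hnc _ _), map_one]
    have hirr : ∀ S : Subgroup E, (∀ g, ∀ e ∈ S, φb g e ∈ S) → S = ⊥ ∨ S = ⊤ := fun S hS =>
      or_iff_not_imp_left.mpr (hred S fun g e he => hS (g : Pb) e he)
    obtain ⟨z, a, F⟩ := exists_frame hp2 hPb hcop φb (QuotientGroup.kerLift_injective φ) hirr hnc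
    -- the elements lie in every block stabiliser and are good on every block
    have key : ∀ b : Pb, Frame p φb z b → ∀ e ∈ fixed φb b, φb ⁅Y, Y'⁆ e = e := by
      intro b Fb e he
      haveI := Fb.centralizer_normal
      set N := Subgroup.centralizer ({b} : Set Pb) with hN
      have hinv : ∀ g : N, ∀ e ∈ fixed φb b, φb.comp N.subtype g e ∈ fixed φb b := fun g e he =>
        fixed_invariant (Fb.conj_eq_of_mem g.2) he
      have hgood : ∀ w : Pb, Good p φb w → ∃ hw : w ∈ N,
          Good p (restr (φb.comp N.subtype) (fixed φb b) hinv) ⟨w, hw⟩ := by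
        rintro w ⟨c, j, rfl, hlt⟩
        by_cases hc : c ∈ N
        · exact ⟨pow_mem hc _, ⟨c, hc⟩, j, Subtype.ext (by simp),
            ((card_disp_restr (φb.comp N.subtype) (fixed φb b) hinv _)).trans_lt hlt⟩
        · rcases j with _ | j
          · exfalso
            rw [pow_zero, pow_one, mul_one] at hlt
            exact (lt_irrefl _) (hlt.trans_le (Fb.card_disp_of_moves hc))
          have hcp : c ^ p ^ (j + 1) = (c ^ p) ^ p ^ j := by rw [← pow_mul, pow_succ']
          have hw : c ^ p ^ (j + 1) ∈ N := hcp ▸ pow_mem (Fb.pow_mem_centralizer c) _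
          refine ⟨hw, ⟨c ^ p, Fb.pow_mem_centralizer c⟩, j, Subtype.ext (by simpa using hcp.symm), ?_⟩
          have h1 := Fb.card_disp_pow hc (Commute.self_pow c _).eq hw
          have h2 : Nat.card (disp (restr (φb.comp N.subtype) (fixed φb b) hinv ⟨_, hw⟩)).range ≤
              Nat.card ((fixed φb b).map (disp (φb (c ^ p ^ (j + 1))))) := by
            rw [← Subgroup.card_map_of_injective (fixed φb b).subtype_injective]
            refine Subgroup.card_le_of_le ?_
            rintro _ ⟨_, ⟨f, rfl⟩, rfl⟩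
            exact ⟨f, f.2, rfl⟩
          refine h2.trans_lt (lt_of_pow_lt_pow_left₀ p (Nat.zero_le _) (h1.trans_lt ?_))
          rw [← pow_mul, mul_assoc, ← pow_succ]
          exact hlt
      obtain ⟨hYN, hY⟩ := hgood Y hby
      obtain ⟨hYN', hY'⟩ := hgood Y' hby'
      have hlt : Nat.card (fixed φb b) < Nat.card E := lt_of_le_of_ne (Subgroup.card_le_card_group _) fun h => by
        have htop := Subgroup.eq_top_of_card_eq _ h
        exact Fb.ane (QuotientGroup.kerLift_injective φ ((MulEquiv.ext fun e => by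
          rw [MulAut.one_apply]; exact mem_fixed.mp (htop ▸ Subgroup.mem_top e)).trans (map_one _).symm))
      have h1 := ih (E := fixed φb b) (by omega) hp2 (hPb.to_subgroup N)
        (hcop.coprime_dvd_left (Subgroup.card_subgroup_dvd_card _))
        (restr (φb.comp N.subtype) (fixed φb b) hinv) ⟨Y, hYN⟩ ⟨Y', hYN'⟩ hY hY'
      exact congrArg Subtype.val (DFunLike.congr_fun h1 (⟨e, he⟩ : fixed φb b))
    let S : Subgroup E := ⨅ _ : Unit, (φb ⁅Y, Y'⁆).toMonoidHom.eqLocus (MonoidHom.id E)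
    let U : Subgroup E := ⨆ g : Pb, fixed φb (g * a * g⁻¹)
    have hU : U = ⊤ := by
      refine (hirr U fun h e he => ?_).resolve_left fun hbot => F.fixed_ne_bot (le_bot_iff.mp ?_)
      · refine (show U ≤ U.comap (φb h).toMonoidHom from iSup_le fun g e he => ?_) he
        refine Subgroup.mem_iSup_of_mem (h * g) (mem_fixed.mpr ?_)
        have := conj_fix h (mem_fixed.mp he)
        rwa [show h * (g * a * g⁻¹) * h⁻¹ = h * g * a * (h * g)⁻¹ by group] at this
      · rw [← hbot]
        exact (le_of_eq (by simp)).trans (le_iSup (fun g : Pb => fixed φb (g * a * g⁻¹)) 1)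
    refine MulEquiv.ext fun e => ?_
    have hle : U ≤ (φb ⁅Y, Y'⁆).toMonoidHom.eqLocus (MonoidHom.id E) := iSup_le fun g e he =>
      key _ (F.conj g) e he
    exact hle (hU ▸ Subgroup.mem_top e)

/-- A product of commutators displacing less than two blocks acts trivially. -/
theorem not_commutator : ∀ (n : ℕ) {P E : Type u} [Group P] [Finite P] [CommGroup E] [Finite E],
    Nat.card E ≤ n → p ≠ 2 → IsPGroup p P → (Nat.card E).Coprime p → ∀ (φ : P →* MulAut E) (y : P),
    y ∈ commutator P → Nat.card (disp (φ y)).range < (p + 1) ^ 2 → φ y = 1 := by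
  intro n
  induction n with
  | zero =>
    intro P E _ _ _ _ hn
    exact absurd hn (by have := Nat.card_pos (α := E); omega)
  | succ n ih =>
    intro P E _ _ _ _ hn hp2 hP hcop φ y hy hcard
    classical
    obtain ⟨t, ht⟩ := hP y
    by_cases hred : ∃ S : Subgroup E, (∀ g, ∀ e ∈ S, φ g e ∈ S) ∧ S ≠ ⊥ ∧ S ≠ ⊤
    · obtain ⟨S, hS, hbot, htop⟩ := hred
      have hlt1 : Nat.card S < Nat.card E := lt_of_le_of_ne (Subgroup.card_le_card_group S) fun h =>
        htop (Subgroup.eq_top_of_card_eq S h)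
      have hlt2 : Nat.card (E ⧸ S) < Nat.card E := by
        rw [Subgroup.card_eq_card_quotient_mul_card_subgroup S]
        exact lt_mul_of_one_lt_right Nat.card_pos (Finite.one_lt_card_iff_nontrivial.mpr
          ((Subgroup.nontrivial_iff_ne_bot _).mpr hbot))
      have h1 := ih (E := S) (by omega) hp2 hP (hcop.coprime_dvd_left (Subgroup.card_subgroup_dvd_card S))
        (restr φ S hS) y hy ((card_disp_restr φ S hS y).trans_lt hcard)
      have h2 := ih (E := E ⧸ S) (by omega) hp2 hP (hcop.coprime_dvd_left (Subgroup.card_quotient_dvd_card S))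
        (quot φ S hS) y hy ((card_disp_quot φ S hS y).trans_lt hcard)
      refine eq_one_of_chain hcop (f := φ y) (t := t) (by rw [← map_pow, ht, map_one]) S (fun e he => ?_)
        fun e => ?_
      · exact congrArg Subtype.val (DFunLike.congr_fun h1 (⟨e, he⟩ : S))
      · have h3 := DFunLike.congr_fun h2 (e : E ⧸ S)
        rw [quot_apply, MulAut.one_apply] at h3
        rwa [← QuotientGroup.eq_one_iff, QuotientGroup.mk_div, div_eq_one]
    push Not at hred
    rcases subsingleton_or_nontrivial E with hs | hnt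
    · exact MulEquiv.ext fun e => Subsingleton.elim _ _
    let Pb := P ⧸ φ.ker
    let φb : Pb →* MulAut E := QuotientGroup.kerLift φ
    have hPb : IsPGroup p Pb := hP.to_quotient _
    suffices φb (y : Pb) = 1 by exact this
    have hyb : (y : Pb) ∈ commutator Pb := by
      have h : (commutator P).map (QuotientGroup.mk' φ.ker) ≤ commutator Pb := by
        rw [commutator_def, Subgroup.map_commutator]
        exact Subgroup.commutator_mono le_top le_top
      exact h (Subgroup.mem_map_of_mem _ hy)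
    have hcard' : Nat.card (disp (φb (y : Pb))).range < (p + 1) ^ 2 := hcard
    generalize (y : Pb) = Y at hyb hcard' ⊢
    by_cases hnc : ∀ g h : Pb, g * h = h * g
    · have h : commutator Pb ≤ ⊥ := by
        rw [commutator_def, Subgroup.commutator_le]
        exact fun g _ h _ => Subgroup.mem_bot.mpr (commutatorElement_eq_one_iff_mul_comm.mpr (hnc g h))
      rw [Subgroup.mem_bot.mp (h hyb), map_one]
    have hirr : ∀ S : Subgroup E, (∀ g, ∀ e ∈ S, φb g e ∈ S) → S = ⊥ ∨ S = ⊤ := fun S hS =>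
      or_iff_not_imp_left.mpr (hred S fun g e he => hS (g : Pb) e he)
    obtain ⟨z, a, F⟩ := exists_frame hp2 hPb hcop φb (QuotientGroup.kerLift_injective φ) hirr hnc
    let U : Subgroup E := ⨆ g : Pb, fixed φb (g * a * g⁻¹)
    have hU : U = ⊤ := by
      refine (hirr U fun h e he => ?_).resolve_left fun hbot => F.fixed_ne_bot (le_bot_iff.mp ?_)
      · refine (show U ≤ U.comap (φb h).toMonoidHom from iSup_le fun g e he => ?_) he
        refine Subgroup.mem_iSup_of_mem (h * g) (mem_fixed.mpr ?_)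
        have := conj_fix h (mem_fixed.mp he)
        rwa [show h * (g * a * g⁻¹) * h⁻¹ = h * g * a * (h * g)⁻¹ by group] at this
      · rw [← hbot]
        exact (le_of_eq (by simp)).trans (le_iSup (fun g : Pb => fixed φb (g * a * g⁻¹)) 1)
    by_contra hY1
    obtain ⟨g, e, he, hye⟩ : ∃ g, ∃ e ∈ fixed φb (g * a * g⁻¹), φb Y e ≠ e := by
      by_contra hcon
      push Not at hcon
      exact hY1 (MulEquiv.ext fun e => (show U ≤ (φb Y).toMonoidHom.eqLocus (MonoidHom.id E) from
        iSup_le fun g e he => hcon g e he) (hU ▸ Subgroup.mem_top e))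
    have Fb := F.conj g
    generalize g * a * g⁻¹ = b at he Fb
    haveI := Fb.centralizer_normal
    set N := Subgroup.centralizer ({b} : Set Pb) with hN
    have hYN : Y ∈ N := by
      refine (show commutator Pb ≤ N from ?_) hyb
      rw [commutator_def, Subgroup.commutator_le]
      intro g _ h _
      obtain ⟨i, hi⟩ := Fb.aconj g
      obtain ⟨j, hj⟩ := Fb.aconj h
      have hm : ∀ (g h : Pb) (i j : ℕ), g * b * g⁻¹ = b * z ^ i → h * b * h⁻¹ = b * z ^ j →
          g * h * b * (g * h)⁻¹ = b * z ^ (i + j) := fun g h i j hi hj => by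
        calc g * h * b * (g * h)⁻¹ = g * (h * b * h⁻¹) * g⁻¹ := by group
          _ = g * b * (z ^ j * g⁻¹) := by rw [hj]; group
          _ = g * b * (g⁻¹ * z ^ j) := by rw [((show Commute g⁻¹ z from Fb.zc _).pow_right j).eq]
          _ = b * z ^ (i + j) := by rw [← mul_assoc, hi, mul_assoc, ← pow_add]
      have h1 := hm g h i j hi hj
      have h2 := hm h g j i hj hi
      rw [add_comm] at h2
      have h5 : ((h * g)⁻¹ * (g * h)) * b = b * ((h * g)⁻¹ * (g * h)) := by
        have h6 := h1.trans h2.symm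
        calc ((h * g)⁻¹ * (g * h)) * b = (h * g)⁻¹ * (g * h * b * (g * h)⁻¹) * (g * h) := by group
          _ = _ := by rw [h6]; group
      refine Subgroup.mem_centralizer_singleton_iff.mpr ?_
      have h7 : ∀ w k : Pb, w * b = b * w → k * w * k⁻¹ * b = b * (k * w * k⁻¹) := fun w k hw => by
        have := Fb.centralizer_normal.conj_mem w (Subgroup.mem_centralizer_singleton_iff.mpr hw) k
        exact Fb.conj_eq_of_mem this
      rw [show ⁅g, h⁆ = (h * g) * ((h * g)⁻¹ * (g * h)) * (h * g)⁻¹ by rw [commutatorElement_def]; group]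
      exact h7 _ _ h5
    have hlt : Nat.card (fixed φb b) < Nat.card E := lt_of_le_of_ne (Subgroup.card_le_card_group _) fun h => by
      have htop := Subgroup.eq_top_of_card_eq _ h
      exact Fb.ane (QuotientGroup.kerLift_injective φ ((MulEquiv.ext fun e => by
        rw [MulAut.one_apply]; exact mem_fixed.mp (htop ▸ Subgroup.mem_top e)).trans (map_one _).symm))
    have hinv : ∀ g : N, ∀ e ∈ fixed φb b, φb.comp N.subtype g e ∈ fixed φb b := fun g e he =>
      fixed_invariant (Fb.conj_eq_of_mem g.2) he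
    set ψ₀ := restr (φb.comp N.subtype) (fixed φb b) hinv with hψ₀
    set ψ : N →* Abelianization ψ₀.range := Abelianization.of.comp ψ₀.rangeRestrict with hψ
    obtain ⟨τ, hτ, htr⟩ := transfer_apply_of_mem N ψ hYN
    rw [show MonoidHom.transfer ψ Y = 1 from Abelianization.commutator_subset_ker (MonoidHom.transfer ψ) hyb] at htr
    letI := N.fintypeQuotientOfFiniteIndex
    rw [Finset.prod_eq_single (1 : Pb ⧸ N) (fun q _ hq => ?_) (fun h => absurd (Finset.mem_univ _) h)] at htr
    rotate_left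
    · have hq' : τ q ∉ N := fun h => hq (by rw [← hτ q, QuotientGroup.eq_one_iff]; exact h)
      have h1 : ∀ m : N, (∀ f ∈ fixed φb b, φb m f = f) → ψ m = 1 := fun m hm => by
        have h2 : ψ₀.rangeRestrict m = 1 :=
          Subtype.ext (MulEquiv.ext fun f => Subtype.ext (hm f f.2))
        rw [hψ, MonoidHom.comp_apply, h2, map_one]
      refine h1 _ fun f hf => ?_
      rw [map_mul, map_mul, MulAut.mul_apply, MulAut.mul_apply]
      have hfix : φb Y (φb (τ q) f) = φb (τ q) f := by
        by_contra hne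
        exact absurd (Fb.card_disp_two hq' hYN (mem_fixed.mp he) hye (conj_fix _ (mem_fixed.mp hf)) hne)
          (not_le.mpr hcard')
      rw [hfix, ← MulAut.mul_apply, ← map_mul, inv_mul_cancel, map_one, MulAut.one_apply]
    have hτ1 : τ 1 ∈ N := (QuotientGroup.eq_one_iff _).mp (hτ 1)
    have hψY : ψ ⟨Y, hYN⟩ = 1 := by
      have h1 : ψ ((⟨τ 1, hτ1⟩ : N)⁻¹ * ⟨Y, hYN⟩ * ⟨τ 1, hτ1⟩) = 1 := htr.symm
      rwa [map_mul, map_mul, map_inv, mul_comm, mul_inv_cancel_left] at h1
    have hmem : ψ₀.rangeRestrict ⟨Y, hYN⟩ ∈ commutator ψ₀.range := by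
      rw [← Abelianization.ker_of]; exact hψY
    have h1 := ih (P := ψ₀.range) (E := fixed φb b) (by omega) hp2
      ((hPb.to_subgroup N).of_surjective ψ₀.rangeRestrict ψ₀.rangeRestrict_surjective)
      (hcop.coprime_dvd_left (Subgroup.card_subgroup_dvd_card _)) ψ₀.range.subtype (ψ₀.rangeRestrict ⟨Y, hYN⟩) hmem
      ((card_disp_restr (φb.comp N.subtype) (fixed φb b) hinv ⟨Y, hYN⟩).trans_lt hcard')
    exact hye (congrArg Subtype.val (DFunLike.congr_fun h1 (⟨e, he⟩ : fixed φb b)))

end CfsgLib.HallHigmanB.Displacement
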