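import Cfsg.Agent.Lib.HallHigmanB.Main
import Cfsg.Agent.Lib.HallHigmanB.Blocks

/-!
The top powers of exceptional elements of a `p`-group commute.
-/

set_option autoImplicit false
set_option maxHeartbeats 1000000

namespace CfsgLib.HallHigmanB

open Module
open scoped commutatorElement

universe u v w

/-- An element of order `p ^ n` whose minimal polynomial has degree below `p ^ n`. -/
def Exc {G : Type u} [Group G] {K : Type v} [Field K] {V : Type w} [AddCommGroup V] [Module K V] (p : ℕ)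
    (ρ : G →* Module.End K V) (x : G) (n : ℕ) : Prop :=
  1 ≤ n ∧ orderOf x = p ^ n ∧ ∃ r < p ^ n, (ρ x - 1) ^ r = 0

variable {G : Type u} [Group G] [Finite G] {K : Type v} [Field K] [IsAlgClosed K]
  {V : Type w} [AddCommGroup V] [Module K V] [FiniteDimensional K V]

theorem Exc.centralizes_abelian {p q : ℕ} [Fact p.Prime] [Fact q.Prime] [CharP K p] (hpq : p ≠ q)
    {ρ : G →* Module.End K V} (hρ : Function.Injective ρ) {x : G} {n : ℕ} (hx : Exc p ρ x n) (A : Subgroup G)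
    (hA : IsPGroup q A) (hab : ∀ a ∈ A, ∀ b ∈ A, a * b = b * a) (hxA : x ∈ Subgroup.normalizer (A : Set G)) :
    x ^ p ^ (n - 1) ∈ Subgroup.centralizer (A : Set G) := by
  obtain ⟨hn, hxo, r, hrlt, hr⟩ := hx
  by_contra hy
  rcases bound_of_invariant hpq ρ hρ A hA hxA hn hxo hy r hr with h | ⟨hnc, -⟩
  · omega
  · exact hnc ⟨⟨fun a b => Subtype.ext (hab a a.2 b b.2)⟩⟩

section radical

variable {T D : Subgroup G} {χ : D →* Kˣ}

open Classical in
/-- The pairing of a character of the commutators. -/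
noncomputable def pair (χ : D →* Kˣ) (u w : G) : Kˣ := if h : ⁅u, w⁆ ∈ D then χ ⟨_, h⟩ else 1

omit [Finite G] [IsAlgClosed K] in
theorem pair_eq {u w : G} (h : ⁅u, w⁆ ∈ D) : pair χ u w = χ ⟨_, h⟩ := dif_pos h

omit [Finite G] [IsAlgClosed K] in
theorem pair_mul_left (hcom : ∀ u ∈ T, ∀ w ∈ T, ⁅u, w⁆ ∈ D) (hcen : ∀ u ∈ T, ∀ d ∈ D, Commute u d) {a b w : G}
    (ha : a ∈ T) (hb : b ∈ T) (hw : w ∈ T) : pair χ (a * b) w = pair χ a w * pair χ b w := by
  rw [pair_eq (hcom _ (mul_mem ha hb) _ hw), pair_eq (hcom _ ha _ hw), pair_eq (hcom _ hb _ hw), ← map_mul]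
  congr 1
  refine Subtype.ext ?_
  have h2 := hcom _ hb _ hw
  calc ⁅a * b, w⁆ = a * ⁅b, w⁆ * a⁻¹ * ⁅a, w⁆ := by simp only [commutatorElement_def]; group
    _ = ⁅b, w⁆ * ⁅a, w⁆ := by rw [(hcen a ha _ h2).eq, mul_inv_cancel_right]
    _ = ⁅a, w⁆ * ⁅b, w⁆ := by
      refine (hcen _ ?_ _ h2).symm.eq
      rw [commutatorElement_def]; exact mul_mem (mul_mem (mul_mem ha hw) (inv_mem ha)) (inv_mem hw)

omit [Finite G] [IsAlgClosed K] in
theorem pair_swap (hcom : ∀ u ∈ T, ∀ w ∈ T, ⁅u, w⁆ ∈ D) {a b : G} (ha : a ∈ T) (hb : b ∈ T) :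
    pair χ b a = (pair χ a b)⁻¹ := by
  rw [pair_eq (hcom _ hb _ ha), pair_eq (hcom _ ha _ hb), ← map_inv]
  congr 1
  exact Subtype.ext (commutatorElement_inv a b).symm

omit [Finite G] [IsAlgClosed K] in
theorem pair_mul_right (hcom : ∀ u ∈ T, ∀ w ∈ T, ⁅u, w⁆ ∈ D) (hcen : ∀ u ∈ T, ∀ d ∈ D, Commute u d) {a b w : G}
    (ha : a ∈ T) (hb : b ∈ T) (hw : w ∈ T) : pair χ w (a * b) = pair χ w a * pair χ w b := by
  rw [pair_swap hcom (mul_mem ha hb) hw, pair_swap hcom ha hw, pair_swap hcom hb hw, pair_mul_left hcom hcen ha hb hw,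
    mul_inv]

omit [Finite G] [IsAlgClosed K] in
theorem pair_one_left {w : G} : pair χ 1 w = 1 := by
  rw [pair_eq (show ⁅(1 : G), w⁆ ∈ D by rw [commutatorElement_one_left]; exact one_mem D),
    show (⟨⁅(1 : G), w⁆, _⟩ : D) = 1 from Subtype.ext (commutatorElement_one_left w), map_one]

/-- The radical of the pairing. -/
def rad (χ : D →* Kˣ) (hcom : ∀ u ∈ T, ∀ w ∈ T, ⁅u, w⁆ ∈ D) (hcen : ∀ u ∈ T, ∀ d ∈ D, Commute u d) : Subgroup G where
  carrier := {u | u ∈ T ∧ ∀ w ∈ T, pair χ u w = 1}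
  one_mem' := ⟨one_mem T, fun w _ => pair_one_left⟩
  mul_mem' := fun {a b} ha hb => ⟨mul_mem ha.1 hb.1, fun w hw => by
    rw [pair_mul_left hcom hcen ha.1 hb.1 hw, ha.2 w hw, hb.2 w hw, one_mul]⟩
  inv_mem' := fun {a} ha => ⟨inv_mem ha.1, fun w hw => by
    have h := pair_mul_left (χ := χ) hcom hcen (inv_mem ha.1) ha.1 hw
    rw [inv_mul_cancel, pair_one_left, ha.2 w hw, mul_one] at h
    exact h.symm⟩

variable (hcom : ∀ u ∈ T, ∀ w ∈ T, ⁅u, w⁆ ∈ D) (hcen : ∀ u ∈ T, ∀ d ∈ D, Commute u d)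

omit [Finite G] [IsAlgClosed K] in
theorem mem_rad {u : G} : u ∈ rad χ hcom hcen ↔ u ∈ T ∧ ∀ w ∈ T, pair χ u w = 1 := Iff.rfl

omit [Finite G] [IsAlgClosed K] in
theorem rad_le : rad χ hcom hcen ≤ T := fun _ h => h.1

omit [Finite G] [IsAlgClosed K] in
theorem le_rad (hDT : D ≤ T) : D ≤ rad χ hcom hcen := fun d hd => ⟨hDT hd, fun w hw => by
  have h : ⁅d, w⁆ = 1 := commutatorElement_eq_one_iff_mul_comm.mpr (hcen w hw d hd).eq.symm
  rw [pair_eq (h ▸ one_mem D), show (⟨⁅d, w⁆, h ▸ one_mem D⟩ : D) = 1 from Subtype.ext h, map_one]⟩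

omit [IsAlgClosed K] in
theorem mem_normalizer_rad {g : G} (hgT : g ∈ Subgroup.normalizer (T : Set G)) (hgχ : g ∈ fixer D χ) :
    g ∈ Subgroup.normalizer (rad χ hcom hcen : Set G) := Subgroup.mem_normalizer_fintype fun u hu => by
  obtain ⟨hu1, hu2⟩ := hu
  refine ⟨(Subgroup.mem_normalizer_iff.mp hgT u).mp hu1, fun w hw => ?_⟩
  have hw' : g⁻¹ * w * g ∈ T := by
    have := (Subgroup.mem_normalizer_iff.mp (inv_mem hgT) w).mp hw
    rwa [inv_inv] at this
  have h1 := hu2 _ hw'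
  rw [pair_eq (hcom _ hu1 _ hw')] at h1
  rw [pair_eq (hcom _ ((Subgroup.mem_normalizer_iff.mp hgT u).mp hu1) _ hw), hgχ.2 ⟨_, hcom _ hu1 _ hw'⟩ _ ?_, h1]
  show g * ⁅u, g⁻¹ * w * g⁆ * g⁻¹ = ⁅g * u * g⁻¹, w⁆
  simp only [commutatorElement_def]; group

omit [Finite G] [IsAlgClosed K] in
theorem comm_mem_rad (hDT : D ≤ T) {u w : G} (hu : u ∈ T) (hw : w ∈ T) : ⁅u, w⁆ ∈ rad χ hcom hcen :=
  le_rad hcom hcen hDT (hcom u hu w hw)

instance rad_normal : ((rad χ hcom hcen).subgroupOf T).Normal := by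
  refine ⟨fun u hu t => ?_⟩
  rw [Subgroup.mem_subgroupOf] at hu ⊢
  refine ⟨(t * u * t⁻¹).2, fun w hw => ?_⟩
  rw [Subgroup.coe_mul, Subgroup.coe_mul, Subgroup.coe_inv, pair_mul_left hcom hcen (mul_mem t.2 u.2) (inv_mem t.2) hw,
    pair_mul_left hcom hcen t.2 u.2 hw, hu.2 w hw, mul_one, ← pair_mul_left hcom hcen t.2 (inv_mem t.2) hw,
    mul_inv_cancel, pair_one_left]

instance radCommGroup : CommGroup (T ⧸ (rad χ hcom hcen).subgroupOf T) :=
  { (inferInstance : Group (T ⧸ (rad χ hcom hcen).subgroupOf T)) with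
    mul_comm := fun a b => by
      obtain ⟨a, rfl⟩ := QuotientGroup.mk_surjective a
      obtain ⟨b, rfl⟩ := QuotientGroup.mk_surjective b
      show ((a * b : T) : T ⧸ (rad χ hcom hcen).subgroupOf T) = ((b * a : T) : _)
      rw [QuotientGroup.eq, Subgroup.mem_subgroupOf]
      refine ⟨((a * b)⁻¹ * (b * a)).2, fun w hw => ?_⟩
      have h1 : ∀ u v : T, pair χ ((u : G) * v) w = pair χ (u : G) w * pair χ (v : G) w := fun u v =>
        pair_mul_left hcom hcen u.2 v.2 hw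
      have h2 : ∀ u : T, pair χ ((u : G)⁻¹) w * pair χ (u : G) w = 1 := fun u => by
        rw [← pair_mul_left hcom hcen (inv_mem u.2) u.2 hw, inv_mul_cancel, pair_one_left]
      rw [Subgroup.coe_mul, Subgroup.coe_inv, Subgroup.coe_mul, mul_inv_rev]
      show pair χ ((↑(b⁻¹ * a⁻¹ : T) : G) * ↑(b * a : T)) w = 1
      rw [h1, Subgroup.coe_mul, h1, Subgroup.coe_mul, h1, Subgroup.coe_inv, Subgroup.coe_inv,
        mul_mul_mul_comm, h2, h2, one_mul] }

end radical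

section qact

variable {T R : Subgroup G}

/-- Conjugation on a quotient. -/
def qact (P : Subgroup G) [(R.subgroupOf T).Normal] (hPT : P ≤ Subgroup.normalizer (T : Set G))
    (hPR : P ≤ Subgroup.normalizer (R : Set G)) : P →* MulAut (T ⧸ R.subgroupOf T) :=
  MonoidHom.mk'
    (fun g => QuotientGroup.congr _ _ (Subgroup.normalizerMonoidHom T ⟨g, hPT g.2⟩) (by
      ext u
      rw [Subgroup.mem_subgroupOf]
      constructor
      · rintro ⟨a, ha, rfl⟩
        exact (Subgroup.mem_normalizer_iff.mp (hPR g.2) _).mp ha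
      · intro hu
        refine ⟨(Subgroup.normalizerMonoidHom T ⟨g, hPT g.2⟩).symm u, ?_, MulEquiv.apply_symm_apply _ u⟩
        refine (Subgroup.mem_normalizer_iff.mp (hPR g.2) _).mpr ?_
        show ((Subgroup.normalizerMonoidHom T ⟨g, hPT g.2⟩ ((Subgroup.normalizerMonoidHom T ⟨g, hPT g.2⟩).symm u) : T) : G) ∈ R
        rw [MulEquiv.apply_symm_apply]
        exact hu))
    fun g h => MulEquiv.ext fun x => by
      obtain ⟨u, rfl⟩ := QuotientGroup.mk_surjective x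
      refine congrArg QuotientGroup.mk (Subtype.ext ?_)
      show (g : G) * h * u * ((g : G) * h)⁻¹ = g * (h * u * (h : G)⁻¹) * (g : G)⁻¹
      group

end qact

open Displacement in
/-- An exceptional element displaces little on the quotient by a radical. -/
theorem Exc.good {p q : ℕ} [Fact p.Prime] [Fact q.Prime] [CharP K p] (hp2 : p ≠ 2) (hpq : p ≠ q)
    {ρ : G →* Module.End K V} {x : G} {n : ℕ} (hx : Exc p ρ x n) {T D : Subgroup G} (hT : IsPGroup q T)
    (hDT : D ≤ T) (hcom : ∀ u ∈ T, ∀ w ∈ T, ⁅u, w⁆ ∈ D) (hcen : ∀ u ∈ T, ∀ d ∈ D, Commute u d)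
    (hxT : x ∈ Subgroup.normalizer (T : Set G)) (hxD : x ∈ Subgroup.normalizer (D : Set G))
    (hyD : x ^ p ^ (n - 1) ∈ Subgroup.centralizer (D : Set G)) (χ : D →* Kˣ) (hχ : wspace ρ D χ ⊤ ≠ ⊥) :
    ∃ a ∈ Subgroup.zpowers x, a ∈ fixer D χ ∧ ∃ j ≤ n - 1, a ^ p ^ j = x ^ p ^ (n - 1) ∧
      ∀ (P : Subgroup G) (hPT : P ≤ Subgroup.normalizer (T : Set G))
        (hPR : P ≤ Subgroup.normalizer (rad χ hcom hcen : Set G)) (hyP : x ^ p ^ (n - 1) ∈ P),
        Nat.card (disp (qact P hPT hPR ⟨_, hyP⟩)).range < (p + 1) ^ ((p - 1) * p ^ j) := by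
  classical
  obtain ⟨hn, hxo, r, hrlt, hr⟩ := hx
  have hp := (Fact.out : p.Prime)
  set y := x ^ p ^ (n - 1) with hy
  have hxy : Commute x y := Commute.self_pow x _
  have hyT : y ∈ Subgroup.normalizer (T : Set G) := pow_mem hxT _
  have hyfix : y ∈ fixer D χ := ⟨pow_mem hxD _, fun a b hab => by
    rw [← (Subgroup.mem_centralizer_iff.mp hyD a a.2), mul_inv_cancel_right] at hab
    rw [Subtype.ext hab]⟩
  set R := rad χ hcom hcen with hR
  have hyR : y ∈ Subgroup.normalizer (R : Set G) := mem_normalizer_rad hcom hcen hyT hyfix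
  set P₀ := Subgroup.zpowers y with hP₀
  let f : MulAut (T ⧸ R.subgroupOf T) :=
    qact P₀ (Subgroup.zpowers_le.mpr hyT) (Subgroup.zpowers_le.mpr hyR) ⟨y, Subgroup.mem_zpowers y⟩
  suffices h : ∃ a ∈ Subgroup.zpowers x, a ∈ fixer D χ ∧ ∃ j ≤ n - 1, a ^ p ^ j = y ∧
      Nat.card (disp f).range < (p + 1) ^ ((p - 1) * p ^ j) by
    obtain ⟨a, ha, ha', j, hj, hja, hlt⟩ := h
    exact ⟨a, ha, ha', j, hj, hja, fun P hPT hPR hyP => hlt⟩
  set L := (disp f).range with hL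
  rcases eq_or_ne L ⊥ with hL0 | hL0
  · refine ⟨y, Subgroup.pow_mem _ (Subgroup.mem_zpowers x) _, hyfix, 0, Nat.zero_le _, by rw [pow_zero, pow_one], ?_⟩
    rw [hL0, Subgroup.card_bot]
    exact Nat.one_lt_pow (by have := hp.two_le; simp; omega) (by have := hp.two_le; omega)
  have hTq : ∀ {H : Subgroup G}, H ≤ T → ((Nat.card H : ℕ) : K) ≠ 0 := fun {H} hH => cast_card_ne_zero hpq (hT.to_le hH)
  have hcop : (Nat.card (T ⧸ R.subgroupOf T)).Coprime p := by
    obtain ⟨t, ht⟩ := IsPGroup.iff_card.mp (hT.to_quotient (R.subgroupOf T))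
    rw [ht]
    exact Nat.Coprime.pow_left t ((Nat.coprime_primes (Fact.out : q.Prime) hp).mpr hpq.symm)
  have hfp : f ^ p ^ 1 = 1 := by
    rw [← map_pow]
    convert map_one (qact P₀ (Subgroup.zpowers_le.mpr hyT) (Subgroup.zpowers_le.mpr hyR))
    refine Subtype.ext ?_
    show y ^ p ^ 1 = 1
    rw [hy, ← pow_mul, ← pow_add, show n - 1 + 1 = n by omega, ← hxo, pow_orderOf_eq_one]
  have hinf : ∀ e ∈ L, f e = e → e = 1 := by
    rintro _ ⟨e, rfl⟩ he
    have h : ∀ i : ℕ, (f ^ i) e = e * (disp f e) ^ i := fun i => by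
      induction i with
      | zero => simp
      | succ i ih =>
        rw [pow_succ', MulAut.mul_apply, ih, map_mul, map_pow, he, pow_succ', ← mul_assoc]
        congr 1
        rw [disp_apply, mul_div_cancel]
    have h3 := h (p ^ 1)
    rw [hfp, MulAut.one_apply, left_eq_mul] at h3
    exact eq_one_of_pow hcop h3
  -- every class is a displacement times a fixed class
  have hdec : ∀ e, ∃ l ∈ L, f (e / l) = e / l := by
    have hmaps : ∀ l ∈ L, disp f l ∈ L := fun l _ => ⟨l, rfl⟩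
    have hbij : Function.Surjective (fun l : L => (⟨disp f l, hmaps l l.2⟩ : L)) := by
      refine Finite.injective_iff_surjective.mp fun l l' h => ?_
      have h1 : disp f ((l : T ⧸ R.subgroupOf T) / l') = 1 := by
        rw [map_div, div_eq_one]; exact congrArg Subtype.val h
      rw [disp_apply, div_eq_one] at h1
      exact Subtype.ext (div_eq_one.mp (hinf _ (div_mem l.2 l'.2) h1))
    intro e
    obtain ⟨l, hl⟩ := hbij ⟨disp f e, e, rfl⟩
    refine ⟨l, l.2, div_eq_one.mp (?_ : disp f (e / l) = 1)⟩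
    rw [map_div, div_eq_one]
    exact (congrArg Subtype.val hl).symm
  -- the preimage
  set T₁ := (L.comap (QuotientGroup.mk' (R.subgroupOf T))).map T.subtype with hT₁
  have hT₁mem : ∀ {u : G}, u ∈ T₁ ↔ ∃ hu : u ∈ T, ((⟨u, hu⟩ : T) : T ⧸ R.subgroupOf T) ∈ L := fun {u} => by
    constructor
    · rintro ⟨v, hv, rfl⟩; exact ⟨v.2, hv⟩
    · rintro ⟨hu, h⟩; exact ⟨⟨u, hu⟩, h, rfl⟩
  have hT₁T : T₁ ≤ T := Subgroup.map_subtype_le _
  have hRT₁ : R ≤ T₁ := fun u hu => hT₁mem.mpr ⟨hu.1, by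
    rw [(QuotientGroup.eq_one_iff _).mpr (show (⟨u, hu.1⟩ : T) ∈ R.subgroupOf T from hu)]; exact one_mem _⟩
  have hidx : R.relIndex T₁ = Nat.card L := by
    have h1 : R.subgroupOf T₁ = ((QuotientGroup.mk' (R.subgroupOf T)).comp (Subgroup.inclusion hT₁T)).ker := by
      rw [← MonoidHom.comap_ker, QuotientGroup.ker_mk']; rfl
    rw [show R.relIndex T₁ = (R.subgroupOf T₁).index from rfl, h1, Subgroup.index_ker]
    congr 1
    congr 1
    ext e
    constructor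
    · rintro ⟨⟨u, hu⟩, rfl⟩; exact (hT₁mem.mp hu).2
    · intro he
      obtain ⟨u, rfl⟩ := QuotientGroup.mk_surjective e
      exact ⟨⟨u, hT₁mem.mpr ⟨u.2, he⟩⟩, rfl⟩
  -- the radical within the preimage
  have hnd : ∀ u ∈ T₁, (∀ w ∈ T₁, pair χ u w = 1) → u ∈ R := by
    intro u hu h
    obtain ⟨huT, e, he⟩ := hT₁mem.mp hu
    refine ⟨huT, fun w hw => ?_⟩
    obtain ⟨l, hl, hfix⟩ := hdec ((⟨w, hw⟩ : T) : T ⧸ R.subgroupOf T)
    obtain ⟨w₁, rfl⟩ := QuotientGroup.mk_surjective l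
    have hw₁ : (w₁ : G) ∈ T₁ := hT₁mem.mpr ⟨w₁.2, hl⟩
    set w₀ : T := ⟨w, hw⟩ * w₁⁻¹ with hw₀
    have hfix₀ : f (w₀ : T ⧸ R.subgroupOf T) = (w₀ : T ⧸ R.subgroupOf T) := by
      rw [hw₀, QuotientGroup.mk_mul, QuotientGroup.mk_inv, ← div_eq_mul_inv]
      exact hfix
    have hww : w = (w₀ : G) * (w₁ : G) := by simp [hw₀]
    rw [hww, pair_mul_right hcom hcen w₀.2 w₁.2 huT, h _ hw₁, mul_one]
    obtain ⟨e, rfl⟩ := QuotientGroup.mk_surjective e
    have hyc : ∀ a : G, a ∈ T → y * a * y⁻¹ ∈ T := fun a ha => (Subgroup.mem_normalizer_iff.mp hyT a).mp ha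
    -- `u` is a displacement up to the radical
    have he' : ((⟨y * e * y⁻¹ * (e : G)⁻¹, mul_mem (hyc _ e.2) (inv_mem e.2)⟩ : T) : T ⧸ R.subgroupOf T) =
        ((⟨u, huT⟩ : T) : T ⧸ R.subgroupOf T) := by
      rw [← he, disp_apply, div_eq_mul_inv]; rfl
    have hcong : ∀ a b : T, (a : T ⧸ R.subgroupOf T) = b → ∀ v ∈ T, pair χ (a : G) v = pair χ (b : G) v := by
      intro a b hab v hv
      have h2 : ((a⁻¹ * b : T) : G) ∈ R := (QuotientGroup.eq (s := R.subgroupOf T)).mp hab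
      conv_rhs => rw [show (b : G) = (a : G) * ((a⁻¹ * b : T) : G) by simp]
      rw [pair_mul_left hcom hcen a.2 (a⁻¹ * b : T).2 hv, h2.2 v hv, mul_one]
    rw [← hcong _ _ he' _ w₀.2]
    show pair χ (y * e * y⁻¹ * (e : G)⁻¹) (w₀ : G) = 1
    rw [pair_mul_left hcom hcen (hyc _ e.2) (inv_mem e.2) w₀.2]
    have h4 : pair χ (y * e * y⁻¹) (w₀ : G) = pair χ (y * e * y⁻¹) (y * (w₀ : G) * y⁻¹) := by
      rw [pair_swap hcom w₀.2 (hyc _ e.2), pair_swap hcom (hyc _ w₀.2) (hyc _ e.2)]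
      congr 1
      exact (hcong ⟨_, hyc _ w₀.2⟩ w₀ hfix₀ _ (hyc _ e.2)).symm
    have h5 : pair χ (y * e * y⁻¹) (y * (w₀ : G) * y⁻¹) = pair χ (e : G) (w₀ : G) := by
      have hc := hcom _ e.2 _ w₀.2
      have h6 : ⁅y * (e : G) * y⁻¹, y * (w₀ : G) * y⁻¹⁆ = ⁅(e : G), (w₀ : G)⁆ := by
        rw [show ⁅y * (e : G) * y⁻¹, y * (w₀ : G) * y⁻¹⁆ = y * ⁅(e : G), (w₀ : G)⁆ * y⁻¹ by
            simp only [commutatorElement_def]; group,
          ← (Subgroup.mem_centralizer_iff.mp hyD _ hc), mul_inv_cancel_right]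
      rw [pair_eq (h6 ▸ hc), pair_eq hc]
      congr 1
      exact Subtype.ext h6
    rw [h4, h5, ← pair_mul_left hcom hcen e.2 (inv_mem e.2) w₀.2, mul_inv_cancel, pair_one_left]
  -- the lifts
  obtain ⟨k₁, hk₁, hk₁fix, -, hW₁x, hlift₁⟩ := lift (p := p) ρ D (hTq hDT) (U := ⊤) hxD (fun v _ => Submodule.mem_top)
    hxo χ hχ
  set x₁ := x ^ p ^ k₁ with hx₁
  set W₁ := wspace ρ D χ ⊤ with hW₁
  have hx₁T : x₁ ∈ Subgroup.normalizer (T : Set G) := pow_mem hxT _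
  have hx₁R : x₁ ∈ Subgroup.normalizer (R : Set G) := mem_normalizer_rad hcom hcen hx₁T hk₁fix
  have hW₁T : ∀ u ∈ T, ∀ v ∈ W₁, ρ u v ∈ W₁ := fun u hu v hv => by
    refine mem_wspace.mpr ⟨Submodule.mem_top, fun a => ?_⟩
    rw [← Module.End.mul_apply, ← map_mul, ← (hcen u hu a a.2).eq, map_mul, Module.End.mul_apply,
      (mem_wspace.mp hv).2 a, map_smul]
  have hRD : D ≤ R := le_rad hcom hcen hDT
  have hact : ∀ a ∈ T, ∀ b ∈ T, ∀ v ∈ W₁, ρ a (ρ b v) = (pair χ a b : K) • ρ b (ρ a v) := fun a ha b hb v hv => by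
    have h1 := hcom a ha b hb
    rw [← Module.End.mul_apply, ← map_mul, show a * b = ⁅a, b⁆ * (b * a) by rw [commutatorElement_def]; group,
      map_mul, Module.End.mul_apply, map_mul, Module.End.mul_apply,
      (mem_wspace.mp (hW₁T b hb _ (hW₁T a ha v hv))).2 ⟨_, h1⟩, pair_eq h1]
  obtain ⟨c, hc⟩ := exists_weight ρ R (U := W₁) hχ (fun a ha => hW₁T a ha.1)
    (fun a ha b hb v hv => by rw [hact a ha.1 b hb.1 v hv, ha.2 b hb.1, Units.val_one, one_smul])
  obtain ⟨v₀, hv₀, hv₀0⟩ := Submodule.exists_mem_ne_zero_of_ne_bot hc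
  have hcχ : ∀ (d : G) (hd : d ∈ D), c ⟨d, hRD hd⟩ = χ ⟨d, hd⟩ := fun d hd => by
    refine Units.ext (smul_left_injective K hv₀0 ?_)
    show (c ⟨d, hRD hd⟩ : K) • v₀ = (χ ⟨d, hd⟩ : K) • v₀
    rw [← (mem_wspace.mp hv₀).2 ⟨d, hRD hd⟩, ← (mem_wspace.mp (mem_wspace.mp hv₀).1).2 ⟨d, hd⟩]
  obtain ⟨r₁, hr₁, hker₁⟩ := hlift₁ r fun v _ => by rw [hr, LinearMap.zero_apply]
  have hk₁n : k₁ < n := by
    have hr₁0 : r₁ ≠ 0 := fun h => by
      obtain ⟨v, hv, hv0⟩ := Submodule.exists_mem_ne_zero_of_ne_bot hχ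
      have := hker₁ v hv
      rw [h, pow_zero] at this
      exact hv0 this
    by_contra hge
    have h1 : p ^ n ≤ p ^ k₁ := Nat.pow_le_pow_right hp.pos (not_lt.mp hge)
    have := Nat.le_mul_of_pos_right (p ^ k₁) (Nat.pos_of_ne_zero hr₁0)
    omega
  have hx₁o : orderOf x₁ = p ^ (n - k₁) := by
    rw [hx₁, orderOf_pow, hxo, Nat.gcd_eq_right (pow_dvd_pow p (by omega)), Nat.pow_div (by omega) hp.pos]
  obtain ⟨k₂, hk₂, hk₂fix, -, hW₂x, hlift₂⟩ := lift (p := p) ρ R (hTq (rad_le hcom hcen)) (U := W₁) hx₁R hW₁x hx₁o c hc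
  obtain ⟨r₂, hr₂, hker₂⟩ := hlift₂ r₁ hker₁
  set x₂ := x₁ ^ p ^ k₂ with hx₂
  have hx₂x : x₂ = x ^ p ^ (k₁ + k₂) := by rw [hx₂, hx₁, ← pow_mul, ← pow_add]
  have hx₂o : orderOf x₂ = p ^ (n - (k₁ + k₂)) := by
    rw [hx₂x, orderOf_pow, hxo, Nat.gcd_eq_right (pow_dvd_pow p (by omega)), Nat.pow_div (by omega) hp.pos]
  have hx₂T : x₂ ∈ Subgroup.normalizer (T : Set G) := pow_mem hx₁T _
  have hx₂R : x₂ ∈ Subgroup.normalizer (R : Set G) := pow_mem hx₁R _
  have hx₂T₁ : x₂ ∈ Subgroup.normalizer (T₁ : Set G) := Subgroup.mem_normalizer_fintype fun u hu => by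
    obtain ⟨huT, e, he⟩ := hT₁mem.mp hu
    refine hT₁mem.mpr ⟨(Subgroup.mem_normalizer_iff.mp hx₂T u).mp huT, ?_⟩
    obtain ⟨e, rfl⟩ := QuotientGroup.mk_surjective e
    let P₂ := Subgroup.zpowers x₂
    let g := qact P₂ (Subgroup.zpowers_le.mpr hx₂T) (Subgroup.zpowers_le.mpr hx₂R) ⟨x₂, Subgroup.mem_zpowers _⟩
    refine ⟨g (e : T ⧸ R.subgroupOf T), ?_⟩
    have h1 : f (g (e : T ⧸ R.subgroupOf T)) = g (f (e : T ⧸ R.subgroupOf T)) := by
      refine congrArg QuotientGroup.mk (Subtype.ext ?_)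
      show y * (x₂ * (e : G) * x₂⁻¹) * y⁻¹ = x₂ * (y * (e : G) * y⁻¹) * x₂⁻¹
      have hc : Commute y x₂ := by rw [hx₂x]; exact (hxy.symm).pow_right _
      calc y * (x₂ * (e : G) * x₂⁻¹) * y⁻¹ = y * x₂ * e * (x₂⁻¹ * y⁻¹) := by group
        _ = x₂ * y * e * (y⁻¹ * x₂⁻¹) := by rw [hc.eq, (hc.inv_inv).symm.eq]
        _ = _ := by group
    rw [disp_apply, h1, ← map_div, ← disp_apply, he]
    rfl
  have hfree : ∀ i, x₂ ^ i ≠ 1 → ∀ u ∈ T₁, ⁅x₂ ^ i, u⁆ ∈ R → u ∈ R := by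
    intro i hi u hu hui
    obtain ⟨huT, hL'⟩ := hT₁mem.mp hu
    have hxi : x₂ ^ i = x ^ (p ^ (k₁ + k₂) * i) := by rw [hx₂x, ← pow_mul]
    obtain ⟨t, ht⟩ := (isOfFinOrder_of_finite (x₂ ^ i)).mem_powers_iff_mem_zpowers.mpr
      (show y ∈ Subgroup.zpowers (x₂ ^ i) from hxi ▸ mem_zpowers_of_ne_one hxo _ (hxi ▸ hi))
    let P₂ := Subgroup.zpowers x₂
    let g := qact P₂ (Subgroup.zpowers_le.mpr hx₂T) (Subgroup.zpowers_le.mpr hx₂R)
      (⟨x₂, Subgroup.mem_zpowers _⟩ ^ i)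
    have hgu : g ((⟨u, huT⟩ : T) : T ⧸ R.subgroupOf T) = ((⟨u, huT⟩ : T) : T ⧸ R.subgroupOf T) := by
      refine div_eq_one.mp ?_
      rw [div_eq_mul_inv]
      refine (QuotientGroup.eq_one_iff _).mpr (Subgroup.mem_subgroupOf.mpr ?_)
      simpa [commutatorElement_def] using hui
    have hfg : f = g ^ t := by
      refine MulEquiv.ext fun e => ?_
      obtain ⟨e, rfl⟩ := QuotientGroup.mk_surjective e
      rw [← map_pow]
      refine congrArg QuotientGroup.mk (Subtype.ext ?_)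
      show y * (e : G) * y⁻¹ = (x₂ ^ i) ^ t * (e : G) * ((x₂ ^ i) ^ t)⁻¹
      rw [show y = (x₂ ^ i) ^ t from ht.symm]
    have h1 := hinf _ hL' (by rw [hfg]; exact pow_fixed hgu t)
    exact (QuotientGroup.eq_one_iff (N := R.subgroupOf T) ⟨u, huT⟩).mp h1
  have hRne : ¬ T₁ ≤ R := fun h => hL0 (by
    refine (Subgroup.eq_bot_iff_forall _).mpr fun e he => ?_
    obtain ⟨u, rfl⟩ := QuotientGroup.mk_surjective e
    exact (QuotientGroup.eq_one_iff _).mpr (h (hT₁mem.mpr ⟨u.2, he⟩)))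
  have hW₂T : ∀ u ∈ T₁, ∀ v ∈ wspace ρ R c W₁, ρ u v ∈ wspace ρ R c W₁ := fun u hu v hv => by
    obtain ⟨hv1, hv2⟩ := mem_wspace.mp hv
    refine mem_wspace.mpr ⟨hW₁T u (hT₁T hu) v hv1, fun a => ?_⟩
    rw [hact _ a.2.1 u (hT₁T hu) v hv1, a.2.2 u (hT₁T hu), Units.val_one, one_smul, hv2 a, map_smul]
  have hfin := core hpq ρ T₁ (hT.to_le hT₁T) hx₂T₁ hx₂o R hRT₁ c hk₂fix (wspace ρ R c W₁) hc hW₂T hW₂x
    (fun a v hv => (mem_wspace.mp hv).2 a) (fun a ha b hb => hRD (hcom a (hT₁T ha) b (hT₁T hb)))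
    (fun a ha h => hnd a ha fun w hw => by
      have h1 := hcom a (hT₁T ha) w (hT₁T hw)
      rw [pair_eq h1, ← hcχ _ h1]; exact h w hw (hRD h1)) hfree hRne r₂ hker₂
  have hk : p ^ (k₁ + k₂) * r₂ ≤ r := by
    rw [pow_add, mul_assoc]; exact (Nat.mul_le_mul_left _ hr₂).trans hr₁
  rcases hfin with h | ⟨b, hb1, hb2, -, hb4⟩
  · exfalso
    have h1 : p ^ n ≤ r := by
      refine le_trans ?_ hk
      calc p ^ n = p ^ (k₁ + k₂) * p ^ (n - (k₁ + k₂)) := by rw [← pow_add, Nat.add_sub_cancel' (by omega)]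
        _ ≤ _ := Nat.mul_le_mul_left _ h
    omega
  have hm : k₁ + k₂ < n := by
    by_contra hge
    rw [Nat.sub_eq_zero_of_le (not_lt.mp hge), pow_zero] at hb2
    have := Nat.one_le_pow b q (Fact.out : q.Prime).pos
    omega
  refine ⟨x₂, hx₂x ▸ Subgroup.pow_mem _ (Subgroup.mem_zpowers x) _, pow_mem hk₁fix _, n - (k₁ + k₂) - 1, by omega, ?_, ?_⟩
  · rw [hx₂x, ← pow_mul, ← pow_add, hy, show k₁ + k₂ + (n - (k₁ + k₂) - 1) = n - 1 by omega]
  · rw [← hidx, hb4]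
    set m := n - (k₁ + k₂) - 1 with hm'
    rw [show n - (k₁ + k₂) = m + 1 by omega] at hb2
    calc (q ^ b) ^ 2 < (p ^ (m + 1)) ^ 2 := Nat.pow_lt_pow_left (by omega) two_ne_zero
      _ ≤ ((p + 1) ^ (m + 1)) ^ 2 := Nat.pow_le_pow_left (Nat.pow_le_pow_left (Nat.le_succ p) _) _
      _ = (p + 1) ^ ((m + 1) * 2) := (pow_mul _ _ _).symm
      _ ≤ (p + 1) ^ ((p - 1) * p ^ m) := by
        refine Nat.pow_le_pow_right (Nat.succ_pos p) ?_
        have h3 : m < p ^ m := Nat.lt_pow_self hp.one_lt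
        have h4 : 2 ≤ p - 1 := by have := hp.two_le; omega
        rw [mul_comm (m + 1)]
        exact Nat.mul_le_mul h4 h3

omit [Finite G] in
/-- A displacement fixed by a `p`-element is trivial. -/
theorem eq_one_of_fixed_displacement {p q : ℕ} [Fact p.Prime] [Fact q.Prime] (hpq : p ≠ q) {T : Subgroup G}
    (hT : IsPGroup q T) {z t u : G} {k : ℕ} (hz : z ^ p ^ k = 1) (hu : u ∈ T) (hzu : Commute z u)
    (h : z * t * z⁻¹ = u * t) : u = 1 := by
  have h1 : ∀ i : ℕ, z ^ i * t * (z ^ i)⁻¹ = u ^ i * t := fun i => by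
    induction i with
    | zero => simp
    | succ i ih =>
      calc z ^ (i + 1) * t * (z ^ (i + 1))⁻¹ = z * (z ^ i * t * (z ^ i)⁻¹) * z⁻¹ := by group
        _ = (z * u ^ i * z⁻¹) * (z * t * z⁻¹) := by rw [ih]; group
        _ = u ^ (i + 1) * t := by rw [h, (hzu.pow_right i).eq, mul_inv_cancel_right, pow_succ, mul_assoc]
  have h2 := h1 (p ^ k)
  rw [hz, one_mul, inv_one, mul_one, right_eq_mul] at h2
  obtain ⟨m, hm⟩ := hT ⟨u, hu⟩
  exact orderOf_eq_one_iff.mp (Nat.eq_one_of_dvd_coprimes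
    (((Nat.coprime_primes (Fact.out : p.Prime) (Fact.out : q.Prime)).mpr hpq).pow k m)
    (orderOf_dvd_of_pow_eq_one h2) (orderOf_dvd_of_pow_eq_one (congrArg Subtype.val hm)))

/-- A weight separates an element of an abelian `q`-group from the identity. -/
theorem exists_weight_sep {p q : ℕ} [Fact p.Prime] [Fact q.Prime] [CharP K p] (hpq : p ≠ q)
    {ρ : G →* Module.End K V} (hρ : Function.Injective ρ) {D : Subgroup G} (hD : IsPGroup q D)
    (hab : ∀ a ∈ D, ∀ b ∈ D, a * b = b * a) {d : G} (hd : d ∈ D)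
    (h : ∀ χ : D →* Kˣ, wspace ρ D χ ⊤ ≠ ⊥ → χ ⟨d, hd⟩ = 1) : d = 1 := by
  by_contra hne
  obtain ⟨t, ht⟩ := IsPGroup.iff_card.mp hD
  obtain ⟨c, hc, hc1⟩ := exists_weight_ne (p := p) ρ hρ D hab hd hne
    ((Nat.Coprime.pow_left t ((Nat.coprime_primes (Fact.out : q.Prime) (Fact.out : p.Prime)).mpr (Ne.symm hpq))).coprime_dvd_left
      (ht ▸ Subgroup.orderOf_dvd_natCard D hd))
  exact hc1 (h c hc)

open Displacement in
/-- The top powers of two exceptional elements of a `p`-group commute. -/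
theorem exc_commute {p : ℕ} [Fact p.Prime] [CharP K p] (hp2 : p ≠ 2) (hsol : Cfsg.IsPSolvable p G)
    (hOp : Cfsg.pCore p G = ⊥) {ρ : G →* Module.End K V} (hρ : Function.Injective ρ) {P : Subgroup G}
    (hP : IsPGroup p P) {x x' : G} {n n' : ℕ} (hx : Exc p ρ x n) (hx' : Exc p ρ x' n') (hxP : x ∈ P) (hxP' : x' ∈ P) :
    ⁅x ^ p ^ (n - 1), x' ^ p ^ (n' - 1)⁆ = 1 := by
  classical
  have hp := (Fact.out : p.Prime)
  set y := x ^ p ^ (n - 1) with hy
  set y' := x' ^ p ^ (n' - 1) with hy'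
  set z := ⁅y, y'⁆ with hz
  have hyP : y ∈ P := pow_mem hxP _
  have hyP' : y' ∈ P := pow_mem hxP' _
  have hzP : z ∈ P := by
    rw [hz, commutatorElement_def]; exact mul_mem (mul_mem (mul_mem hyP hyP') (inv_mem hyP)) (inv_mem hyP')
  obtain ⟨k, hk⟩ : ∃ k : ℕ, z ^ p ^ k = 1 := by
    obtain ⟨k, hk⟩ := hP ⟨z, hzP⟩
    exact ⟨k, congrArg Subtype.val hk⟩
  have hzC : ∀ {A : Subgroup G}, y ∈ Subgroup.centralizer (A : Set G) → y' ∈ Subgroup.centralizer (A : Set G) →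
      z ∈ Subgroup.centralizer (A : Set G) := fun {A} h h' => by
    rw [hz, commutatorElement_def]; exact mul_mem (mul_mem (mul_mem h h') (inv_mem h)) (inv_mem h')
  have hmain : ∀ q : ℕ, q.Prime → p ≠ q → ∀ T : Subgroup G, IsPGroup q T → P ≤ Subgroup.normalizer (T : Set G) →
      z ∈ Subgroup.centralizer (T : Set G) := by
    intro q hq hpq T₀ hT₀ hPT₀
    haveI := Fact.mk hq
    by_contra hz₀
    obtain ⟨T, ⟨hT, hPT, hzT⟩, hmin⟩ := Set.Finite.exists_minimalFor (fun H : Subgroup G => Nat.card H)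
      {H : Subgroup G | IsPGroup q H ∧ P ≤ Subgroup.normalizer (H : Set G) ∧ z ∉ Subgroup.centralizer (H : Set G)}
      (Set.toFinite _) ⟨T₀, hT₀, hPT₀, hz₀⟩
    haveI : Group.IsNilpotent T := hT.isNilpotent
    have hproper : ∀ M : Subgroup G, M ≤ T → P ≤ Subgroup.normalizer (M : Set G) → M ≠ T →
        z ∈ Subgroup.centralizer (M : Set G) := fun M hM hPM hne => by
      by_contra h
      exact hne (Subgroup.eq_of_le_of_card_ge hM (hmin (j := M) ⟨hT.to_le hM, hPM, h⟩ (Subgroup.card_le_of_le hM)))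
    by_cases hcom : ∀ a ∈ T, ∀ b ∈ T, a * b = b * a
    · exact hzT (hzC (hx.centralizes_abelian hpq hρ T hT hcom (hPT hxP))
        (hx'.centralizes_abelian hpq hρ T hT hcom (hPT hxP')))
    push Not at hcom
    obtain ⟨u₀, hu₀, w₀, hw₀, huw⟩ := hcom
    set D := ⁅T, T⁆ with hD
    have hDT : D ≤ T := by
      rw [hD, Subgroup.commutator_le]
      intro u hu v hv
      rw [commutatorElement_def]; exact mul_mem (mul_mem (mul_mem hu hv) (inv_mem hu)) (inv_mem hv)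
    have hDne : D ≠ T := fun h => by
      haveI : Nontrivial T := ⟨⟨⟨u₀, hu₀⟩, ⟨w₀, hw₀⟩, fun e => huw (by
        have he : u₀ = w₀ := congrArg Subtype.val e
        rw [he])⟩⟩
      refine (Group.IsSolvable.commutator_lt_top_of_nontrivial T).ne (Subgroup.map_injective T.subtype_injective ?_)
      rw [commutator_def, Subgroup.map_commutator, ← MonoidHom.range_eq_map, Subgroup.range_subtype, ← hD, h]
    have hPD : P ≤ Subgroup.normalizer (D : Set G) := fun g hg => Subgroup.mem_normalizer_fintype fun u hu => by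
      have hle2 : D.map (MulAut.conj g).toMonoidHom ≤ D := by
        rw [hD, Subgroup.map_commutator]
        refine Subgroup.commutator_mono ?_ ?_ <;>
        · rintro _ ⟨v, hv, rfl⟩; exact (Subgroup.mem_normalizer_iff.mp (hPT hg) v).mp hv
      exact hle2 ⟨u, hu, rfl⟩
    have hzD := hproper D hDT hPD hDne
    have hcomTT : ∀ u ∈ T, ∀ w ∈ T, ⁅u, w⁆ ∈ D := fun u hu w hw => Subgroup.commutator_mem_commutator hu hw
    -- the derived group is central
    have hcen : ∀ u ∈ T, ∀ d ∈ D, Commute u d := by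
      set C := T ⊓ Subgroup.centralizer (D : Set G) with hC
      by_contra hcon
      have hne : C ≠ T := fun h => hcon fun u hu d hd =>
        (Subgroup.mem_centralizer_iff.mp (Subgroup.mem_inf.mp (h ▸ hu : u ∈ C)).2 d hd).symm
      have hPC : P ≤ Subgroup.normalizer (C : Set G) := fun g hg => Subgroup.mem_normalizer_fintype fun u hu => by
        obtain ⟨hu1, hu2⟩ := Subgroup.mem_inf.mp hu
        refine Subgroup.mem_inf.mpr ⟨(Subgroup.mem_normalizer_iff.mp (hPT hg) u).mp hu1,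
          Subgroup.mem_centralizer_iff.mpr fun d hd => ?_⟩
        have hd' : g⁻¹ * d * g ∈ D := by
          have := (Subgroup.mem_normalizer_iff.mp (hPD (inv_mem hg)) d).mp hd
          rwa [inv_inv] at this
        calc d * (g * u * g⁻¹) = g * ((g⁻¹ * d * g) * u) * g⁻¹ := by group
          _ = g * (u * (g⁻¹ * d * g)) * g⁻¹ := by rw [Subgroup.mem_centralizer_iff.mp hu2 _ hd']
          _ = g * u * g⁻¹ * d := by group
      have hzC' := hproper C inf_le_left hPC hne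
      refine hzT (Subgroup.mem_centralizer_iff.mpr fun t ht => ?_)
      have hzt : z * t * z⁻¹ ∈ T := (Subgroup.mem_normalizer_iff.mp (hPT hzP) t).mp ht
      have hu : z * t * z⁻¹ * t⁻¹ ∈ C := by
        refine Subgroup.mem_inf.mpr ⟨mul_mem hzt (inv_mem ht), Subgroup.mem_centralizer_iff.mpr fun d hd => ?_⟩
        have hd' : t⁻¹ * d * t ∈ D := by
          have h1 : ⁅t⁻¹, d⁆ * d = t⁻¹ * d * t := by rw [commutatorElement_def]; group
          rw [← h1]; exact mul_mem (hcomTT _ (inv_mem ht) _ (hDT hd)) hd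
        have e1 : z * (t⁻¹ * d * t) = (t⁻¹ * d * t) * z := (Subgroup.mem_centralizer_iff.mp hzD _ hd').symm
        have e2 : z * d = d * z := (Subgroup.mem_centralizer_iff.mp hzD _ hd).symm
        calc d * (z * t * z⁻¹ * t⁻¹) = (d * z) * t * z⁻¹ * t⁻¹ := by group
          _ = (z * d) * t * z⁻¹ * t⁻¹ := by rw [e2]
          _ = z * t * ((t⁻¹ * d * t) * z⁻¹) * t⁻¹ := by group
          _ = z * t * (z⁻¹ * (t⁻¹ * d * t)) * t⁻¹ := by
            rw [(show Commute (t⁻¹ * d * t) z from e1.symm).inv_right.eq]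
          _ = z * t * z⁻¹ * t⁻¹ * d := by group
      have h1 := eq_one_of_fixed_displacement hpq hT hk (Subgroup.mem_inf.mp hu).1
        (Subgroup.mem_centralizer_iff.mp hzC' _ hu).symm (inv_mul_cancel_right (z * t * z⁻¹) t).symm
      rw [mul_inv_eq_one, mul_inv_eq_iff_eq_mul] at h1
      exact h1.symm
    have hDab : ∀ a ∈ D, ∀ b ∈ D, a * b = b * a := fun a ha b hb => (hcen a (hDT ha) b hb).eq
    have hyD : y ∈ Subgroup.centralizer (D : Set G) :=
      hx.centralizes_abelian hpq hρ D (hT.to_le hDT) hDab (hPD hxP)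
    have hyD' : y' ∈ Subgroup.centralizer (D : Set G) :=
      hx'.centralizes_abelian hpq hρ D (hT.to_le hDT) hDab (hPD hxP')
    -- displacements lie in every radical
    have hrad : ∀ χ : D →* Kˣ, wspace ρ D χ ⊤ ≠ ⊥ → ∀ t ∈ T, ∀ w ∈ T, pair χ (z * t * z⁻¹ * t⁻¹) w = 1 := by
      intro χ hχ t ht w hw
      obtain ⟨a, ha, hafix, j, -, haj, hgood⟩ := hx.good hp2 hpq hT hDT hcomTT hcen (hPT hxP) (hPD hxP) hyD χ hχ
      obtain ⟨a', ha', hafix', j', -, haj', hgood'⟩ :=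
        hx'.good hp2 hpq hT hDT hcomTT hcen (hPT hxP') (hPD hxP') hyD' χ hχ
      set Pχ := P ⊓ fixer D χ with hPχ
      have h1 : Pχ ≤ Subgroup.normalizer (T : Set G) := inf_le_left.trans hPT
      have h2 : Pχ ≤ Subgroup.normalizer (rad χ hcomTT hcen : Set G) := fun g hg =>
        mem_normalizer_rad hcomTT hcen (h1 hg) (Subgroup.mem_inf.mp hg).2
      have hzle : ∀ {x a : G}, x ∈ P → a ∈ Subgroup.zpowers x → a ∈ fixer D χ → a ∈ Pχ := fun hxP ha h =>
        Subgroup.mem_inf.mpr ⟨Subgroup.zpowers_le.mpr hxP ha, h⟩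
      have hyχ : y ∈ Pχ := by
        show x ^ p ^ (n - 1) ∈ Pχ
        rw [← haj]; exact pow_mem (hzle hxP ha hafix) _
      have hyχ' : y' ∈ Pχ := by
        show x' ^ p ^ (n' - 1) ∈ Pχ
        rw [← haj']; exact pow_mem (hzle hxP' ha' hafix') _
      have hcop : (Nat.card (T ⧸ (rad χ hcomTT hcen).subgroupOf T)).Coprime p := by
        obtain ⟨m, hm⟩ := IsPGroup.iff_card.mp (hT.to_quotient ((rad χ hcomTT hcen).subgroupOf T))
        rw [hm]
        exact Nat.Coprime.pow_left m ((Nat.coprime_primes hq hp).mpr hpq.symm)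
      have hcm := commute_good _ le_rfl hp2 (hP.to_le inf_le_left) hcop (qact Pχ h1 h2) ⟨y, hyχ⟩ ⟨y', hyχ'⟩
        ⟨⟨a, hzle hxP ha hafix⟩, j, Subtype.ext haj, hgood Pχ h1 h2 hyχ⟩
        ⟨⟨a', hzle hxP' ha' hafix'⟩, j', Subtype.ext haj', hgood' Pχ h1 h2 hyχ'⟩
      have h3 := DFunLike.congr_fun hcm ((⟨t, ht⟩ : T) : T ⧸ (rad χ hcomTT hcen).subgroupOf T)
      rw [MulAut.one_apply] at h3
      have hzt : z * t * z⁻¹ ∈ T := (Subgroup.mem_normalizer_iff.mp (hPT hzP) t).mp ht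
      have h4 : t⁻¹ * (z * t * z⁻¹) ∈ rad χ hcomTT hcen :=
        (QuotientGroup.eq (s := (rad χ hcomTT hcen).subgroupOf T) (a := ⟨t, ht⟩) (b := ⟨_, hzt⟩)).mp h3.symm
      have h5 : z * t * z⁻¹ * t⁻¹ = t * (t⁻¹ * (z * t * z⁻¹)) * t⁻¹ := by group
      rw [h5, pair_mul_left hcomTT hcen (mul_mem ht h4.1) (inv_mem ht) hw,
        pair_mul_left hcomTT hcen ht h4.1 hw, h4.2 w hw, mul_one, ← pair_mul_left hcomTT hcen ht (inv_mem ht) hw,
        mul_inv_cancel, pair_one_left]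
    -- so they are central
    set C₀ := T ⊓ Subgroup.centralizer (T : Set G) with hC₀
    have hPC₀ : P ≤ Subgroup.normalizer (C₀ : Set G) := fun g hg => Subgroup.mem_normalizer_fintype fun u hu => by
      obtain ⟨hu1, hu2⟩ := Subgroup.mem_inf.mp hu
      refine Subgroup.mem_inf.mpr ⟨(Subgroup.mem_normalizer_iff.mp (hPT hg) u).mp hu1,
        Subgroup.mem_centralizer_iff.mpr fun d hd => ?_⟩
      have hd' : g⁻¹ * d * g ∈ T := by
        have := (Subgroup.mem_normalizer_iff.mp (hPT (inv_mem hg)) d).mp hd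
        rwa [inv_inv] at this
      calc d * (g * u * g⁻¹) = g * ((g⁻¹ * d * g) * u) * g⁻¹ := by group
        _ = g * (u * (g⁻¹ * d * g)) * g⁻¹ := by rw [Subgroup.mem_centralizer_iff.mp hu2 _ hd']
        _ = g * u * g⁻¹ * d := by group
    have hC₀ne : C₀ ≠ T := fun h => huw
      ((Subgroup.mem_centralizer_iff.mp (Subgroup.mem_inf.mp (h ▸ hu₀ : u₀ ∈ C₀)).2 w₀ hw₀).symm)
    have hzC₀ := hproper C₀ inf_le_left hPC₀ hC₀ne
    refine hzT (Subgroup.mem_centralizer_iff.mpr fun t ht => ?_)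
    have hzt : z * t * z⁻¹ ∈ T := (Subgroup.mem_normalizer_iff.mp (hPT hzP) t).mp ht
    have hu : z * t * z⁻¹ * t⁻¹ ∈ C₀ := by
      refine Subgroup.mem_inf.mpr ⟨mul_mem hzt (inv_mem ht), Subgroup.mem_centralizer_iff.mpr fun w hw => ?_⟩
      refine (commutatorElement_eq_one_iff_mul_comm.mp ?_).symm
      refine exists_weight_sep hpq hρ (hT.to_le hDT) hDab (hcomTT _ (mul_mem hzt (inv_mem ht)) _ hw) fun χ hχ => ?_
      rw [← pair_eq]
      exact hrad χ hχ t ht w hw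
    have h1 := eq_one_of_fixed_displacement hpq hT hk (Subgroup.mem_inf.mp hu).1
      (Subgroup.mem_centralizer_iff.mp hzC₀ _ hu).symm (inv_mul_cancel_right (z * t * z⁻¹) t).symm
    rw [mul_inv_eq_one, mul_inv_eq_iff_eq_mul] at h1
    exact h1.symm
  -- the centraliser of the `p'`-core
  set M := Cfsg.pPrimeCore p G with hM
  have hMn : M.Normal := inferInstance
  have hMcop : (Nat.card M).Coprime p := CfsgLib.card_pPrimeCore_coprime p
  have hA : P ≤ Subgroup.normalizer (M : Set G) := by rw [Subgroup.normalizer_eq_top]; exact le_top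
  have hcop : (Nat.card P).Coprime (Nat.card M) := by
    obtain ⟨m, hm⟩ := IsPGroup.iff_card.mp hP
    rw [hm]; exact Nat.Coprime.pow_left m hMcop.symm
  have hzM : z ∈ Subgroup.centralizer (M : Set G) := by
    set L := M ⊓ Subgroup.centralizer {z} with hL
    have hLM : L = M := by
      refine Subgroup.eq_of_le_of_card_ge inf_le_left (Nat.le_of_dvd Nat.card_pos ?_)
      rw [Nat.dvd_iff_prime_pow_dvd_dvd]
      intro q m hq hd
      haveI := Fact.mk hq
      rcases Nat.eq_zero_or_pos m with rfl | hm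
      · simp
      have hqp : p ≠ q := fun e => by
        subst e
        exact hp.one_lt.ne' (Nat.eq_one_of_dvd_coprimes hMcop ((dvd_pow_self p hm.ne').trans hd) dvd_rfl)
      haveI : Group.IsNilpotent P := hP.isNilpotent
      obtain ⟨S, hS⟩ := coprime_exists_invariant_sylow hA hcop (Or.inl inferInstance) q
      have h1 := hmain q hq hqp ((S : Subgroup M).map M.subtype) (S.2.map M.subtype) hS
      have hle : (S : Subgroup M).map M.subtype ≤ L := fun s hs => Subgroup.mem_inf.mpr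
        ⟨Subgroup.map_subtype_le _ hs, Subgroup.mem_centralizer_singleton_iff.mpr (Subgroup.mem_centralizer_iff.mp h1 s hs)⟩
      refine Nat.dvd_trans ?_ (Subgroup.card_dvd_of_le hle)
      rw [Subgroup.card_map_of_injective M.subtype_injective, Sylow.card_eq_multiplicity]
      exact pow_dvd_pow q ((hq.pow_dvd_iff_le_factorization Nat.card_pos.ne').mp hd)
    refine Subgroup.mem_centralizer_iff.mpr fun m hm => ?_
    rw [← hLM] at hm
    exact Subgroup.mem_centralizer_singleton_iff.mp (Subgroup.mem_inf.mp hm).2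
  have h1 := Offender.centralizer_pPrimeCore_le hsol hOp hzM
  exact orderOf_eq_one_iff.mp (Nat.eq_one_of_dvd_coprimes (Nat.Coprime.pow_right k hMcop)
    (Subgroup.orderOf_dvd_natCard M h1) (orderOf_dvd_of_pow_eq_one hk))

end CfsgLib.HallHigmanB
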