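import Cfsg.Agent.Lib.HallHigmanB.Nilpotent
import Cfsg.Agent.Lib.Blocks.SemisimplePieces

/-!
An automorphism of prime power order permuting freely the basis of a projective faithful irreducible group.
-/

set_option autoImplicit false
set_option maxHeartbeats 1000000

namespace CfsgLib.HallHigmanB

open Module

universe u v w

theorem exists_transversal {B : Type u} [Fintype B] (π : Equiv.Perm B) {P : ℕ} (hπ : π ^ P = 1) (hP : 0 < P) (b₀ : B)
    (h0 : π b₀ = b₀) (hfree : ∀ i, 0 < i → i < P → ∀ b, (π ^ i) b = b → b = b₀) :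
    ∃ O : Finset B, P * O.card + 1 ≤ Fintype.card B + P ∧ ∀ b, ∃ o ∈ O, ∃ i : ℕ, (π ^ i) o = b := by
  classical
  let rep : B → B := fun b => (Quotient.mk (Equiv.Perm.SameCycle.setoid π) b).out
  have hrep : ∀ b, π.SameCycle (rep b) b := fun b => Quotient.mk_out (s := Equiv.Perm.SameCycle.setoid π) b
  have hrep' : ∀ a b, π.SameCycle a b → rep a = rep b := fun a b h =>
    congrArg Quotient.out (Quotient.sound (s := Equiv.Perm.SameCycle.setoid π) h)
  have hnat : ∀ a b, π.SameCycle a b → ∃ i : ℕ, i < P ∧ (π ^ i) a = b := fun a b h => by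
    obtain ⟨z, hz⟩ := h
    refine ⟨(z % (P : ℤ)).toNat, by have := Int.emod_lt_of_pos z (show (0 : ℤ) < P by omega); omega, ?_⟩
    rw [← zpow_natCast π, Int.toNat_of_nonneg (Int.emod_nonneg z (by omega))]
    rw [← hz]
    conv_rhs => rw [← Int.emod_add_mul_ediv z P, zpow_add, zpow_mul, zpow_natCast, hπ, one_zpow, mul_one]
  have hfix : ∀ i : ℕ, (π ^ i) b₀ = b₀ := fun i => by
    induction i with
    | zero => rfl
    | succ i ih => rw [pow_succ, Equiv.Perm.mul_apply, h0, ih]
  have hrb : rep b₀ = b₀ := by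
    obtain ⟨i, -, hi⟩ := hnat _ _ (hrep b₀).symm
    rw [hfix] at hi; exact hi.symm
  refine ⟨Finset.univ.image rep, ?_, fun b => ?_⟩
  · set O := Finset.univ.image rep with hO
    have hmem : b₀ ∈ O := Finset.mem_image.mpr ⟨b₀, Finset.mem_univ _, hrb⟩
    have hinj : ((O.erase b₀) ×ˢ Finset.range P).card ≤ (Finset.univ.erase b₀).card := by
      refine Finset.card_le_card_of_injOn (fun z => (π ^ z.2) z.1) ?_ ?_
      · intro z hz
        simp only [Finset.coe_product, Set.mem_prod, Finset.mem_coe, Finset.mem_erase] at hz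
        refine Finset.mem_coe.mpr (Finset.mem_erase.mpr ⟨fun e => hz.1.1 ?_, Finset.mem_univ _⟩)
        exact (π ^ z.2).injective (e.trans (hfix _).symm)
      · rintro ⟨o, i⟩ hz ⟨o', i'⟩ hz' e
        simp only [Finset.coe_product, Set.mem_prod, Finset.mem_coe, Finset.mem_erase, Finset.mem_range] at hz hz'
        have e' : (π ^ i) o = (π ^ i') o' := e
        obtain ⟨a, -, ha⟩ := Finset.mem_image.mp hz.1.2
        obtain ⟨a', -, ha'⟩ := Finset.mem_image.mp hz'.1.2
        have hidem : ∀ b, rep (rep b) = rep b := fun b => hrep' _ _ (hrep b)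
        have hoo : o = o' := by
          rw [← ha, ← ha', ← hidem a, ← hidem a', ha, ha']
          refine hrep' _ _ ⟨(i : ℤ) - (i' : ℤ), ?_⟩
          rw [sub_eq_neg_add, zpow_add, Equiv.Perm.mul_apply, zpow_natCast, e', zpow_neg, zpow_natCast]
          exact (π ^ i').symm_apply_apply o'
        subst hoo
        refine Prod.ext rfl ?_
        by_contra hne
        rcases lt_or_gt_of_ne hne with h | h
        · refine hz.1.1 (hfree (i' - i) (by omega) (by omega) o ((π ^ i).injective ?_))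
          rw [← Equiv.Perm.mul_apply, ← pow_add, show i + (i' - i) = i' by omega]; exact e'.symm
        · refine hz.1.1 (hfree (i - i') (by omega) (by omega) o ((π ^ i').injective ?_))
          rw [← Equiv.Perm.mul_apply, ← pow_add, show i' + (i - i') = i by omega]; exact e'
    rw [Finset.card_product, Finset.card_range, Finset.card_erase_of_mem hmem,
      Finset.card_erase_of_mem (Finset.mem_univ b₀), Finset.card_univ] at hinj
    have hpos : 0 < O.card := Finset.card_pos.mpr ⟨b₀, hmem⟩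
    obtain ⟨t, ht⟩ := Nat.exists_eq_add_of_le hpos
    rw [ht] at hinj ⊢
    have : 0 < Fintype.card B := Fintype.card_pos_iff.mpr ⟨b₀⟩
    rw [show Nat.succ 0 + t - 1 = t by omega, mul_comm] at hinj
    rw [mul_add, show P * Nat.succ 0 = P from mul_one P]
    omega
  · obtain ⟨i, -, hi⟩ := hnat _ _ (hrep b)
    exact ⟨rep b, Finset.mem_image_of_mem _ (Finset.mem_univ b), i, hi⟩

variable {K : Type v} [Field K] [IsAlgClosed K] {V : Type w} [AddCommGroup V] [Module K V] [FiniteDimensional K V]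
  {Q : Type u} [Group Q]

omit [FiniteDimensional K V] in
theorem rho_ne_zero [Nontrivial V] (ρ : Q →* Module.End K V) (u : Q) : ρ u ≠ 0 := fun h => by
  have h1 : ρ u * ρ u⁻¹ = 1 := by rw [← map_mul, mul_inv_cancel, map_one]
  rw [h, zero_mul] at h1
  exact zero_ne_one h1

theorem schur [Nontrivial V] (ρ : Q →* Module.End K V)
    (hirr : ∀ S : Submodule K V, (∀ g, ∀ v ∈ S, ρ g v ∈ S) → S = ⊥ ∨ S = ⊤) (A : Module.End K V)
    (hA : ∀ u, A * ρ u = ρ u * A) : ∃ a : K, A = a • 1 := by
  obtain ⟨a, ha⟩ := Module.End.exists_eigenvalue A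
  rcases hirr (Module.End.eigenspace A a) (fun g v hv => by
    rw [Module.End.mem_eigenspace_iff] at hv ⊢
    rw [← Module.End.mul_apply, hA, Module.End.mul_apply, hv, map_smul]) with h | h
  · exact absurd h ha
  · refine ⟨a, LinearMap.ext fun v => ?_⟩
    exact Module.End.mem_eigenspace_iff.mp (h.symm ▸ Submodule.mem_top : v ∈ Module.End.eigenspace A a)

/-- The intertwiner of a fixed-point-free automorphism and the bound on its nilpotency. -/
theorem irreducible_bound [Finite Q] [Nontrivial V] {p q : ℕ} [Fact p.Prime] [Fact q.Prime] [CharP K p] (hpq : p ≠ q)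
    (hQ : IsPGroup q Q) (ρ : Q →* Module.End K V)
    (hirr : ∀ S : Submodule K V, (∀ g, ∀ v ∈ S, ρ g v ∈ S) → S = ⊥ ∨ S = ⊤)
    (hcomm : ∀ u w : Q, ∃ l : K, ρ (u * w) = l • ρ (w * u)) (α : MulAut Q) {e : ℕ} (hpow : α ^ p ^ e = 1)
    (hscal : ∀ u, ∀ a : K, ρ u = a • 1 → ρ (α u) = a • 1)
    (hfree : ∀ i, 0 < i → i < p ^ e → ∀ u, (∃ a : K, ρ ((α ^ i) u * u⁻¹) = a • 1) → ∃ a : K, ρ u = a • 1)
    (hne : ∃ u, ¬ ∃ a : K, ρ u = a • 1) :
    ∃ T : Module.End K V, T ^ p ^ e = 1 ∧ (∀ u, T * ρ u = ρ (α u) * T) ∧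
      ∀ r : ℕ, (T - 1) ^ r = 0 → p ^ e ≤ r ∨ ∃ b, 1 ≤ b ∧ q ^ b + 1 = p ^ e ∧ q ^ b ≤ r ∧
        ∀ M : Subgroup Q, (∀ u, u ∈ M ↔ ∃ a : K, ρ u = a • 1) → M.index = (q ^ b) ^ 2 := by
  classical
  haveI := Fintype.ofFinite Q
  have hp := (Fact.out : p.Prime)
  have hQK : ((Nat.card Q : ℕ) : K) ≠ 0 := by
    obtain ⟨t, ht⟩ := IsPGroup.iff_card.mp hQ
    rw [ht, Ne, CharP.cast_eq_zero_iff K p]
    exact fun hd => hpq ((Nat.prime_dvd_prime_iff_eq hp (Fact.out : q.Prime)).mp (hp.dvd_of_dvd_pow hd))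
  -- the pairing
  choose l hl using hcomm
  have hl0 : ∀ u w, l u w ≠ 0 := fun u w h => rho_ne_zero ρ (u * w) (by rw [hl, h, zero_smul])
  have hlinj : ∀ (u : Q) {a b : K}, a • ρ u = b • ρ u → a = b := fun u a b h => by
    rw [← sub_eq_zero, ← sub_smul] at h
    exact sub_eq_zero.mp ((smul_eq_zero.mp h).resolve_right (rho_ne_zero ρ u))
  have hl1 : ∀ u w w', l u (w * w') = l u w * l u w' := fun u w w' => hlinj (w * w' * u) (by
    rw [← hl, ← mul_assoc u w w', map_mul, hl, smul_mul_assoc, ← map_mul, mul_assoc w u w', map_mul, hl,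
      mul_smul_comm, ← map_mul, ← mul_assoc, smul_smul])
  have hl2 : ∀ u u' w, l (u * u') w = l u w * l u' w := fun u u' w => hlinj (w * (u * u')) (by
    rw [← hl, mul_assoc u u' w, map_mul, hl, mul_smul_comm, ← map_mul, ← mul_assoc u w u', map_mul, hl,
      smul_mul_assoc, ← map_mul, mul_assoc, smul_smul, mul_comm (l u' w)])
  let Λ : Q →* (Q →* Kˣ) := MonoidHom.mk'
    (fun u => MonoidHom.mk' (fun w => Units.mk0 (l u w) (hl0 u w)) fun w w' => Units.ext (hl1 u w w'))
    fun u u' => MonoidHom.ext fun w => Units.ext (hl2 u u' w)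
  set R := Λ.ker with hR
  have hΛ : ∀ u w, ((Λ u w : Kˣ) : K) = l u w := fun u w => rfl
  have hscalar : ∀ r, r ∈ R ↔ ∃ a : K, ρ r = a • 1 := fun r => by
    refine ⟨fun hr => schur ρ hirr _ fun u => ?_, fun ⟨a, ha⟩ => MonoidHom.mem_ker.mpr (MonoidHom.ext fun w => Units.ext ?_)⟩
    · have h1 : l r u = 1 := by rw [← hΛ, MonoidHom.mem_ker.mp hr]; rfl
      rw [← map_mul, ← map_mul, hl, h1, one_smul]
    · refine hlinj (w * r) ?_
      rw [hΛ, ← hl, map_mul, map_mul, ha, smul_mul_assoc, one_mul, mul_smul_comm, mul_one]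
      exact (one_smul _ _).symm
  haveI := Fintype.ofFinite (Q ⧸ R)
  let e₀ : Q ⧸ R → Module.End K V := fun b => ρ b.out
  have hrep : ∀ u : Q, ∃ r ∈ R, (u : Q ⧸ R).out * r = u :=
    fun u => ⟨(u : Q ⧸ R).out⁻¹ * u, QuotientGroup.eq.mp (QuotientGroup.out_eq' _), mul_inv_cancel_left _ _⟩
  have hli : LinearIndependent K e₀ := by
    rw [Fintype.linearIndependent_iff]
    intro g hg b₁
    have h1 : ∀ w : Q, ∑ b, (g b * ((Λ b.out w : Kˣ)⁻¹ : Kˣ)) • e₀ b = 0 := fun w => by
      have h2 := congrArg (fun A => ρ w * A * ρ w⁻¹) hg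
      simp only [mul_zero, zero_mul, Finset.mul_sum, Finset.sum_mul, mul_smul_comm, smul_mul_assoc] at h2
      rw [← h2]
      refine Finset.sum_congr rfl fun b _ => ?_
      rw [mul_smul]
      congr 1
      have h3 : ρ (b.out * w) = l b.out w • ρ (w * b.out) := hl _ _
      rw [Units.val_inv_eq_inv_val, hΛ]
      show (l b.out w)⁻¹ • ρ b.out = ρ w * ρ b.out * ρ w⁻¹
      rw [← map_mul, ← map_mul, show ρ b.out = ρ (b.out * w) * ρ w⁻¹ by rw [← map_mul, mul_inv_cancel_right], h3,
        smul_mul_assoc, ← map_mul, smul_smul, inv_mul_cancel₀ (hl0 _ _), one_smul]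
    have h4 : ∑ w : Q, ((Λ b₁.out w : Kˣ) : K) • ∑ b, (g b * ((Λ b.out w : Kˣ)⁻¹ : Kˣ)) • e₀ b = 0 :=
      Finset.sum_eq_zero fun w _ => by rw [h1 w, smul_zero]
    simp only [Finset.smul_sum, smul_smul] at h4
    rw [Finset.sum_comm] at h4
    simp only [← Finset.sum_smul] at h4
    rw [Finset.sum_eq_single b₁ (fun b _ hb => ?_) (fun h => absurd (Finset.mem_univ b₁) h)] at h4
    · rcases smul_eq_zero.mp h4 with h | h
      · rw [Finset.sum_congr rfl (fun w _ => show ((Λ b₁.out w : Kˣ) : K) * (g b₁ * ((Λ b₁.out w : Kˣ)⁻¹ : Kˣ)) = g b₁ by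
          rw [mul_left_comm, Units.mul_inv, mul_one]), Finset.sum_const, Finset.card_univ, ← Nat.card_eq_fintype_card,
          nsmul_eq_mul] at h
        exact (mul_eq_zero.mp h).resolve_left hQK
      · exact absurd h (rho_ne_zero ρ _)
    · have hne' : (Units.coeHom K).comp (Λ b₁.out * (Λ b.out)⁻¹) ≠ 1 := by
        intro h
        refine hb ?_
        rw [← QuotientGroup.out_eq' b, ← QuotientGroup.out_eq' b₁, QuotientGroup.eq]
        have h5 : Λ b₁.out = Λ b.out := MonoidHom.ext fun w => by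
          have h6 := DFunLike.congr_fun h w
          rw [← mul_inv_eq_one]
          exact Units.ext h6
        exact MonoidHom.mem_ker.mpr (by rw [map_mul, map_inv, h5, inv_mul_cancel])
      rw [Finset.sum_congr rfl (fun w _ => show ((Λ b₁.out w : Kˣ) : K) * (g b * ((Λ b.out w : Kˣ)⁻¹ : Kˣ)) =
          g b * (Units.coeHom K).comp (Λ b₁.out * (Λ b.out)⁻¹) w by
        rw [MonoidHom.comp_apply, MonoidHom.mul_apply, MonoidHom.inv_apply, Units.coeHom_apply, Units.val_mul]; ring),
        ← Finset.mul_sum, sum_hom_units_eq_zero _ hne', mul_zero, zero_smul]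
  have hspan : ⊤ ≤ Submodule.span K (Set.range e₀) := by
    rw [← Blocks.SemisimplePieces.span_range_eq_top ρ (fun S hS => hirr S hS), Submodule.span_le]
    rintro _ ⟨u, rfl⟩
    obtain ⟨r, hr, hu⟩ := hrep u
    obtain ⟨a, ha⟩ := (hscalar r).mp hr
    rw [← hu, map_mul, ha, mul_smul_comm, mul_one]
    exact Submodule.smul_mem _ _ (Submodule.subset_span ⟨_, rfl⟩)
  let β : Basis (Q ⧸ R) K (Module.End K V) := Basis.mk hli hspan
  have hβ : ∀ b, β b = ρ b.out := fun b => Basis.mk_apply hli hspan b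
  have hcard : Fintype.card (Q ⧸ R) = finrank K V ^ 2 := by
    rw [← Module.finrank_eq_card_basis β, Module.finrank_linearMap, pow_two]
  -- the automorphism of the matrix algebra
  let σ : Module.End K V →ₗ[K] Module.End K V := β.constr K fun b => ρ (α b.out)
  have hσ : ∀ u, σ (ρ u) = ρ (α u) := fun u => by
    obtain ⟨r, hr, hu⟩ := hrep u
    obtain ⟨a, ha⟩ := (hscalar r).mp hr
    rw [← hu, map_mul ρ, ha, mul_smul_comm, mul_one, map_smul, ← hβ, Basis.constr_basis, map_mul α, map_mul ρ,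
      hscal r a ha, mul_smul_comm, mul_one]
  have hσmul : ∀ A B, σ (A * B) = σ A * σ B := by
    have h1 : (LinearMap.mul K (Module.End K V)).compr₂ σ = ((LinearMap.mul K (Module.End K V)).compl₂ σ).comp σ :=
      β.ext fun b => β.ext fun b' => by
        show σ (β b * β b') = σ (β b) * σ (β b')
        rw [hβ, hβ, ← map_mul, hσ, hσ, hσ, map_mul α, map_mul ρ]
    exact fun A B => LinearMap.congr_fun (LinearMap.congr_fun h1 A) B
  have hσ1 : σ 1 = 1 := by
    have := hσ 1
    rwa [map_one α, map_one ρ] at this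
  have hσsurj : Function.Surjective σ := by
    rw [← LinearMap.range_eq_top, eq_top_iff, ← Blocks.SemisimplePieces.span_range_eq_top ρ (fun S hS => hirr S hS),
      Submodule.span_le]
    rintro _ ⟨u, rfl⟩
    exact ⟨ρ (α⁻¹ u), by rw [hσ, MulAut.apply_inv_self]⟩
  let σ' : Module.End K V ≃ₐ[K] Module.End K V := AlgEquiv.ofBijective (AlgHom.ofLinearMap σ hσ1 hσmul)
    ⟨LinearMap.injective_iff_surjective.mpr hσsurj, hσsurj⟩
  obtain ⟨T₀, hT₀⟩ := σ'.eq_linearEquivConjAlgEquiv
  have hT₀c : ∀ u, (T₀ : Module.End K V) * ρ u = ρ (α u) * (T₀ : Module.End K V) := fun u => by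
    have h1 : σ' (ρ u) = T₀.conjAlgEquiv K (ρ u) := by rw [hT₀]
    rw [show σ' (ρ u) = σ (ρ u) from rfl, hσ] at h1
    refine LinearMap.ext fun v => ?_
    rw [h1]
    simp
  have hT₀i : ∀ (i : ℕ) u, (T₀ : Module.End K V) ^ i * ρ u = ρ ((α ^ i) u) * (T₀ : Module.End K V) ^ i := by
    intro i
    induction i with
    | zero => intro u; simp
    | succ i ih =>
      intro u
      rw [pow_succ', mul_assoc, ih, ← mul_assoc, hT₀c, pow_succ' α, MulAut.mul_apply, mul_assoc]
  obtain ⟨a, ha⟩ := schur ρ hirr _ fun u => by rw [hT₀i (p ^ e) u, hpow, MulAut.one_apply]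
  have ha0 : a ≠ 0 := fun h => by
    rw [h, zero_smul] at ha
    have hinv : (T₀.symm : Module.End K V) * (T₀ : Module.End K V) = 1 := LinearMap.ext fun v => by simp
    have := congrArg (fun A => (T₀.symm : Module.End K V) ^ p ^ e * A) ha
    simp only [mul_zero] at this
    rw [← (show Commute (T₀.symm : Module.End K V) (T₀ : Module.End K V) from
      LinearMap.ext fun v => by simp).mul_pow, hinv, one_pow] at this
    exact one_ne_zero this
  obtain ⟨b, hb⟩ := IsAlgClosed.exists_pow_nat_eq a (pow_pos hp.pos e)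
  have hb0 : b ≠ 0 := fun h => ha0 (by rw [← hb, h, zero_pow (pow_pos hp.pos e).ne'])
  set T : Module.End K V := b⁻¹ • (T₀ : Module.End K V) with hT
  have hTP : T ^ p ^ e = 1 := by
    rw [hT, smul_pow, ha, smul_smul, ← hb, ← mul_pow, inv_mul_cancel₀ hb0, one_pow, one_smul]
  have hTc : ∀ u, T * ρ u = ρ (α u) * T := fun u => by rw [hT, smul_mul_assoc, hT₀c, mul_smul_comm]
  refine ⟨T, hTP, hTc, fun r hr => ?_⟩
  -- the permutation of the basis
  have hαR : R ≤ R.comap α.toMonoidHom := fun r hr => by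
    obtain ⟨a, ha⟩ := (hscalar r).mp hr
    exact (hscalar _).mpr ⟨a, hscal r a ha⟩
  let π₀ := QuotientGroup.map R R α.toMonoidHom hαR
  have hπ₀ : ∀ (i : ℕ) (u : Q), π₀^[i] (u : Q ⧸ R) = ((α ^ i) u : Q) := by
    intro i
    induction i with
    | zero => intro u; rfl
    | succ i ih => intro u; rw [Function.iterate_succ_apply', ih, pow_succ' α, MulAut.mul_apply]; rfl
  have hπbij : Function.Bijective π₀ := Finite.surjective_iff_bijective.mp fun y => by
    obtain ⟨u, rfl⟩ := QuotientGroup.mk_surjective y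
    exact ⟨((α⁻¹ u : Q) : Q ⧸ R), by show ((α (α⁻¹ u) : Q) : Q ⧸ R) = u; rw [MulAut.apply_inv_self]⟩
  let π : Equiv.Perm (Q ⧸ R) := Equiv.ofBijective π₀ hπbij
  have hπi : ∀ (i : ℕ) (b : Q ⧸ R), (π ^ i) b = π₀^[i] b := fun i b => by rw [← Equiv.Perm.iterate_eq_pow]; rfl
  obtain ⟨O, hO, hOall⟩ := exists_transversal π (P := p ^ e) (Equiv.ext fun b => by
      obtain ⟨u, rfl⟩ := QuotientGroup.mk_surjective b
      rw [hπi, hπ₀, hpow]; rfl) (pow_pos hp.pos e) (1 : Q ⧸ R) (map_one π₀) (fun i hi0 hi b hfix => by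
      obtain ⟨u, rfl⟩ := QuotientGroup.mk_surjective b
      rw [hπi, hπ₀, QuotientGroup.eq] at hfix
      refine (QuotientGroup.eq_one_iff u).mpr ((hscalar u).mpr (hfree i hi0 hi u ((hscalar _).mp ?_)))
      have h2 := (inferInstance : R.Normal).conj_mem _ (inv_mem hfix) u
      rwa [show u * (((α ^ i) u)⁻¹ * u)⁻¹ * u⁻¹ = u * u⁻¹ * ((α ^ i) u * u⁻¹) by group, mul_inv_cancel, one_mul] at h2)
  have hγ : ∀ b : Q ⧸ R, ∃ γ : K, σ (β b) = γ • β (π b) := fun b => by
    obtain ⟨r, hr, hu⟩ := hrep (α b.out)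
    obtain ⟨a, ha⟩ := (hscalar r).mp hr
    refine ⟨a, ?_⟩
    rw [hβ, hσ, ← hu, map_mul, ha, mul_smul_comm, mul_one, hβ]
    congr 2
    rw [show π b = π₀ b from rfl]
    conv_rhs => rw [← QuotientGroup.out_eq' b]
    rfl
  choose γ hγ using hγ
  have hγ0 : ∀ b, γ b ≠ 0 := fun b h => by
    have := hγ b
    rw [h, zero_smul, hβ, hσ] at this
    exact rho_ne_zero ρ _ this
  let L : comm (T - 1) →ₗ[K] (O → K) :=
    { toFun := fun A o => β.repr (A : Module.End K V) o
      map_add' := fun A B => funext fun o => by simp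
      map_smul' := fun c A => funext fun o => by simp }
  have hLinj : Function.Injective L := by
    rw [← LinearMap.ker_eq_bot, LinearMap.ker_eq_bot']
    rintro ⟨A, hA⟩ hLA
    have hAT : A * T = T * A := by
      have := mem_comm.mp hA
      rw [mul_sub, sub_mul, mul_one, one_mul] at this
      exact sub_left_injective this
    have hconj : ∀ B, σ B * T = T * B := by
      have h1 : (LinearMap.mulRight K T).comp σ = LinearMap.mulLeft K T := β.ext fun b => by
        show σ (β b) * T = T * β b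
        rw [hβ, hσ, hTc]
      exact fun B => LinearMap.congr_fun h1 B
    have hσA : σ A = A := by
      have h1 : σ A * T = A * T := by rw [hconj, hAT]
      have hTinv : T * T ^ (p ^ e - 1) = 1 := by
        rw [← pow_succ', Nat.sub_add_cancel (pow_pos hp.pos e), hTP]
      have h2 := congrArg (fun B => B * T ^ (p ^ e - 1)) h1
      simpa [mul_assoc, hTinv] using h2
    have hcoef : ∀ b, β.repr A (π b) = β.repr A b * γ b := fun b => by
      conv_lhs => rw [← hσA, ← β.sum_repr A, map_sum, map_sum]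
      rw [Finsupp.finsetSum_apply, Finset.sum_eq_single b]
      · rw [map_smul, hγ, map_smul, map_smul, Basis.repr_self]
        simp
      · intro c _ hc
        rw [map_smul, hγ, map_smul, map_smul, Basis.repr_self]
        simp [Finsupp.single_apply, π.injective.ne hc]
      · exact fun h => absurd (Finset.mem_univ b) h
    refine Subtype.ext (β.repr.map_eq_zero_iff.mp (Finsupp.ext fun b => ?_))
    obtain ⟨o, ho, i, rfl⟩ := hOall b
    induction i with
    | zero => exact congrFun hLA ⟨o, ho⟩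
    | succ i ih => rw [pow_succ', Equiv.Perm.mul_apply, hcoef, ih, Finsupp.zero_apply, zero_mul]; rfl
  have hle := LinearMap.finrank_le_finrank_of_injective hLinj
  rw [Module.finrank_fintype_fun_eq_card, Fintype.card_coe] at hle
  have hchar : CharP (Module.End K V) p := charP_of_injective_algebraMap (algebraMap K (Module.End K V)).injective p
  haveI := hchar
  have hNP : (T - 1) ^ p ^ e = 0 := by
    rw [sub_pow_char_pow_of_commute _ _ (Commute.one_right T), one_pow, hTP, sub_self]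
  have hkey : p ^ e * finrank K (comm (T - 1)) + 1 ≤ finrank K V ^ 2 + p ^ e := by
    rw [← hcard]
    exact (Nat.add_le_add_right (Nat.mul_le_mul_left _ hle) 1).trans hO
  obtain ⟨t, ht⟩ := IsPGroup.iff_card.mp (hQ.to_quotient R)
  rw [Nat.card_eq_fintype_card, hcard] at ht
  rcases single_block hNP hkey hr with h | h | ⟨h, h'⟩
  · exact Or.inl h
  · exfalso
    obtain ⟨u, hu⟩ := hne
    refine hu ((hscalar u).mp ((QuotientGroup.eq_one_iff u).mp ?_))
    haveI : Subsingleton (Q ⧸ R) := Fintype.card_le_one_iff_subsingleton.mp (by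
      rw [hcard]; exact (Nat.pow_le_pow_left h 2).trans (one_pow 2).le)
    exact Subsingleton.elim _ _
  · obtain ⟨b', -, hb'⟩ := (Nat.dvd_prime_pow (Fact.out : q.Prime)).mp (ht ▸ dvd_pow_self _ two_ne_zero : finrank K V ∣ q ^ t)
    refine Or.inr ⟨b', Nat.one_le_iff_ne_zero.mpr fun h0 => ?_, by rw [← hb', h], hb' ▸ h', fun M hM => ?_⟩
    rotate_left
    · obtain rfl : M = R := Subgroup.ext fun u => (hM u).trans (hscalar u).symm
      rw [Subgroup.index, Nat.card_eq_fintype_card, hcard, hb']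
    obtain ⟨u, hu⟩ := hne
    refine hu ((hscalar u).mp ((QuotientGroup.eq_one_iff u).mp ?_))
    haveI : Subsingleton (Q ⧸ R) := Fintype.card_le_one_iff_subsingleton.mp (by
      rw [hcard, hb', h0, pow_zero, one_pow])
    exact Subsingleton.elim _ _

end CfsgLib.HallHigmanB
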