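import Mathlib

/-!
The centraliser of a nilpotent map, and the maps whose centraliser is as small as possible.
-/

set_option autoImplicit false

namespace CfsgLib.HallHigmanB

open Module

universe u v

variable {K : Type u} [Field K] {V : Type v} [AddCommGroup V] [Module K V] [FiniteDimensional K V]

/-- The maps commuting with `N`. -/
noncomputable def comm (N : Module.End K V) : Submodule K (Module.End K V) :=
  LinearMap.ker (LinearMap.mulRight K N - LinearMap.mulLeft K N)

omit [FiniteDimensional K V] in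
theorem mem_comm {N A : Module.End K V} : A ∈ comm N ↔ A * N = N * A := by
  rw [comm, LinearMap.mem_ker, LinearMap.sub_apply, sub_eq_zero, LinearMap.mulRight_apply, LinearMap.mulLeft_apply]

/-- `w ↦ ∑ φ (N ^ (a - 1 - i) w) • N ^ i u`. -/
noncomputable def theta (N : Module.End K V) (a : ℕ) (φ : V →ₗ[K] K) (u : V) : Module.End K V :=
  ∑ i ∈ Finset.range a, (φ ∘ₗ (N ^ (a - 1 - i) : Module.End K V)).smulRight ((N ^ i) u)

omit [FiniteDimensional K V] in
theorem theta_apply (N : Module.End K V) (a : ℕ) (φ : V →ₗ[K] K) (u w : V) :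
    theta N a φ u w = ∑ i ∈ Finset.range a, φ ((N ^ (a - 1 - i)) w) • (N ^ i) u := by
  simp [theta]

omit [FiniteDimensional K V] in
theorem theta_comm {N : Module.End K V} {a : ℕ} (hN : N ^ a = 0) (φ : V →ₗ[K] K) (u : V) :
    theta N a φ u * N = N * theta N a φ u := by
  refine LinearMap.ext fun w => ?_
  rw [Module.End.mul_apply, Module.End.mul_apply, theta_apply, theta_apply, map_sum]
  simp only [map_smul]
  rcases a with _ | a
  · simp
  rw [Finset.sum_range_succ' (fun i => φ ((N ^ (a + 1 - 1 - i)) (N w)) • (N ^ i) u),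
    Finset.sum_range_succ (fun i => φ ((N ^ (a + 1 - 1 - i)) w) • N ((N ^ i) u))]
  have h0 : φ ((N ^ (a + 1 - 1 - 0)) (N w)) = 0 := by
    rw [← Module.End.mul_apply, ← pow_succ, show a + 1 - 1 - 0 + 1 = a + 1 by omega, hN, LinearMap.zero_apply, map_zero]
  have h1 : N ((N ^ a) u) = 0 := by
    rw [← Module.End.mul_apply, ← pow_succ', hN, LinearMap.zero_apply]
  rw [h0, zero_smul, h1, smul_zero, add_zero, add_zero]
  refine Finset.sum_congr rfl fun i hi => ?_
  rw [Finset.mem_range] at hi
  rw [← Module.End.mul_apply, ← pow_succ, show a + 1 - 1 - (i + 1) + 1 = a + 1 - 1 - i by omega,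
    ← Module.End.mul_apply (f := N), ← pow_succ']

omit [FiniteDimensional K V] in
theorem pow_restrict_apply (N : Module.End K V) {T : Submodule K V} (hT : ∀ w ∈ T, N w ∈ T) (i : ℕ) (w : T) :
    (((N.restrict hT) ^ i) w : V) = (N ^ i) (w : V) := by
  induction i generalizing w with
  | zero => simp
  | succ i ih => rw [pow_succ, pow_succ, Module.End.mul_apply, Module.End.mul_apply, ih, LinearMap.coe_restrict_apply]

theorem finrank_pieces {W : Type v} [AddCommGroup W] [Module K W] [FiniteDimensional K W] (M : Module.End K W) :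
    finrank K (V × (W →ₗ[K] K) × comm M) = finrank K V + finrank K W + finrank K (comm M) := by
  rw [Module.finrank_prod, Module.finrank_prod, Module.finrank_linearMap, Module.finrank_self, mul_one, ← add_assoc]

theorem finrank_le_of_injective_pieces {W : Type v} [AddCommGroup W] [Module K W] [FiniteDimensional K W]
    (M : Module.End K W) {U : Submodule K (Module.End K V)} (L : V × (W →ₗ[K] K) × comm M →ₗ[K] U)
    (hL : ∀ z, L z = 0 → z = 0) : finrank K V + finrank K W + finrank K (comm M) ≤ finrank K U := by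
  rw [← finrank_pieces M]
  exact LinearMap.finrank_le_finrank_of_injective (LinearMap.ker_eq_bot.mp (LinearMap.ker_eq_bot'.mpr hL))

/-- Splitting off a longest block. -/
theorem exists_split {N : Module.End K V} {a : ℕ} (ha : 1 ≤ a) (hN : N ^ a = 0) (hN' : N ^ (a - 1) ≠ 0) :
    ∃ (T : Submodule K V) (hT : ∀ w ∈ T, N w ∈ T), finrank K T + a = finrank K V ∧
      finrank K V + finrank K T + finrank K (comm (N.restrict hT)) ≤ finrank K (comm N) := by
  classical
  obtain ⟨v₀, hv₀⟩ : ∃ v, (N ^ (a - 1)) v ≠ 0 := by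
    by_contra h
    push Not at h
    exact hN' (LinearMap.ext h)
  obtain ⟨φ, hφ⟩ := Module.Projective.exists_dual_eq_one K hv₀
  let Ψ : V →ₗ[K] (Fin a → K) := LinearMap.pi fun i => φ ∘ₗ (N ^ (i : ℕ) : Module.End K V)
  have hΨ : ∀ w (i : Fin a), Ψ w i = φ ((N ^ (i : ℕ)) w) := fun w i => rfl
  have hhigh : ∀ (j : ℕ) (w : V), a ≤ j → (N ^ j) w = 0 := fun j w hj => by
    obtain ⟨c, rfl⟩ := Nat.exists_eq_add_of_le hj
    rw [pow_add, hN, zero_mul, LinearMap.zero_apply]
  have hsurj : ∀ i : Fin a, Pi.single i (1 : K) ∈ LinearMap.range Ψ := by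
    intro i
    induction hi : (i : ℕ) using Nat.strong_induction_on generalizing i with
    | _ m ih =>
    subst hi
    set f := Ψ ((N ^ (a - 1 - (i : ℕ))) v₀) with hf
    have hfi : f i = 1 := by
      rw [hf, hΨ, ← Module.End.mul_apply, ← pow_add, show (i : ℕ) + (a - 1 - i) = a - 1 by omega, hφ]
    have hfj : ∀ j : Fin a, (i : ℕ) < j → f j = 0 := fun j hj => by
      rw [hf, hΨ, ← Module.End.mul_apply, ← pow_add, hhigh _ _ (by omega), map_zero]
    have hdec : Pi.single i (1 : K) = f - ∑ j ∈ Finset.univ.filter (fun j : Fin a => (j : ℕ) < i), f j • Pi.single j (1 : K) := by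
      funext m
      rw [Pi.sub_apply, Finset.sum_apply]
      simp only [Pi.smul_apply, Pi.single_apply, smul_eq_mul, mul_ite, mul_one, mul_zero]
      rw [Finset.sum_ite_eq]
      simp only [Finset.mem_filter, Finset.mem_univ, true_and]
      rcases lt_trichotomy (m : ℕ) (i : ℕ) with h | h | h
      · rw [if_neg (fun e => by rw [e] at h; exact lt_irrefl _ h), if_pos h, sub_self]
      · obtain rfl : m = i := Fin.ext h
        rw [if_pos rfl, if_neg (lt_irrefl _), sub_zero, hfi]
      · rw [if_neg (fun e => by rw [e] at h; exact lt_irrefl _ h), if_neg (by omega), hfj m h, sub_zero]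
    rw [hdec]
    refine sub_mem ⟨_, rfl⟩ (sum_mem fun j hj => Submodule.smul_mem _ _ ?_)
    exact ih _ (Finset.mem_filter.mp hj).2 j rfl
  obtain ⟨v, hv⟩ := hsurj ⟨a - 1, by omega⟩
  have hv' : ∀ m, φ ((N ^ m) v) = if m = a - 1 then 1 else 0 := fun m => by
    rcases Nat.lt_or_ge m a with h | h
    · have := congrFun hv ⟨m, h⟩
      rw [hΨ, Pi.single_apply] at this
      simpa [Fin.ext_iff] using this
    · rw [hhigh m v h, map_zero, if_neg (by omega)]
  have hrange : LinearMap.range Ψ = ⊤ := by
    rw [eq_top_iff, ← (Pi.basisFun K (Fin a)).span_eq, Submodule.span_le]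
    rintro _ ⟨i, rfl⟩
    rw [Pi.basisFun_apply]
    exact hsurj i
  set T := LinearMap.ker Ψ with hTdef
  have hTmem : ∀ w, w ∈ T ↔ ∀ i, i < a → φ ((N ^ i) w) = 0 := fun w => by
    rw [hTdef, LinearMap.mem_ker, funext_iff]
    exact ⟨fun h i hi => h ⟨i, hi⟩, fun h i => h i i.2⟩
  have hT : ∀ w ∈ T, N w ∈ T := fun w hw => (hTmem _).mpr fun i hi => by
    rw [← Module.End.mul_apply, ← pow_succ]
    rcases Nat.lt_or_ge (i + 1) a with h | h
    · exact (hTmem w).mp hw _ h
    · rw [hhigh _ _ h, map_zero]
  have hdim : finrank K T + a = finrank K V := by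
    have := LinearMap.finrank_range_add_finrank_ker Ψ
    rw [hrange, finrank_top, Module.finrank_fin_fun] at this
    rw [add_comm]; exact this
  refine ⟨T, hT, hdim, ?_⟩
  have hproj : ∀ w, w - theta N a φ v w ∈ T := fun w => (hTmem _).mpr fun m hm => by
    rw [map_sub, map_sub, theta_apply, map_sum, map_sum, Finset.sum_eq_single_of_mem (a - 1 - m)
      (Finset.mem_range.mpr (by omega))]
    · rw [map_smul, map_smul, ← Module.End.mul_apply (f := N ^ m), ← pow_add, hv', if_pos (by omega), smul_eq_mul, mul_one,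
        show a - 1 - (a - 1 - m) = m by omega, sub_self]
    · intro i hi hne
      rw [Finset.mem_range] at hi
      rw [map_smul, map_smul, ← Module.End.mul_apply (f := N ^ m), ← pow_add, hv', if_neg (by omega), smul_eq_mul, mul_zero]
  let π : V →ₗ[K] T := LinearMap.codRestrict T (LinearMap.id - theta N a φ v) hproj
  have hπ : ∀ w, (π w : V) = w - theta N a φ v w := fun w => rfl
  have hθv : ∀ u, theta N a φ u v = u := fun u => by
    rw [theta_apply, Finset.sum_eq_single_of_mem 0 (Finset.mem_range.mpr ha)]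
    · rw [hv', if_pos (by omega), pow_zero, one_smul]; rfl
    · intro i hi hne
      rw [Finset.mem_range] at hi
      rw [hv', if_neg (by omega), zero_smul]
  have hθT : ∀ u w, w ∈ T → theta N a φ u w = 0 := fun u w hw => by
    rw [theta_apply]
    refine Finset.sum_eq_zero fun i hi => ?_
    rw [Finset.mem_range] at hi
    rw [(hTmem w).mp hw _ (by omega), zero_smul]
  have hπv : π v = 0 := Subtype.ext (by rw [hπ, hθv, sub_self]; rfl)
  have hπT : ∀ t : T, π (t : V) = t := fun t => Subtype.ext (by rw [hπ, hθT _ _ t.2, sub_zero])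
  have hπN : ∀ w, π (N w) = N.restrict hT (π w) := fun w => Subtype.ext (by
    rw [hπ, LinearMap.coe_restrict_apply, hπ, map_sub, ← Module.End.mul_apply (f := theta N a φ v),
      theta_comm hN, Module.End.mul_apply])
  have hπNpow : ∀ i w, π ((N ^ i) w) = ((N.restrict hT) ^ i) (π w) := fun i => by
    induction i with
    | zero => intro w; simp
    | succ i ih => intro w; rw [pow_succ', pow_succ', Module.End.mul_apply, Module.End.mul_apply, hπN, ih]
  -- the three pieces
  let L : V × (T →ₗ[K] K) × comm (N.restrict hT) →ₗ[K] Module.End K V :=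
    { toFun := fun z => theta N a φ z.1 + theta N a (z.2.1 ∘ₗ π) v + T.subtype ∘ₗ (z.2.2 : Module.End K T) ∘ₗ π
      map_add' := fun z z' => by
        refine LinearMap.ext fun w => ?_
        simp only [LinearMap.add_apply, theta_apply, Prod.fst_add, Prod.snd_add, map_add, smul_add, add_smul,
          Finset.sum_add_distrib, LinearMap.comp_apply, Submodule.coe_add]
        abel
      map_smul' := fun c z => by
        refine LinearMap.ext fun w => ?_
        simp only [LinearMap.add_apply, theta_apply, Prod.smul_fst, Prod.smul_snd, RingHom.id_apply,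
          LinearMap.comp_apply, LinearMap.smul_apply, map_smul, smul_add, Finset.smul_sum, smul_eq_mul, mul_smul,
          SetLike.val_smul]
        congr 2
        exact Finset.sum_congr rfl fun i _ => smul_comm _ _ _ }
  have hLmem : ∀ z, L z ∈ comm N := fun z => by
    rw [mem_comm]
    show (theta N a φ z.1 + theta N a (z.2.1 ∘ₗ π) v + T.subtype ∘ₗ (z.2.2 : Module.End K T) ∘ₗ π) * N = _
    rw [add_mul, add_mul, theta_comm hN, theta_comm hN]
    refine Eq.trans (congrArg _ ?_) (by
      show _ = N * (theta N a φ z.1 + theta N a (z.2.1 ∘ₗ π) v + T.subtype ∘ₗ (z.2.2 : Module.End K T) ∘ₗ π)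
      rw [mul_add, mul_add])
    refine LinearMap.ext fun w => ?_
    show ((z.2.2 : Module.End K T) (π (N w)) : V) = N ((z.2.2 : Module.End K T) (π w) : V)
    have hz := LinearMap.congr_fun (mem_comm.mp z.2.2.2) (π w)
    rw [Module.End.mul_apply, Module.End.mul_apply] at hz
    rw [hπN, hz, LinearMap.coe_restrict_apply]
  refine finrank_le_of_injective_pieces (N.restrict hT) (L.codRestrict (comm N) hLmem) ?_
  rintro ⟨u, ψ, B⟩ hz
  have hz' : ∀ w, theta N a φ u w + theta N a (ψ ∘ₗ π) v w + ((B : Module.End K T) (π w) : V) = 0 := fun w => by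
    have := LinearMap.congr_fun (congrArg Subtype.val hz) w
    exact this
  have hu : u = 0 := by
    have := hz' v
    rw [hθv, theta_apply, Finset.sum_eq_zero (fun i _ => by
      rw [LinearMap.comp_apply, hπNpow, hπv, map_zero, map_zero, zero_smul]), add_zero, hπv, map_zero,
      Submodule.coe_zero, add_zero] at this
    exact this
  have hψ : ∀ t : T, ψ t = 0 ∧ (B : Module.End K T) t = 0 := by
    intro t
    have h1 := hz' (t : V)
    rw [hθT _ _ t.2, zero_add, hπT] at h1
    have h2 : ψ t = 0 := by
      have h3 := congrArg φ h1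
      rw [map_add, map_zero, show φ ((B : Module.End K T) t : V) = 0 from (hTmem _).mp ((B : Module.End K T) t).2 0 ha,
        add_zero, theta_apply, map_sum, Finset.sum_eq_single_of_mem (a - 1) (Finset.mem_range.mpr (by omega))] at h3
      · rw [map_smul, hv', if_pos rfl, smul_eq_mul, mul_one, Nat.sub_self, pow_zero, LinearMap.comp_apply] at h3
        rw [show ((1 : Module.End K V) (t : V)) = t from rfl, hπT] at h3
        exact h3
      · intro i hi hne
        rw [map_smul, hv', if_neg hne, smul_eq_mul, mul_zero]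
    refine ⟨h2, ?_⟩
    have h4 : ∀ t' : T, ψ t' = 0 → True := fun _ _ => trivial
    rw [theta_apply] at h1
    have h5 : ∀ i ∈ Finset.range a, (ψ ∘ₗ π) ((N ^ (a - 1 - i)) (t : V)) • (N ^ i) v = 0 := fun i hi => by
      rw [Finset.mem_range] at hi
      have hkill : ∀ t' : T, ψ t' = 0 := fun t' => by
        have h1' := hz' (t' : V)
        rw [hθT _ _ t'.2, zero_add, hπT] at h1'
        have h3 := congrArg φ h1'
        rw [map_add, map_zero, show φ ((B : Module.End K T) t' : V) = 0 from (hTmem _).mp ((B : Module.End K T) t').2 0 ha,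
          add_zero, theta_apply, map_sum, Finset.sum_eq_single_of_mem (a - 1) (Finset.mem_range.mpr (by omega))] at h3
        · rw [map_smul, hv', if_pos rfl, smul_eq_mul, mul_one, Nat.sub_self, pow_zero, LinearMap.comp_apply] at h3
          rw [show ((1 : Module.End K V) (t' : V)) = t' from rfl, hπT] at h3
          exact h3
        · intro j hj hne
          rw [map_smul, hv', if_neg hne, smul_eq_mul, mul_zero]
      rw [LinearMap.comp_apply, hkill, zero_smul]
    rw [Finset.sum_eq_zero h5, zero_add] at h1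
    exact Subtype.ext h1
  exact Prod.ext hu (Prod.ext (LinearMap.ext fun t => (hψ t).1) (Subtype.ext (LinearMap.ext fun t => (hψ t).2)))

/-- `dim V ^ 2 ≤ P * dim C(N)` when `N ^ P = 0`. -/
theorem sq_le_mul_finrank_comm : ∀ (D : ℕ) {V : Type v} [AddCommGroup V] [Module K V] [FiniteDimensional K V]
    (N : Module.End K V) (P : ℕ), finrank K V = D → N ^ P = 0 → D ^ 2 ≤ P * finrank K (comm N) := by
  classical
  intro D
  induction D using Nat.strong_induction_on with
  | _ D ih =>
  intro V _ _ _ N P hD hP
  rcases Nat.eq_zero_or_pos D with h0 | h0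
  · subst h0; simp
  haveI : Nontrivial V := Module.nontrivial_of_finrank_pos (R := K) (hD ▸ h0)
  have hex : ∃ a, N ^ a = 0 := ⟨P, hP⟩
  set a := Nat.find hex with ha
  have haN : N ^ a = 0 := Nat.find_spec hex
  have ha1 : 1 ≤ a := Nat.pos_of_ne_zero fun e => by
    rw [e, pow_zero] at haN
    exact one_ne_zero haN
  have haP : a ≤ P := Nat.find_min' hex hP
  obtain ⟨T, hT, hdim, hle⟩ := exists_split ha1 haN (Nat.find_min hex (by omega))
  have hTa : (N.restrict hT) ^ a = 0 := LinearMap.ext fun t => Subtype.ext (by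
    rw [pow_restrict_apply, haN]; rfl)
  have h1 := ih (finrank K T) (by omega) (N.restrict hT) P rfl (by
    obtain ⟨c, rfl⟩ := Nat.exists_eq_add_of_le haP
    rw [pow_add, hTa, zero_mul])
  have h2 : P * (finrank K V + finrank K T + finrank K (comm (N.restrict hT))) ≤ P * finrank K (comm N) :=
    Nat.mul_le_mul_left _ hle
  rw [← hD, ← hdim] at *
  set D' := finrank K T
  obtain ⟨c, hc⟩ := Nat.exists_eq_add_of_le haP
  subst hc
  nlinarith

/-- A nilpotent map with almost minimal centraliser has a full block, or is a single block of size one less. -/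
theorem single_block {N : Module.End K V} {P r : ℕ} (hP : N ^ P = 0)
    (hc : P * finrank K (comm N) + 1 ≤ finrank K V ^ 2 + P) (hr : N ^ r = 0) :
    P ≤ r ∨ finrank K V ≤ 1 ∨ (finrank K V + 1 = P ∧ finrank K V ≤ r) := by
  classical
  rcases Nat.eq_zero_or_pos (finrank K V) with h0 | h0
  · omega
  haveI : Nontrivial V := Module.nontrivial_of_finrank_pos (R := K) h0
  have hex : ∃ a, N ^ a = 0 := ⟨P, hP⟩
  set a := Nat.find hex with ha
  have haN : N ^ a = 0 := Nat.find_spec hex
  have ha1 : 1 ≤ a := Nat.pos_of_ne_zero fun e => by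
    rw [e, pow_zero] at haN
    exact one_ne_zero haN
  have haP : a ≤ P := Nat.find_min' hex hP
  have har : a ≤ r := Nat.find_min' hex hr
  rcases eq_or_lt_of_le haP with e | hlt
  · left; omega
  right
  obtain ⟨T, hT, hdim, hle⟩ := exists_split ha1 haN (Nat.find_min hex (by omega))
  have h1 := sq_le_mul_finrank_comm (finrank K T) (N.restrict hT) P rfl (LinearMap.ext fun t => Subtype.ext (by
    rw [pow_restrict_apply, hP]; rfl))
  have h2 : P * (finrank K V + finrank K T + finrank K (comm (N.restrict hT))) ≤ P * finrank K (comm N) :=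
    Nat.mul_le_mul_left _ hle
  rw [← hdim] at hc h2 ⊢
  set D' := finrank K T
  obtain ⟨c, rfl⟩ : ∃ c, P = a + (c + 1) := ⟨P - a - 1, by omega⟩
  clear_value a
  obtain ⟨b, rfl⟩ : ∃ b, a = b + 1 := ⟨a - 1, by omega⟩
  generalize finrank K (comm N) = C at *
  generalize finrank K (comm (N.restrict hT)) = CT at *
  have h3 : b * c + 2 * D' * (c + 1) = 0 := by
    have : b * c + 2 * D' * (c + 1) ≤ 0 := by nlinarith
    exact Nat.le_zero.mp this
  obtain ⟨hbc, hD'⟩ := Nat.add_eq_zero_iff.mp h3
  have hD0 : D' = 0 := by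
    rcases mul_eq_zero.mp hD' with h | h <;> omega
  rcases mul_eq_zero.mp hbc with h | h
  · left; omega
  · right; omega

end CfsgLib.HallHigmanB
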