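import Cfsg.Agent.Lib.HallHigmanB.Exceptional
import Cfsg.Agent.Lib.CoprimeGen
import Cfsg.Agent.Lib.PSeries
import Cfsg.Agent.Lib.PLengthTwo

/-!
The `p`-length is bounded by the exponent of a Sylow `p`-subgroup.
-/

set_option autoImplicit false
set_option maxHeartbeats 1000000

namespace CfsgLib.HallHigmanB

open Module
open scoped commutatorElement TensorProduct

universe u v w

/-- The module carried by the Frattini quotient of `O_p`, over an algebraically closed field. -/
theorem exists_module {G : Type u} [Group G] [Finite G] {p : ℕ} [Fact p.Prime] (hsol : Cfsg.IsPSolvable p G)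
    (hO : Cfsg.pPrimeCore p G = ⊥) :
    ∃ (K : Type) (_ : Field K) (_ : IsAlgClosed K) (_ : CharP K p) (V : Type u) (_ : AddCommGroup V) (_ : Module K V)
      (_ : FiniteDimensional K V) (ρ : G →* Module.End K V),
      ρ.ker = Cfsg.pCore p G ∧ (Cfsg.pCore p G ≠ ⊥ → Nontrivial V) ∧
      ∀ (l : List G) (g : G) (N : ℕ),
        (∀ v ∈ Cfsg.pCore p G, l.foldr (fun h w => h * w * h⁻¹ * w⁻¹) ((v * g) ^ N * (g ^ N)⁻¹) ∈
          (frattini (Cfsg.pCore p G)).map (Cfsg.pCore p G).subtype) →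
        (l.map fun h => ρ h - 1).prod * ∑ i ∈ Finset.range N, ρ g ^ i = 0 := by
  classical
  have hp := (Fact.out : p.Prime)
  haveI := Blocks.pCore_normal' (G := G) (p := p)
  set P0 := Cfsg.pCore p G with hP0
  have hP0p : IsPGroup p P0 := CfsgLib.isPGroup_pCore p
  set Φ := frattini P0 with hΦ
  letI : CommGroup (P0 ⧸ Φ) :=
    { (inferInstance : Group (P0 ⧸ Φ)) with
      mul_comm := fun a b => by
        obtain ⟨a, rfl⟩ := QuotientGroup.mk_surjective a
        obtain ⟨b, rfl⟩ := QuotientGroup.mk_surjective b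
        show ((a * b : P0) : P0 ⧸ Φ) = ((b * a : P0) : P0 ⧸ Φ)
        rw [QuotientGroup.eq, show (a * b)⁻¹ * (b * a) = ⁅b⁻¹, a⁻¹⁆ by rw [commutatorElement_def]; group]
        exact CfsgLib.commutator_le_frattini_pGroup hP0p
          (Subgroup.commutator_mem_commutator (Subgroup.mem_top _) (Subgroup.mem_top _)) }
  have hexp : ∀ x : Additive (P0 ⧸ Φ), p • x = 0 := fun x => by
    obtain ⟨a, ha⟩ := QuotientGroup.mk_surjective (Additive.toMul x)
    apply Additive.toMul.injective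
    rw [toMul_nsmul, ← ha, toMul_zero, ← QuotientGroup.mk_pow, QuotientGroup.eq_one_iff]
    exact CfsgLib.pow_mem_frattini_pGroup hP0p a
  letI : Module (ZMod p) (Additive (P0 ⧸ Φ)) := AddCommGroup.zmodModule (n := p) (G := Additive (P0 ⧸ Φ)) hexp
  let c : G →* MulAut P0 := MulAut.conjNormal
  have hinv : ∀ g : G, Φ.map (c g).toMonoidHom = Φ := fun g =>
    Subgroup.characteristic_iff_map_eq.mp (inferInstance : Φ.Characteristic) _
  let τ₀ : G → Module.End (ZMod p) (Additive (P0 ⧸ Φ)) := fun g =>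
    AddMonoidHom.toZModLinearMap p (M := Additive (P0 ⧸ Φ)) (M₁ := Additive (P0 ⧸ Φ))
      (MonoidHom.toAdditive (QuotientGroup.congr Φ Φ (c g) (hinv g)).toMonoidHom)
  have hτ₀ : ∀ (g : G) (a : P0), τ₀ g (Additive.ofMul (a : P0 ⧸ Φ)) = Additive.ofMul ((c g a : P0) : P0 ⧸ Φ) :=
    fun g a => rfl
  let τ : G →* Module.End (ZMod p) (Additive (P0 ⧸ Φ)) :=
    { toFun := τ₀
      map_one' := LinearMap.ext fun x => by
        obtain ⟨a, ha⟩ := QuotientGroup.mk_surjective (Additive.toMul x)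
        rw [show x = Additive.ofMul (a : P0 ⧸ Φ) by rw [ha, ofMul_toMul], hτ₀, Module.End.one_apply, map_one,
          MulAut.one_apply]
      map_mul' := fun g h => LinearMap.ext fun x => by
        obtain ⟨a, ha⟩ := QuotientGroup.mk_surjective (Additive.toMul x)
        rw [show x = Additive.ofMul (a : P0 ⧸ Φ) by rw [ha, ofMul_toMul], Module.End.mul_apply, hτ₀, hτ₀, hτ₀,
          map_mul, MulAut.mul_apply] }
  have hτ : ∀ (g : G) (a : P0), τ g (Additive.ofMul (a : P0 ⧸ Φ)) = Additive.ofMul ((c g a : P0) : P0 ⧸ Φ) :=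
    fun g a => rfl
  have hc : ∀ (g : G) (a : P0), ((c g a : P0) : G) = g * a * g⁻¹ := fun g a => MulAut.conjNormal_apply g a
  -- the kernel
  have hker : τ.ker = P0 := by
    refine le_antisymm (CfsgLib.le_pCore ?_) fun g hg => MonoidHom.mem_ker.mpr (LinearMap.ext fun x => ?_)
    · rintro ⟨y, hy⟩
      obtain ⟨k, d, hd, ho⟩ := Nat.exists_eq_pow_mul_and_not_dvd (orderOf_pos y).ne' p hp.one_lt.ne'
      set b := y ^ p ^ k with hb
      have hbc : b ^ d = 1 := by rw [hb, ← pow_mul, ← ho, pow_orderOf_eq_one]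
      obtain ⟨e, he⟩ := IsPGroup.iff_card.mp hP0p
      have hcp : Nat.Coprime d (p ^ e) := ((hp.coprime_iff_not_dvd.mpr hd).symm).pow_right e
      have hbA : Subgroup.zpowers b ≤ Subgroup.centralizer (P0 : Set G) := by
        refine CfsgLib.centralize_of_trivial_mod_frattini (by rw [Subgroup.normalizer_eq_top]; exact le_top) ?_ ?_
        · rw [Nat.card_zpowers]
          exact (hcp.coprime_dvd_left (orderOf_dvd_of_pow_eq_one hbc)).coprime_dvd_right
            (he ▸ Subgroup.card_subgroup_dvd_card (frattini P0))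
        · rintro _ ⟨j, rfl⟩ z hz
          have hj : b ^ j ∈ τ.ker := Subgroup.zpow_mem _ (Subgroup.pow_mem _ hy _) j
          have h1 := LinearMap.congr_fun (MonoidHom.mem_ker.mp hj) (Additive.ofMul ((⟨z, hz⟩ : P0) : P0 ⧸ Φ))
          rw [hτ, Module.End.one_apply] at h1
          have h2 := QuotientGroup.eq.mp (Additive.ofMul.injective h1).symm
          refine ⟨(c (b ^ j) ⟨z, hz⟩) * (⟨z, hz⟩ : P0)⁻¹, ?_, ?_⟩
          · have h3 := (inferInstance : Φ.Normal).conj_mem _ h2 (⟨z, hz⟩ : P0)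
            rwa [mul_inv_cancel_left] at h3
          · rw [Subgroup.subtype_apply, Subgroup.coe_mul, hc, Subgroup.coe_inv]
      have hbP : b ∈ P0 := Blocks.hall_higman hsol hO (hbA (Subgroup.mem_zpowers b))
      have hb1 : b = 1 := by
        rw [← orderOf_eq_one_iff]
        refine Nat.eq_one_of_dvd_coprimes hcp (orderOf_dvd_of_pow_eq_one hbc) ?_
        rw [← he, ← Subgroup.orderOf_mk b hbP]
        exact orderOf_dvd_natCard _
      exact ⟨k, Subtype.ext hb1⟩
    · obtain ⟨a, ha⟩ := QuotientGroup.mk_surjective (Additive.toMul x)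
      rw [show x = Additive.ofMul (a : P0 ⧸ Φ) by rw [ha, ofMul_toMul], hτ, Module.End.one_apply]
      congr 1
      have hca : c g a = (⟨g, hg⟩ : P0) * a * (⟨g, hg⟩ : P0)⁻¹ := Subtype.ext (hc g a)
      rw [hca, QuotientGroup.mk_mul, QuotientGroup.mk_mul, QuotientGroup.mk_inv, mul_comm
        ((⟨g, hg⟩ : P0) : P0 ⧸ Φ), mul_inv_cancel_right]
  -- extend the scalars
  set K := AlgebraicClosure (ZMod p)
  haveI : CharP K p := charP_of_injective_algebraMap (algebraMap (ZMod p) K).injective p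
  let β := Module.End.baseChangeHom (ZMod p) K (Additive (P0 ⧸ Φ))
  let ρ : G →* Module.End K (K ⊗[ZMod p] Additive (P0 ⧸ Φ)) := β.toMonoidHom.comp τ
  have hmk : Function.Injective (TensorProduct.mk (ZMod p) K (Additive (P0 ⧸ Φ)) 1) :=
    Module.FaithfullyFlat.tensorProduct_mk_injective (Additive (P0 ⧸ Φ))
  refine ⟨K, inferInstance, inferInstance, inferInstance, K ⊗[ZMod p] Additive (P0 ⧸ Φ), inferInstance, inferInstance,
    inferInstance, ρ, ?_, fun hne => ?_, fun l g N h => ?_⟩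
  · refine Eq.trans ?_ hker
    ext g
    rw [MonoidHom.mem_ker, MonoidHom.mem_ker]
    refine ⟨fun h => LinearMap.ext fun v => hmk ?_, fun h => by show β (τ g) = 1; rw [h, map_one]⟩
    have := LinearMap.congr_fun h (1 ⊗ₜ[ZMod p] v)
    exact this
  · haveI : Nontrivial P0 := (Subgroup.nontrivial_iff_ne_bot _).mpr hne
    haveI : Nontrivial (P0 ⧸ Φ) := by
      rcases subsingleton_or_nontrivial (P0 ⧸ Φ) with h | h
      · exfalso
        obtain ⟨M, hM, -⟩ := (eq_top_or_exists_le_coatom (⊥ : Subgroup P0)).resolve_left bot_ne_top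
        refine hM.1 (top_le_iff.mp (le_trans (fun a _ => ?_) (frattini_le_coatom hM)))
        exact (QuotientGroup.eq_one_iff a).mp (Subsingleton.elim _ _)
      · exact h
    exact hmk.nontrivial
  · have hlist : ∀ (l : List G) (a : P0), ∃ b : P0, (b : G) = l.foldr (fun h w => h * w * h⁻¹ * w⁻¹) (a : G) ∧
        (l.map fun h => τ h - 1).prod (Additive.ofMul (a : P0 ⧸ Φ)) = Additive.ofMul (b : P0 ⧸ Φ) := by
      intro l a
      induction l with
      | nil => exact ⟨a, rfl, by simp⟩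
      | cons h l ih =>
        obtain ⟨b, hb, hb'⟩ := ih
        refine ⟨c h b * b⁻¹, ?_, ?_⟩
        · rw [Subgroup.coe_mul, hc, Subgroup.coe_inv, List.foldr_cons, hb]
        · rw [List.map_cons, List.prod_cons, Module.End.mul_apply, hb', LinearMap.sub_apply, Module.End.one_apply, hτ,
            QuotientGroup.mk_mul, QuotientGroup.mk_inv, ofMul_mul, ofMul_inv, sub_eq_add_neg]
    have hsum : ∀ (N : ℕ) (a : P0), ∃ b : P0, (b : G) = ((a : G) * g) ^ N * (g ^ N)⁻¹ ∧
        (∑ i ∈ Finset.range N, τ g ^ i) (Additive.ofMul (a : P0 ⧸ Φ)) = Additive.ofMul (b : P0 ⧸ Φ) := by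
      intro N a
      induction N with
      | zero => exact ⟨1, by simp, by simp⟩
      | succ N ih =>
        obtain ⟨b, hb, hb'⟩ := ih
        refine ⟨b * c (g ^ N) a, ?_, ?_⟩
        · rw [Subgroup.coe_mul, hc, hb, pow_succ, pow_succ]; group
        · rw [Finset.sum_range_succ, LinearMap.add_apply, hb', ← map_pow, hτ, QuotientGroup.mk_mul, ofMul_mul]
    have hzero : (l.map fun h => τ h - 1).prod * ∑ i ∈ Finset.range N, τ g ^ i = 0 := LinearMap.ext fun x => by
      obtain ⟨a, ha⟩ := QuotientGroup.mk_surjective (Additive.toMul x)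
      rw [show x = Additive.ofMul (a : P0 ⧸ Φ) by rw [ha, ofMul_toMul], Module.End.mul_apply]
      obtain ⟨b, hb, hb'⟩ := hsum N a
      obtain ⟨b', hb2, hb2'⟩ := hlist l b
      rw [hb', hb2', LinearMap.zero_apply]
      have h1 := h a a.2
      rw [← hb, ← hb2] at h1
      obtain ⟨w, hw, hwe⟩ := h1
      rw [show b' = w from Subtype.ext hwe.symm, (QuotientGroup.eq_one_iff w).mpr hw, ofMul_one]
    have := congrArg β hzero
    rw [map_mul, map_list_prod, map_sum, List.map_map, map_zero] at this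
    rw [show (l.map fun h => ρ h - 1) = l.map (⇑β ∘ fun h => τ h - 1) from List.map_congr_left fun h _ => by
        show β (τ h) - 1 = β (τ h - 1)
        rw [map_sub, map_one],
      show (∑ i ∈ Finset.range N, ρ g ^ i) = ∑ i ∈ Finset.range N, β (τ g ^ i) from
        Finset.sum_congr rfl fun i _ => (map_pow β (τ g) i).symm]
    exact this

/-- `1 + X + ⋯ + X ^ (p ^ k - 1) = (X - 1) ^ (p ^ k - 1)` in characteristic `p`. -/
theorem geom_sum_eq_pow {K : Type v} [Field K] {p : ℕ} [Fact p.Prime] [CharP K p] {A : Type w} [Ring A] [Algebra K A]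
    (a : A) (k : ℕ) : ∑ i ∈ Finset.range (p ^ k), a ^ i = (a - 1) ^ (p ^ k - 1) := by
  have h1 : (∑ i ∈ Finset.range (p ^ k), (Polynomial.X : Polynomial K) ^ i) = (Polynomial.X - 1) ^ (p ^ k - 1) := by
    refine mul_right_cancel₀ (b := (Polynomial.X - 1 : Polynomial K)) ?_ ?_
    · simpa using Polynomial.X_sub_C_ne_zero (1 : K)
    · rw [geom_sum_mul, ← pow_succ, Nat.sub_add_cancel (pow_pos (Fact.out : p.Prime).pos k), sub_pow_char_pow, one_pow]
  simpa using congrArg (Polynomial.aeval a) h1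

section quotient

variable {G : Type u} [Group G] [Finite G] {p : ℕ} [Fact p.Prime]

omit [Fact p.Prime] in
/-- A `p`-element of a quotient lifts to a `p`-element. -/
theorem exists_lift (hp : p.Prime) {H : Type v} [Group H] (f : G →* H) (hf : Function.Surjective f) {x : H}
    (hx : ∃ k : ℕ, x ^ p ^ k = 1) : ∃ g : G, f g = x ∧ ∃ k : ℕ, g ^ p ^ k = 1 := by
  obtain ⟨j, hj⟩ := hx
  obtain ⟨a, rfl⟩ := hf x
  obtain ⟨k, c, hc, ho⟩ := Nat.exists_eq_pow_mul_and_not_dvd (orderOf_pos a).ne' p hp.one_lt.ne'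
  have hcop : c.Coprime (orderOf (f a)) := by
    refine Nat.Coprime.coprime_dvd_right (orderOf_dvd_of_pow_eq_one hj) ?_
    exact (hp.coprime_iff_not_dvd.mpr hc).symm.pow_right j
  obtain ⟨m, hm⟩ := exists_pow_eq_self_of_coprime hcop
  refine ⟨(a ^ c) ^ m, by rw [map_pow, map_pow, hm], k, ?_⟩
  rw [← pow_mul, ← pow_mul, show c * (m * p ^ k) = (p ^ k * c) * m by ring, pow_mul, ← ho, pow_orderOf_eq_one, one_pow]

/-- Every `p`-element has order dividing `p ^ e`. -/
def ExpLE (p e : ℕ) (G : Type u) [Group G] : Prop := ∀ g : G, (∃ k : ℕ, g ^ p ^ k = 1) → g ^ p ^ e = 1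

theorem ExpLE.of_surjective {H : Type v} [Group H] {e : ℕ} (h : ExpLE p e G) (f : G →* H)
    (hf : Function.Surjective f) : ExpLE p e H := fun x hx => by
  obtain ⟨g, rfl, hg⟩ := exists_lift (Fact.out : p.Prime) f hf hx
  rw [← map_pow, h g hg, map_one]

theorem expLE_of_sylow {e : ℕ} (h : ∀ (P : Sylow p G), ∀ x ∈ (P : Subgroup G), x ^ p ^ e = 1) : ExpLE p e G := by
  rintro g ⟨k, hk⟩
  have hg : IsPGroup p (Subgroup.zpowers g) := IsPGroup.of_card_dvd_pow (n := k) (by
    rw [Nat.card_zpowers]; exact orderOf_dvd_of_pow_eq_one hk)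
  obtain ⟨P, hP⟩ := hg.exists_le_sylow
  exact h P g (hP (Subgroup.mem_zpowers g))

/-- An element of a `p`-element coset of `O_p` reaching the exponent is exceptional. -/
theorem top_exceptional (hsol : Cfsg.IsPSolvable p G) {e : ℕ} (he : ExpLE p e G) {g : G} (hg : ∃ k : ℕ, g ^ p ^ k = 1)
    {K : Type v} [Field K] [CharP K p] {V : Type w} [AddCommGroup V] [Module K V] (ρ : G →* Module.End K V)
    (hρ : ∀ (l : List G) (g : G) (N : ℕ),
        (∀ v ∈ Cfsg.pCore p G, l.foldr (fun h w => h * w * h⁻¹ * w⁻¹) ((v * g) ^ N * (g ^ N)⁻¹) ∈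
          (frattini (Cfsg.pCore p G)).map (Cfsg.pCore p G).subtype) →
        (l.map fun h => ρ h - 1).prod * ∑ i ∈ Finset.range N, ρ g ^ i = 0) :
    (ρ g - 1) ^ (p ^ e - 1) = 0 := by
  obtain ⟨k, hk⟩ := hg
  haveI := Blocks.pCore_normal' (G := G) (p := p)
  have hzp : IsPGroup p (Subgroup.zpowers g) := IsPGroup.of_card_dvd_pow (n := k) (by
    rw [Nat.card_zpowers]; exact orderOf_dvd_of_pow_eq_one hk)
  obtain ⟨S, hS⟩ := hzp.exists_le_sylow
  have hPS : Cfsg.pCore p G ≤ (S : Subgroup G) := CfsgLib.pCore_le_sylow S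
  have h := hρ [] g (p ^ e) fun v hv => by
    have h1 : (v * g) ^ p ^ e = 1 := he _ (by
      obtain ⟨j, hj⟩ := S.2 ⟨v * g, mul_mem (hPS hv) (hS (Subgroup.mem_zpowers g))⟩
      exact ⟨j, congrArg Subtype.val hj⟩)
    rw [List.foldr_nil, h1, he g ⟨k, hk⟩, inv_one, mul_one]
    exact one_mem _
  rwa [List.map_nil, List.prod_nil, one_mul, geom_sum_eq_pow (K := K)] at h

end quotient

/-- No prime power `p ^ m - 1` has a nonabelian Sylow subgroup. -/
def NoExc (p : ℕ) (G : Type u) [Group G] : Prop :=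
  ∀ n₀ q m : ℕ, 1 ≤ n₀ → q.Prime → 1 ≤ m → p ^ n₀ - 1 = q ^ m →
    ∃ Q : Sylow q G, IsMulCommutative (Q : Subgroup G)

theorem NoExc.of_surjective {G : Type u} [Group G] [Finite G] {p : ℕ} (h : NoExc p G) {H : Type v} [Group H]
    (f : G →* H) (hf : Function.Surjective f) : NoExc p H := fun n₀ q m h1 hq h2 h3 => by
  obtain ⟨Q, hQ⟩ := h n₀ q m h1 hq h2 h3
  haveI := Fact.mk hq
  refine ⟨Q.mapSurjective hf, ?_⟩
  rw [Sylow.coe_mapSurjective]
  exact Subgroup.map_isMulCommutative _ _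

theorem pCore_ne_bot {G : Type u} [Group G] [Finite G] {p : ℕ} [Fact p.Prime] (hsol : Cfsg.IsPSolvable p G)
    (hO : Cfsg.pPrimeCore p G = ⊥) (h : Cfsg.pCore p G = ⊥) : Subsingleton G := by
  have h1 : Subgroup.centralizer (Cfsg.pCore p G : Set G) ≤ Cfsg.pCore p G := Blocks.hall_higman hsol hO
  rw [h] at h1
  exact ⟨fun a b => by
    have ha : ∀ a : G, a = 1 := fun a => Subgroup.mem_bot.mp (h1 (Subgroup.mem_centralizer_iff.mpr fun c hc => by
      rw [Subgroup.mem_bot.mp hc, one_mul, mul_one]))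
    rw [ha a, ha b]⟩

theorem pCore_quotient_pCore (G : Type u) [Group G] [Finite G] (p : ℕ) [Fact p.Prime]
    [(Cfsg.pCore p G).Normal] : Cfsg.pCore p (G ⧸ Cfsg.pCore p G) = ⊥ := by
  haveI := Blocks.pCore_normal' (G := G ⧸ Cfsg.pCore p G) (p := p)
  set π := QuotientGroup.mk' (Cfsg.pCore p G)
  have h1 : (Cfsg.pCore p (G ⧸ Cfsg.pCore p G)).comap π ≤ Cfsg.pCore p G :=
    CfsgLib.le_pCore ((CfsgLib.isPGroup_pCore (G := G ⧸ Cfsg.pCore p G) p).comap_of_ker_isPGroup π (by
      rw [QuotientGroup.ker_mk']; exact CfsgLib.isPGroup_pCore p))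
  rw [eq_bot_iff]
  intro x hx
  obtain ⟨g, rfl⟩ := QuotientGroup.mk'_surjective (Cfsg.pCore p G) x
  exact Subgroup.mem_bot.mpr ((QuotientGroup.eq_one_iff g).mpr (h1 hx))

/-- The action of the quotient by `O_p`. -/
theorem exists_quotient_action {G : Type u} [Group G] {p : ℕ} [(Cfsg.pCore p G).Normal] {K : Type v} [Field K]
    {V : Type w} [AddCommGroup V] [Module K V] (ρ : G →* Module.End K V) (hker : ρ.ker = Cfsg.pCore p G) :
    ∃ ρ' : G ⧸ Cfsg.pCore p G →* Module.End K V, Function.Injective ρ' ∧ ∀ g : G, ρ' (g : G ⧸ Cfsg.pCore p G) = ρ g := by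
  refine ⟨QuotientGroup.lift _ ρ hker.ge, ?_, fun g => rfl⟩
  rw [← MonoidHom.ker_eq_bot_iff, eq_bot_iff]
  intro x hx
  obtain ⟨g, rfl⟩ := QuotientGroup.mk_surjective x
  exact Subgroup.mem_bot.mpr ((QuotientGroup.eq_one_iff g).mpr (hker ▸ MonoidHom.mem_ker.mpr hx))

/-- The quotient by `O_p` loses a factor of the exponent. -/
theorem expLE_quotient {G : Type u} [Group G] [Finite G] {p : ℕ} [Fact p.Prime] (hsol : Cfsg.IsPSolvable p G)
    (hO : Cfsg.pPrimeCore p G = ⊥) (hne : NoExc p G) {e : ℕ} (he : ExpLE p (e + 1) G) [(Cfsg.pCore p G).Normal] :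
    ExpLE p e (G ⧸ Cfsg.pCore p G) := by
  classical
  have hp := (Fact.out : p.Prime)
  intro x hx
  set π := QuotientGroup.mk' (Cfsg.pCore p G) with hπ
  have hx1 : x ^ p ^ (e + 1) = 1 := he.of_surjective π (QuotientGroup.mk'_surjective _) x hx
  by_contra hne1
  have hxo : orderOf x = p ^ (e + 1) := orderOf_eq_prime_pow hne1 hx1
  obtain ⟨K, _, _, _, V, _, _, _, ρ, hker, hnt, hρ⟩ := exists_module hsol hO
  obtain ⟨ρ', hinj, hρ'⟩ := exists_quotient_action ρ hker
  haveI : Nontrivial V := hnt fun h => by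
    haveI := pCore_ne_bot hsol hO h
    obtain ⟨g, rfl⟩ := QuotientGroup.mk_surjective x
    exact hne1 (by rw [show g = 1 from Subsingleton.elim _ _, QuotientGroup.mk_one, one_pow])
  obtain ⟨g, rfl, hg⟩ := exists_lift hp π (QuotientGroup.mk'_surjective _) hx
  have hr := top_exceptional hsol he hg ρ hρ
  rw [← hρ'] at hr
  rcases theorem_b (PSolvableClosure.of_surjective π (QuotientGroup.mk'_surjective _) hsol)
    (pCore_quotient_pCore G p) ρ' hinj hxo _ hr with h | ⟨n₀, q, m, h1, -, hq, h2, h3, h4, -⟩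
  · have := Nat.one_le_pow (e + 1) p hp.pos
    omega
  · obtain ⟨Q, hQ⟩ := hne.of_surjective π (QuotientGroup.mk'_surjective _) n₀ q m h1 hq h2 h3
    exact h4 Q hQ

/-- Without exceptional primes the `p`-length is at most the exponent. -/
theorem pLengthLE_exp {p : ℕ} [Fact p.Prime] : ∀ (N : ℕ) {G : Type u} [Group G] [Finite G], Nat.card G ≤ N →
    Cfsg.IsPSolvable p G → NoExc p G → ∀ e : ℕ, ExpLE p e G → Cfsg.PLengthLE p e G := by
  intro N
  induction N with
  | zero => intro G _ _ hN; exact absurd hN (by have := Nat.card_pos (α := G); omega)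
  | succ N ih =>
    intro G _ _ hN hsol hne e he
    classical
    by_cases hO : Cfsg.pPrimeCore p G = ⊥
    · haveI := Blocks.pCore_normal' (G := G) (p := p)
      by_cases hP : Cfsg.pCore p G = ⊥
      · haveI := pCore_ne_bot hsol hO hP
        exact Subsingleton.elim _ _
      rcases e with _ | e
      · exfalso
        refine hP ((Subgroup.eq_bot_iff_forall _).mpr fun v hv => ?_)
        obtain ⟨k, hk⟩ := CfsgLib.isPGroup_pCore (G := G) p ⟨v, hv⟩
        simpa using he v ⟨k, congrArg Subtype.val hk⟩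
      set π := QuotientGroup.mk' (Cfsg.pCore p G) with hπ
      have hlt : Nat.card (G ⧸ Cfsg.pCore p G) < Nat.card G := by
        rw [Subgroup.card_eq_card_quotient_mul_card_subgroup (Cfsg.pCore p G)]
        exact lt_mul_of_one_lt_right Nat.card_pos
          (Finite.one_lt_card_iff_nontrivial.mpr ((Subgroup.nontrivial_iff_ne_bot _).mpr hP))
      exact PSeries.pLengthLE_of_pGroup_kernel π (by rw [QuotientGroup.ker_mk']; exact CfsgLib.isPGroup_pCore p)
        (ih (by omega) (PSolvableClosure.of_surjective π (QuotientGroup.mk'_surjective _) hsol)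
          (hne.of_surjective π (QuotientGroup.mk'_surjective _)) e (expLE_quotient hsol hO hne he))
    · set π := QuotientGroup.mk' (Cfsg.pPrimeCore p G) with hπ
      have hlt : Nat.card (G ⧸ Cfsg.pPrimeCore p G) < Nat.card G := by
        rw [Subgroup.card_eq_card_quotient_mul_card_subgroup (Cfsg.pPrimeCore p G)]
        exact lt_mul_of_one_lt_right Nat.card_pos
          (Finite.one_lt_card_iff_nontrivial.mpr ((Subgroup.nontrivial_iff_ne_bot _).mpr hO))
      exact PSeries.pLengthLE_of_pPrime_kernel π (by rw [QuotientGroup.ker_mk']; exact CfsgLib.card_pPrimeCore_coprime p)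
        (ih (by omega) (PSolvableClosure.of_surjective π (QuotientGroup.mk'_surjective _) hsol)
          (hne.of_surjective π (QuotientGroup.mk'_surjective _)) e (he.of_surjective π (QuotientGroup.mk'_surjective _)))

/-- Two steps of the series lose a factor of the exponent, for odd `p`. -/
theorem expLE_two_steps {H : Type u} [Group H] [Finite H] {p : ℕ} [Fact p.Prime] (hp2 : p ≠ 2)
    (hsol : Cfsg.IsPSolvable p H) (hOp : Cfsg.pCore p H = ⊥) {e : ℕ}
    {K : Type v} [Field K] [IsAlgClosed K] [CharP K p] {V : Type w} [AddCommGroup V] [Module K V]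
    [FiniteDimensional K V] (ρ : H →* Module.End K V) (hρ : Function.Injective ρ) (he : ExpLE p (e + 1) H)
    (hexc : ∀ h : H, (∃ k : ℕ, h ^ p ^ k = 1) → (ρ h - 1) ^ (p ^ (e + 1) - 1) = 0)
    [(Cfsg.pCore p (H ⧸ Cfsg.pPrimeCore p H)).Normal] :
    ExpLE p e ((H ⧸ Cfsg.pPrimeCore p H) ⧸ Cfsg.pCore p (H ⧸ Cfsg.pPrimeCore p H)) := by
  classical
  have hp := (Fact.out : p.Prime)
  set H₁ := H ⧸ Cfsg.pPrimeCore p H
  set π₁ := QuotientGroup.mk' (Cfsg.pPrimeCore p H) with hπ₁
  have hπ₁s : Function.Surjective π₁ := QuotientGroup.mk'_surjective _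
  set π₂ := QuotientGroup.mk' (Cfsg.pCore p H₁) with hπ₂
  have hπ₂s : Function.Surjective π₂ := QuotientGroup.mk'_surjective _
  have hsol₁ : Cfsg.IsPSolvable p H₁ := PSolvableClosure.of_surjective π₁ hπ₁s hsol
  have hO₁ : Cfsg.pPrimeCore p H₁ = ⊥ := CfsgLib.pPrimeCore_quotient_eq_bot (G := H) p
  intro x hx
  have hx1 : x ^ p ^ (e + 1) = 1 := (he.of_surjective π₁ hπ₁s).of_surjective π₂ hπ₂s x hx
  by_contra hne1
  have hxo : orderOf x = p ^ (e + 1) := orderOf_eq_prime_pow hne1 hx1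
  obtain ⟨K₁, _, _, _, V₁, _, _, _, ρ₁, hker, hnt, hρ₁⟩ := exists_module hsol₁ hO₁
  obtain ⟨ρ', hinj, hρ'⟩ := exists_quotient_action ρ₁ hker
  haveI : Nontrivial V₁ := hnt fun h => by
    haveI := pCore_ne_bot hsol₁ hO₁ h
    obtain ⟨g, rfl⟩ := QuotientGroup.mk_surjective x
    exact hne1 (by rw [show g = 1 from Subsingleton.elim _ _, QuotientGroup.mk_one, one_pow])
  obtain ⟨g₁, rfl, hg₁⟩ := exists_lift hp π₂ hπ₂s hx
  obtain ⟨g, rfl, hg⟩ := exists_lift hp π₁ hπ₁s hg₁
  obtain ⟨k, hk⟩ := hg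
  obtain ⟨S, hS⟩ := (IsPGroup.of_card_dvd_pow (n := k) (G := Subgroup.zpowers g) (by
    rw [Nat.card_zpowers]; exact orderOf_dvd_of_pow_eq_one hk)).exists_le_sylow
  -- the top powers commute
  have hcomm : ∀ v ∈ Cfsg.pCore p H₁,
      ⁅π₁ g ^ p ^ e, (v * π₁ g) ^ p ^ e * ((π₁ g) ^ p ^ e)⁻¹⁆ = 1 := by
    intro v hv
    have hv' : v ∈ (S : Subgroup H).map π₁ := by
      have := CfsgLib.pCore_le_sylow (S.mapSurjective hπ₁s) hv
      rwa [Sylow.coe_mapSurjective] at this
    obtain ⟨a, ha, rfl⟩ := hv'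
    have hagS : a * g ∈ (S : Subgroup H) := mul_mem ha (hS (Subgroup.mem_zpowers g))
    have hord : ∀ h : H, h ∈ (S : Subgroup H) → π₂ (π₁ h) = π₂ (π₁ g) → Exc p ρ h (e + 1) := by
      intro h hh hhg
      obtain ⟨j, hj⟩ := S.2 ⟨h, hh⟩
      have hpe : ∃ j : ℕ, h ^ p ^ j = 1 := ⟨j, congrArg Subtype.val hj⟩
      refine ⟨by omega, orderOf_eq_prime_pow (fun h1 => hne1 ?_) (he h hpe), p ^ (e + 1) - 1, ?_, hexc h hpe⟩
      · rw [← hhg, ← map_pow, ← map_pow, h1, map_one, map_one]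
      · have := Nat.one_le_pow (e + 1) p hp.pos
        omega
    have hag : π₂ (π₁ (a * g)) = π₂ (π₁ g) := by
      rw [map_mul, map_mul, show π₂ (π₁ a) = 1 from (QuotientGroup.eq_one_iff _).mpr hv, one_mul]
    have h1 := exc_commute hp2 hsol hOp hρ S.2 (hord g (hS (Subgroup.mem_zpowers g)) rfl) (hord _ hagS hag)
      (hS (Subgroup.mem_zpowers g)) hagS
    rw [Nat.add_sub_cancel] at h1
    have h2 := congrArg π₁ h1
    rw [map_commutatorElement, map_one, map_pow, map_pow, map_mul] at h2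
    rw [commutatorElement_eq_one_iff_commute] at h2 ⊢
    exact h2.mul_right ((Commute.refl _).inv_right)
  have h := hρ₁ [π₁ g ^ p ^ e] (π₁ g) (p ^ e) fun v hv => by
    have := hcomm v hv
    rw [commutatorElement_def] at this
    rw [List.foldr_cons, List.foldr_nil, this]
    exact one_mem _
  haveI : CharP (Module.End K₁ V₁) p := charP_of_injective_algebraMap (algebraMap K₁ (Module.End K₁ V₁)).injective p
  rw [List.map_cons, List.map_nil, List.prod_singleton, geom_sum_eq_pow (K := K₁), map_pow,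
    show ρ₁ (π₁ g) ^ p ^ e - 1 = (ρ₁ (π₁ g) - 1) ^ p ^ e by
      rw [sub_pow_char_pow_of_commute _ _ (Commute.one_right _), one_pow],
    ← pow_add, ← hρ'] at h
  rcases theorem_b (PSolvableClosure.of_surjective π₂ hπ₂s hsol₁) (pCore_quotient_pCore H₁ p) ρ' hinj hxo _ h with
    h' | ⟨n₀, q, m, h1, h2, -, -, -, -, h3⟩
  · rw [pow_succ] at h'
    have := Nat.one_le_pow e p hp.pos
    have h5 : p ^ e * 3 ≤ p ^ e * p := Nat.mul_le_mul_left _ (by have := hp.two_le; omega)
    omega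
  · have h4 : p ^ (e + 1 - n₀) * p ^ n₀ = p ^ e * p := by
      rw [← pow_add, Nat.sub_add_cancel h2, pow_succ]
    rw [Nat.mul_sub, mul_one, h4] at h3
    have h5 : p ^ e * 3 ≤ p ^ e * p := Nat.mul_le_mul_left _ (by have := hp.two_le; omega)
    have h6 : p ^ (e + 1 - n₀) ≤ p ^ e := Nat.pow_le_pow_right hp.pos (by omega)
    have := Nat.one_le_pow e p hp.pos
    omega

/-- For odd `p` the `p`-length is at most twice the exponent. -/
theorem pLengthLE_two_exp {p : ℕ} [Fact p.Prime] (hp2 : p ≠ 2) : ∀ (e : ℕ) {G : Type u} [Group G] [Finite G],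
    Cfsg.IsPSolvable p G → ExpLE p e G → Cfsg.PLengthLE p (2 * e) G := by
  intro e
  induction e with
  | zero =>
    intro G _ _ hsol he
    rw [Nat.mul_zero, PSeries.pLengthLE_zero_iff, eq_top_iff]
    refine CfsgLib.le_pPrimeCore ?_
    refine ((Fact.out : p.Prime).coprime_iff_not_dvd.mpr fun hd => ?_).symm
    rw [Subgroup.card_top] at hd
    obtain ⟨g, hg⟩ := exists_prime_orderOf_dvd_card' p hd
    have h1 := he g ⟨1, by rw [pow_one, ← hg, pow_orderOf_eq_one]⟩
    rw [pow_zero, pow_one] at h1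
    rw [h1, orderOf_one] at hg
    exact (Fact.out : p.Prime).one_lt.ne hg
  | succ e ih =>
    intro G _ _ hsol he
    classical
    set π₀ := QuotientGroup.mk' (Cfsg.pPrimeCore p G)
    refine PSeries.pLengthLE_of_pPrime_kernel π₀ (by rw [QuotientGroup.ker_mk']; exact CfsgLib.card_pPrimeCore_coprime p) ?_
    set G₁ := G ⧸ Cfsg.pPrimeCore p G
    have hsol₁ : Cfsg.IsPSolvable p G₁ := PSolvableClosure.of_surjective π₀ (QuotientGroup.mk'_surjective _) hsol
    have hO₁ : Cfsg.pPrimeCore p G₁ = ⊥ := CfsgLib.pPrimeCore_quotient_eq_bot (G := G) p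
    have he₁ : ExpLE p (e + 1) G₁ := he.of_surjective π₀ (QuotientGroup.mk'_surjective _)
    haveI := Blocks.pCore_normal' (G := G₁) (p := p)
    set π₁ := QuotientGroup.mk' (Cfsg.pCore p G₁) with hπ₁
    rw [show 2 * (e + 1) = 2 * e + 1 + 1 by ring]
    refine PSeries.pLengthLE_of_pGroup_kernel π₁ (by rw [QuotientGroup.ker_mk']; exact CfsgLib.isPGroup_pCore p) ?_
    set H := G₁ ⧸ Cfsg.pCore p G₁
    refine PSeries.pLengthLE_of_pPrime_kernel (QuotientGroup.mk' (Cfsg.pPrimeCore p H))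
      (by rw [QuotientGroup.ker_mk']; exact CfsgLib.card_pPrimeCore_coprime p) ?_
    haveI := Blocks.pCore_normal' (G := H ⧸ Cfsg.pPrimeCore p H) (p := p)
    refine PSeries.pLengthLE_of_pGroup_kernel (QuotientGroup.mk' (Cfsg.pCore p (H ⧸ Cfsg.pPrimeCore p H)))
      (by rw [QuotientGroup.ker_mk']; exact CfsgLib.isPGroup_pCore p) ?_
    have hsolH : Cfsg.IsPSolvable p H := PSolvableClosure.of_surjective π₁ (QuotientGroup.mk'_surjective _) hsol₁
    refine ih (PSolvableClosure.of_surjective _ (QuotientGroup.mk'_surjective _)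
      (PSolvableClosure.of_surjective _ (QuotientGroup.mk'_surjective _) hsolH)) ?_
    obtain ⟨K, _, _, _, V, _, _, _, ρ, hker, -, hρ⟩ := exists_module hsol₁ hO₁
    obtain ⟨ρ', hinj, hρ'⟩ := exists_quotient_action ρ hker
    refine expLE_two_steps hp2 hsolH (pCore_quotient_pCore G₁ p) ρ' hinj
      (he₁.of_surjective π₁ (QuotientGroup.mk'_surjective _)) fun h hh => ?_
    obtain ⟨g, rfl, hg⟩ := exists_lift (Fact.out : p.Prime) π₁ (QuotientGroup.mk'_surjective _) hh
    rw [hπ₁, QuotientGroup.mk'_apply, hρ']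
    exact top_exceptional hsol₁ he₁ hg ρ hρ

end CfsgLib.HallHigmanB
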