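import Cfsg.Agent.Lib.HallHigmanB.TwoSharpTops

/-!
The sum over an elementary abelian `2`-group acting faithfully on the quotient by the radical of a weight does not
annihilate the weight space.
-/

set_option autoImplicit false
set_option maxHeartbeats 1000000
set_option linter.unusedSectionVars false
set_option linter.style.haveILetI false

namespace CfsgLib.HallHigmanB

open Module
open scoped commutatorElement

universe u v w

variable {G : Type u} [Group G] [Finite G] {K : Type v} [Field K] [IsAlgClosed K]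
  {V : Type w} [AddCommGroup V] [Module K V] [FiniteDimensional K V]

/-- The sum of the elements of a subgroup in a representation. -/
noncomputable def sumOp (ρ : G →* Module.End K V) (U : Subgroup G) : Module.End K V :=
  ∑ u ∈ (Set.toFinite (U : Set G)).toFinset, ρ u

theorem sumOp_bot (ρ : G →* Module.End K V) : sumOp ρ ⊥ = 1 := by
  rw [sumOp, Finset.sum_eq_single 1]
  · exact map_one ρ
  · intro b hb hb1
    exact absurd (Subgroup.mem_bot.mp ((Set.Finite.mem_toFinset _).mp hb)) hb1
  · intro h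
    exact absurd ((Set.Finite.mem_toFinset _).mpr (one_mem (⊥ : Subgroup G))) h

/-- An elementary abelian `2`-group extended by a commuting involution. -/
def adjoin (U : Subgroup G) (g : G) (hg : g * g = 1) (hc : ∀ u ∈ U, Commute u g) : Subgroup G where
  carrier := {x | x ∈ U ∨ x * g ∈ U}
  one_mem' := Or.inl (one_mem U)
  mul_mem' := by
    rintro a b (ha | ha) (hb | hb)
    · exact Or.inl (mul_mem ha hb)
    · refine Or.inr ?_
      rw [mul_assoc]; exact mul_mem ha hb
    · refine Or.inr ?_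
      rw [mul_assoc, (hc b hb).eq, ← mul_assoc]; exact mul_mem ha hb
    · refine Or.inl ?_
      have h1 : a * g * (b * g) = a * b * (g * g) := by
        calc a * g * (b * g) = a * g * (b * g * g) * g⁻¹ := by group
          _ = a * g * (b * (g * g)) * g⁻¹ := by group
          _ = a * g * b * g⁻¹ := by rw [hg, mul_one]
          _ = a * (g * b) * g⁻¹ := by group
          _ = a * b * (g * g) := by
            have h2 : Commute g b := by
              have h := ((hc _ hb).symm).mul_right (Commute.refl g).inv_right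
              rwa [mul_inv_cancel_right] at h
            rw [h2.eq, hg]; group
      rw [hg, mul_one] at h1
      exact h1 ▸ mul_mem ha hb
  inv_mem' := by
    rintro a (ha | ha)
    · exact Or.inl (inv_mem ha)
    · refine Or.inr ?_
      have h2 : Commute g a := by
        have h := ((hc _ ha).symm).mul_right (Commute.refl g).inv_right
        rwa [mul_inv_cancel_right] at h
      rw [show a⁻¹ * g = (a * g)⁻¹ by rw [mul_inv_rev, inv_eq_of_mul_eq_one_left hg]; exact (h2.inv_right).eq.symm]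
      exact inv_mem ha

theorem mem_adjoin {U : Subgroup G} {g : G} {hg : g * g = 1} {hc : ∀ u ∈ U, Commute u g} {x : G} :
    x ∈ adjoin U g hg hc ↔ x ∈ U ∨ x * g ∈ U := Iff.rfl

theorem le_adjoin {U : Subgroup G} {g : G} {hg : g * g = 1} {hc : ∀ u ∈ U, Commute u g} :
    U ≤ adjoin U g hg hc := fun _ h => Or.inl h

theorem self_mem_adjoin {U : Subgroup G} {g : G} {hg : g * g = 1} {hc : ∀ u ∈ U, Commute u g} :
    g ∈ adjoin U g hg hc := Or.inr (by rw [hg]; exact one_mem U)

theorem adjoin_le {U W : Subgroup G} {g : G} {hg : g * g = 1} {hc : ∀ u ∈ U, Commute u g} (hU : U ≤ W) (hgW : g ∈ W) :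
    adjoin U g hg hc ≤ W := by
  rintro x (h | h)
  · exact hU h
  · exact (Subgroup.mul_mem_cancel_right W hgW).mp (hU h)

theorem adjoin_sq {U : Subgroup G} {g : G} {hg : g * g = 1} {hc : ∀ u ∈ U, Commute u g}
    (hU : ∀ u ∈ U, u * u = 1) : ∀ u ∈ adjoin U g hg hc, u * u = 1 := by
  rintro x (h | h)
  · exact hU x h
  · have h2 : Commute x g := by
      have h1 := (hc _ h).mul_left ((Commute.refl g).inv_left)
      rwa [mul_inv_cancel_right] at h1
    have h1 := hU _ h
    rwa [h2.symm.mul_mul_mul_comm, hg, mul_one] at h1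

theorem sumOp_adjoin [CharP K 2] (ρ : G →* Module.End K V) {U : Subgroup G} {g : G} (hg : g * g = 1)
    (hc : ∀ u ∈ U, Commute u g) (hgU : g ∉ U) :
    sumOp ρ (adjoin U g hg hc) = sumOp ρ U * (ρ g - 1) := by
  classical
  set s := (Set.toFinite (U : Set G)).toFinset with hs
  have hset : (Set.toFinite (adjoin U g hg hc : Set G)).toFinset = s ∪ s.image (fun u => u * g) := by
    ext x
    simp only [hs, Set.Finite.mem_toFinset, Finset.mem_union, Finset.mem_image, SetLike.mem_coe, mem_adjoin]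
    refine or_congr_right ⟨fun h => ⟨x * g, h, by rw [mul_assoc, hg, mul_one]⟩, ?_⟩
    rintro ⟨u, hu, rfl⟩
    rwa [mul_assoc, hg, mul_one]
  have hdisj : Disjoint s (s.image (fun u => u * g)) := by
    rw [Finset.disjoint_left]
    intro x hx hx'
    simp only [hs, Set.Finite.mem_toFinset, SetLike.mem_coe, Finset.mem_image] at hx hx'
    obtain ⟨u, hu, rfl⟩ := hx'
    exact hgU ((Subgroup.mul_mem_cancel_left U hu).mp hx)
  rw [sumOp, hset, Finset.sum_union hdisj, Finset.sum_image fun a _ b _ h => mul_right_cancel h]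
  simp only [map_mul]
  rw [← Finset.sum_mul, sumOp, ← hs, mul_sub, mul_one, sub_eq_add_neg]
  have h2 : -(∑ u ∈ s, ρ u) = ∑ u ∈ s, ρ u := LinearMap.ext fun v => by
    rw [LinearMap.neg_apply, ← neg_one_smul K ((∑ u ∈ s, ρ u) v), CharTwo.neg_eq, one_smul]
  rw [h2, add_comm]

/-- An element fixed by an involution modulo a subgroup of odd order is moved to one that is fixed exactly. -/
theorem fix_adjust {u t : G} (hu : u * u = 1) {R : Subgroup G} (hr : t⁻¹ * (u * t * u⁻¹) ∈ R)
    (hodd : Odd (orderOf (t⁻¹ * (u * t * u⁻¹)))) :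
    ∃ s ∈ R, u * (t * s) * u⁻¹ = t * s ∧ ∀ v : G, Commute v t → Commute v u → Commute v s := by
  set r := t⁻¹ * (u * t * u⁻¹) with hrdef
  obtain ⟨k, hk⟩ := hodd
  refine ⟨r ^ (k + 1), pow_mem hr _, ?_, fun v hvt hvu => ?_⟩
  · have h1 : u * r * u⁻¹ = r⁻¹ := by
      have hui : u⁻¹ = u := inv_eq_of_mul_eq_one_left hu
      rw [hrdef, mul_inv_rev, inv_inv]
      calc u * (t⁻¹ * (u * t * u⁻¹)) * u⁻¹ = (u * t⁻¹ * u) * t * (u⁻¹ * u⁻¹) := by group
        _ = (u * t⁻¹ * u) * t := by rw [← mul_inv_rev, hu, inv_one, mul_one]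
        _ = (u * t * u⁻¹)⁻¹ * t := by rw [mul_inv_rev, mul_inv_rev, inv_inv, hui]; group
    have h2 : r ^ (k + 1) * r ^ (k + 1) = r := by
      rw [← pow_add, show k + 1 + (k + 1) = orderOf r + 1 by omega, pow_succ, pow_orderOf_eq_one, one_mul]
    have h3 : u * t * u⁻¹ = t * r := by rw [hrdef, mul_inv_cancel_left]
    calc u * (t * r ^ (k + 1)) * u⁻¹ = u * t * u⁻¹ * (u * r * u⁻¹) ^ (k + 1) := by rw [conj_pow]; group
      _ = t * (r ^ (k + 1) * r ^ (k + 1)) * (r ^ (k + 1))⁻¹ := by rw [h2, h3, h1, inv_pow]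
      _ = _ := by group
  · exact ((hvt.inv_right).mul_right ((hvu.mul_right hvt).mul_right hvu.inv_right)).pow_right _

section classTwo

variable {q : ℕ} [Fact q.Prime] {P T D : Subgroup G} (C : ClassTwo q P T D) (χ : D →* Kˣ)

include C

theorem odd_orderOf (hpq : 2 ≠ q) {t : G} (ht : t ∈ T) : Odd (orderOf t) := by
  obtain ⟨k, hk⟩ := IsPGroup.iff_card.mp C.group
  exact Odd.of_dvd_nat (((Fact.out : q.Prime).odd_of_ne_two hpq.symm).pow (n := k))
    (hk ▸ Subgroup.orderOf_dvd_natCard T ht)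

theorem pair_stab {g : G} (hg : g ∈ stab P χ) {a b : G} (ha : a ∈ T) (hb : b ∈ T) :
    pair χ (g * a * g⁻¹) (g * b * g⁻¹) = pair χ a b := by
  have hgt : ∀ a ∈ T, g * a * g⁻¹ ∈ T := fun a ha => (Subgroup.mem_normalizer_iff.mp (stab_normT C χ hg) a).mp ha
  rw [pair_eq (C.com _ (hgt a ha) _ (hgt b hb)), pair_eq (C.com _ ha _ hb)]
  refine (Subgroup.mem_inf.mp hg).2.2 ⟨_, C.com _ ha _ hb⟩ ⟨_, C.com _ (hgt a ha) _ (hgt b hb)⟩ ?_
  show g * ⁅a, b⁆ * g⁻¹ = ⁅g * a * g⁻¹, g * b * g⁻¹⁆
  simp only [commutatorElement_def]; group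

theorem act_mk {g : G} (hg : g ∈ stab P χ) (t : T) :
    act C χ ⟨g, hg⟩ (t : T ⧸ (rad χ C.com C.cen).subgroupOf T) =
      ((⟨g * t * g⁻¹, (Subgroup.mem_normalizer_iff.mp (stab_normT C χ hg) t).mp t.2⟩ : T) :
        T ⧸ (rad χ C.com C.cen).subgroupOf T) := rfl

omit [Fact q.Prime] in
theorem wspace_mem_T {ρ : G →* Module.End K V} {t : G} (ht : t ∈ T) {v : V} (hv : v ∈ wspace ρ D χ ⊤) :
    ρ t v ∈ wspace ρ D χ ⊤ := by
  refine mem_wspace.mpr ⟨Submodule.mem_top, fun a => ?_⟩
  rw [← Module.End.mul_apply, ← map_mul, ← (C.cen t ht a a.2).eq, map_mul, Module.End.mul_apply,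
    (mem_wspace.mp hv).2 a, map_smul]

omit [Fact q.Prime] in
theorem wspace_pair {ρ : G →* Module.End K V} {a b : G} (ha : a ∈ T) (hb : b ∈ T) {v : V}
    (hv : v ∈ wspace ρ D χ ⊤) : ρ a (ρ b v) = (pair χ a b : K) • ρ b (ρ a v) := by
  have h1 := C.com a ha b hb
  rw [← Module.End.mul_apply, ← map_mul, show a * b = ⁅a, b⁆ * (b * a) by rw [commutatorElement_def]; group,
    map_mul, Module.End.mul_apply, map_mul, Module.End.mul_apply,
    (mem_wspace.mp (wspace_mem_T C χ hb (wspace_mem_T C χ ha hv))).2 ⟨_, h1⟩, pair_eq h1]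

variable [CharP K 2] {ρ : G →* Module.End K V}

/-- The sum over an elementary abelian subgroup acting faithfully is not zero on the weight space. -/
theorem sumOp_ne_zero (hpq : 2 ≠ q) (hχ : wspace ρ D χ ⊤ ≠ ⊥) : ∀ (n : ℕ) (U : Subgroup G), Nat.card U ≤ n →
    (hU : U ≤ stab P χ) → (∀ u ∈ U, u * u = 1) → (∀ u (hu : u ∈ U), act C χ ⟨u, hU hu⟩ = 1 → u = 1) →
    ¬ ∀ v ∈ wspace ρ D χ ⊤, sumOp ρ U v = 0 := by
  classical
  intro n
  induction n with
  | zero => intro U hn; exact absurd hn (by have := Nat.card_pos (α := U); omega)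
  | succ n ih =>
    intro U hn hU hsq hfaith hzero
    rcases eq_or_ne U ⊥ with rfl | hne
    · refine hχ ((Submodule.eq_bot_iff _).mpr fun v hv => ?_)
      have := hzero v hv
      rwa [sumOp_bot, Module.End.one_apply] at this
    obtain ⟨h, hh, hh1⟩ := (Subgroup.bot_or_exists_ne_one U).resolve_left hne
    have hcomm : ∀ a ∈ U, ∀ b ∈ U, Commute a b := fun a ha b hb => by
      have h1 := hsq _ (mul_mem ha hb)
      rw [← inv_eq_iff_mul_eq_one, mul_inv_rev, inv_eq_of_mul_eq_one_left (hsq a ha),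
        inv_eq_of_mul_eq_one_left (hsq b hb)] at h1
      exact h1.symm
    let φ : U →* MulAut (T ⧸ (rad χ C.com C.cen).subgroupOf T) := (act C χ).comp (Subgroup.inclusion hU)
    have hφ : ∀ u : U, φ u = act C χ ⟨(u : G), hU u.2⟩ := fun u => rfl
    have hφsq : ∀ (u : U) e, φ u (φ u e) = e := fun u e => by
      rw [← MulAut.mul_apply, ← map_mul, show u * u = 1 from Subtype.ext (hsq u u.2), map_one, MulAut.one_apply]
    have hφc : ∀ (u w : U) e, φ u (φ w e) = φ w (φ u e) := fun u w e => by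
      rw [← MulAut.mul_apply, ← map_mul, ← MulAut.mul_apply, ← map_mul,
        show u * w = w * u from Subtype.ext (hcomm u u.2 w w.2).eq]
    have hodd := odd_card C χ hpq
    -- a common eigenclass inverted by `h`
    have heig : ∀ s : Finset U, ∃ e, e ≠ 1 ∧ φ ⟨h, hh⟩ e = e⁻¹ ∧ ∀ u ∈ s, φ u e = e ∨ φ u e = e⁻¹ := by
      intro s
      induction s using Finset.induction with
      | empty =>
        obtain ⟨x, hx⟩ : ∃ x, φ ⟨h, hh⟩ x ≠ x := by
          by_contra hcon
          push Not at hcon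
          exact hh1 (hfaith h hh (MulEquiv.ext hcon))
        refine ⟨φ ⟨h, hh⟩ x / x, fun e => hx (div_eq_one.mp e), ?_, by simp⟩
        rw [map_div, hφsq, inv_div]
      | @insert w s hw ih =>
        obtain ⟨e, he1, heh, hes⟩ := ih
        by_cases hwe : φ w e = e⁻¹
        · refine ⟨e, he1, heh, fun u hu => ?_⟩
          rcases Finset.mem_insert.mp hu with rfl | hu
          · exact Or.inr hwe
          · exact hes u hu
        · refine ⟨e * φ w e, fun e' => hwe (eq_inv_of_mul_eq_one_right e'), ?_, fun u hu => ?_⟩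
          · rw [map_mul, hφc, heh, map_inv, mul_inv]
          · rcases Finset.mem_insert.mp hu with rfl | hu
            · exact Or.inl (by rw [map_mul, hφsq, mul_comm])
            · rcases hes u hu with h1 | h1
              · exact Or.inl (by rw [map_mul, hφc, h1])
              · exact Or.inr (by rw [map_mul, hφc, h1, map_inv, mul_inv])
    haveI := Fintype.ofFinite U
    obtain ⟨e, he1, heh, hes⟩ := heig Finset.univ
    let Up : Subgroup G := (Subgroup.comap φ
      { carrier := {f | f e = e}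
        one_mem' := rfl
        mul_mem' := fun {a b} (ha : a e = e) (hb : b e = e) => by
          show (a * b) e = e
          rw [MulAut.mul_apply, hb, ha]
        inv_mem' := fun {a} (ha : a e = e) => by
          show a⁻¹ e = e
          conv_lhs => rw [← ha]
          rw [MulAut.inv_apply_self] }).map U.subtype
    have hUp : ∀ u, u ∈ Up ↔ ∃ hu : u ∈ U, φ ⟨u, hu⟩ e = e := fun u => by
      constructor
      · rintro ⟨⟨u, hu⟩, h1, rfl⟩
        exact ⟨hu, h1⟩
      · rintro ⟨hu, h1⟩
        exact ⟨⟨u, hu⟩, h1, rfl⟩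
    have hUpU : Up ≤ U := Subgroup.map_subtype_le _
    have hhUp : h ∉ Up := fun h1 => by
      obtain ⟨_, h2⟩ := (hUp h).mp h1
      exact he1 (Quarter.eq_one_of_eq_inv hodd (h2.symm.trans heh))
    have hUeq : U = adjoin Up h (hsq h hh) (fun u hu => hcomm u (hUpU hu) h hh) := by
      refine le_antisymm (fun u hu => ?_) (adjoin_le hUpU hh)
      rcases hes ⟨u, hu⟩ (Finset.mem_univ _) with h1 | h1
      · exact Or.inl ((hUp u).mpr ⟨hu, h1⟩)
      · refine Or.inr ((hUp _).mpr ⟨mul_mem hu hh, ?_⟩)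
        rw [show (⟨u * h, mul_mem hu hh⟩ : U) = ⟨u, hu⟩ * ⟨h, hh⟩ from rfl, map_mul, MulAut.mul_apply, heh, map_inv,
          h1, inv_inv]
    -- exact fixed representatives
    have hT : ∀ {g : G}, g ∈ U → ∀ t ∈ T, g * t * g⁻¹ ∈ T := fun hg t ht =>
      (Subgroup.mem_normalizer_iff.mp (stab_normT C χ (hU hg)) t).mp ht
    have hRT : rad χ C.com C.cen ≤ T := rad_le C.com C.cen
    obtain ⟨⟨t₀, ht₀⟩, rfl⟩ := QuotientGroup.mk_surjective e
    have hlift : ∀ s : Finset G, (∀ u ∈ s, u ∈ Up) → ∃ t : T, (t : T ⧸ (rad χ C.com C.cen).subgroupOf T) =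
        ((⟨t₀, ht₀⟩ : T) : T ⧸ (rad χ C.com C.cen).subgroupOf T) ∧ ∀ u ∈ s, Commute u (t : G) := by
      intro s
      induction s using Finset.induction with
      | empty => exact fun _ => ⟨⟨t₀, ht₀⟩, rfl, by simp⟩
      | @insert w s hw ih =>
        intro hs
        obtain ⟨t, hte, htc⟩ := ih fun u hu => hs u (Finset.mem_insert_of_mem hu)
        obtain ⟨hwU, hwe⟩ := (hUp w).mp (hs w (Finset.mem_insert_self w s))
        rw [← hte, hφ, act_mk C χ (hU hwU) t, eq_comm, QuotientGroup.eq, Subgroup.mem_subgroupOf] at hwe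
        simp only [Subgroup.coe_mul, Subgroup.coe_inv] at hwe
        obtain ⟨z, hz, hzf, hzc⟩ := fix_adjust (hsq w hwU) hwe (odd_orderOf C hpq (hRT hwe))
        refine ⟨⟨(t : G) * z, mul_mem t.2 (hRT hz)⟩, ?_, fun u hu => ?_⟩
        · rw [← hte, eq_comm, QuotientGroup.eq, Subgroup.mem_subgroupOf]
          simpa using hz
        · rcases Finset.mem_insert.mp hu with rfl | hu
          · rw [mul_inv_eq_iff_eq_mul] at hzf; exact hzf
          · exact (htc u hu).mul_right (hzc u (htc u hu)
              (hcomm u (hUpU (hs u (Finset.mem_insert_of_mem hu))) w hwU))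
    obtain ⟨⟨t, ht⟩, hte, htc'⟩ := hlift (Set.toFinite (Up : Set G)).toFinset fun u hu => (Set.Finite.mem_toFinset _).mp hu
    have htc : ∀ u ∈ Up, Commute u t := fun u hu => htc' u ((Set.Finite.mem_toFinset _).mpr hu)
    rw [← hte] at he1 heh
    set c := t * (h * t * h⁻¹)⁻¹ with hc
    have hcT : c ∈ T := mul_mem ht (inv_mem (hT hh t ht))
    have hcc : ∀ u ∈ Up, Commute u c := fun u hu =>
      (htc u hu).mul_right (((hcomm u (hUpU hu) h hh).mul_right (htc u hu)).mul_right
        (hcomm u (hUpU hu) h hh).inv_right).inv_right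
    have hcR : c ∉ rad χ C.com C.cen := fun hcR => he1 (by
      have h1 : ((⟨c, hcT⟩ : T) : T ⧸ (rad χ C.com C.cen).subgroupOf T) = 1 :=
        (QuotientGroup.eq_one_iff _).mpr hcR
      rw [show (⟨c, hcT⟩ : T) = (⟨t, ht⟩ : T) * (⟨h * t * h⁻¹, hT hh t ht⟩ : T)⁻¹ from rfl, QuotientGroup.mk_mul,
        QuotientGroup.mk_inv, mul_inv_eq_one] at h1
      rw [hφ, act_mk C χ (hU hh) ⟨t, ht⟩, ← h1] at heh
      exact Quarter.eq_one_of_eq_inv hodd heh)
    obtain ⟨w₀, hw₀, hw₀c⟩ : ∃ w ∈ T, pair χ c w ≠ 1 := by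
      by_contra hcon
      push Not at hcon
      exact hcR ⟨hcT, hcon⟩
    have hlift' : ∀ s : Finset G, (∀ u ∈ s, u ∈ Up) → ∃ w ∈ T, pair χ c w ≠ 1 ∧ ∀ u ∈ s, Commute u w := by
      intro s
      induction s using Finset.induction with
      | empty => exact fun _ => ⟨w₀, hw₀, hw₀c, by simp⟩
      | @insert g s hg ih =>
        intro hs
        obtain ⟨w, hw, hwc, hwcom⟩ := ih fun u hu => hs u (Finset.mem_insert_of_mem hu)
        have hgUp := hs g (Finset.mem_insert_self g s)
        have hgU := hUpU hgUp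
        have hw' := hT hgU w hw
        have hprev : ∀ u ∈ s, Commute u (w * (g * w * g⁻¹)) := fun u hu => by
          have hug := hcomm u (hUpU (hs u (Finset.mem_insert_of_mem hu))) g hgU
          exact (hwcom u hu).mul_right ((hug.mul_right (hwcom u hu)).mul_right hug.inv_right)
        set x := w * (g * w * g⁻¹) with hx
        have hxT : x ∈ T := mul_mem hw hw'
        have hgg := hsq g hgU
        have hdisp : x⁻¹ * (g * x * g⁻¹) ∈ rad χ C.com C.cen := by
          refine le_rad C.com C.cen C.le ?_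
          have e2 : g * x * g⁻¹ = g * w * g⁻¹ * w := by
            rw [hx, show g * (w * (g * w * g⁻¹)) * g⁻¹ = g * w * g⁻¹ * ((g * g) * w * (g * g)⁻¹) by group, hgg,
              one_mul, inv_one, mul_one]
          rw [e2, hx, show (w * (g * w * g⁻¹))⁻¹ * (g * w * g⁻¹ * w) = ⁅(g * w * g⁻¹)⁻¹, w⁻¹⁆ by
            rw [commutatorElement_def]; group]
          exact C.com _ (inv_mem hw') _ (inv_mem hw)
        obtain ⟨z, hz, hzf, hzc⟩ := fix_adjust hgg hdisp (odd_orderOf C hpq (hRT hdisp))
        refine ⟨x * z, mul_mem hxT (hRT hz), fun h1 => hwc ?_, fun u hu => ?_⟩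
        · have hcg : g * c * g⁻¹ = c := by rw [(hcc g hgUp).eq, mul_inv_cancel_right]
          have e3 : pair χ c (g * w * g⁻¹) = pair χ c w := by
            conv_lhs => rw [← hcg]
            exact pair_stab C χ (hU hgU) hcT hw
          rw [pair_mul_right C.com C.cen hxT (hRT hz) hcT, hx, pair_mul_right C.com C.cen hw hw' hcT, e3,
            pair_swap C.com (hRT hz) hcT, hz.2 c hcT, inv_one, mul_one] at h1
          exact units_sq_injective _ h1
        · rcases Finset.mem_insert.mp hu with rfl | hu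
          · rw [mul_inv_eq_iff_eq_mul] at hzf; exact hzf
          · exact (hprev u hu).mul_right (hzc u (hprev u hu)
              (hcomm u (hUpU (hs u (Finset.mem_insert_of_mem hu))) g hgU))
    obtain ⟨w, hw, hwc, hwcom'⟩ := hlift' (Set.toFinite (Up : Set G)).toFinset fun u hu => (Set.Finite.mem_toFinset _).mp hu
    have hwcom : ∀ u ∈ Up, Commute u w := fun u hu => hwcom' u ((Set.Finite.mem_toFinset _).mpr hu)
    -- the smaller sum annihilates
    set A := sumOp ρ Up with hA
    have hAcomm : ∀ {g : G}, (∀ u ∈ Up, Commute u g) → ∀ v, A (ρ g v) = ρ g (A v) := fun {g} hg v => by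
      rw [hA, sumOp, LinearMap.sum_apply, LinearMap.sum_apply, map_sum]
      refine Finset.sum_congr rfl fun u hu => ?_
      rw [← Module.End.mul_apply, ← map_mul, (hg u ((Set.Finite.mem_toFinset _).mp hu)).eq, map_mul, Module.End.mul_apply]
    have hstabW : ∀ g ∈ U, ∀ v ∈ wspace ρ D χ ⊤, ρ g v ∈ wspace ρ D χ ⊤ := fun g hg v hv =>
      mem_wspace_conj (Subgroup.mem_inf.mp (hU hg)).2 (fun v _ => Submodule.mem_top) hv
    have hAW : ∀ v ∈ wspace ρ D χ ⊤, A v ∈ wspace ρ D χ ⊤ := fun v hv => by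
      rw [hA, sumOp, LinearMap.sum_apply]
      exact Submodule.sum_mem _ fun u hu => hstabW u (hUpU ((Set.Finite.mem_toFinset _).mp hu)) v hv
    have hsum : ∀ v ∈ wspace ρ D χ ⊤, A (ρ h v) = A v := fun v hv => by
      have h1 := hzero v hv
      rw [hUeq, sumOp_adjoin ρ _ _ hhUp, Module.End.mul_apply, LinearMap.sub_apply, Module.End.one_apply, map_sub,
        sub_eq_zero] at h1
      exact h1
    -- conjugating the relation by `t`
    have hfix : ∀ v ∈ wspace ρ D χ ⊤, ρ c (A v) = A v := fun v hv => by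
      have h2 := hsum _ (wspace_mem_T C χ (inv_mem ht) hv)
      have e1 : ρ h (ρ t⁻¹ v) = ρ (t⁻¹ * c) (ρ h v) := by
        rw [← Module.End.mul_apply, ← map_mul, ← Module.End.mul_apply, ← map_mul, hc]
        congr 2; group
      rw [e1, map_mul, Module.End.mul_apply, hAcomm (fun u hu => (htc u hu).inv_right), hAcomm hcc, hsum v hv,
        hAcomm (fun u hu => (htc u hu).inv_right)] at h2
      have h3 := congrArg (ρ t) h2
      rwa [rho_inv_apply, rho_inv_apply] at h3
    refine ih Up ?_ (hUpU.trans hU) (fun u hu => hsq u (hUpU hu)) (fun u hu h1 => hfaith u (hUpU hu) h1) fun v hv => ?_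
    · have hlt : Up < U := lt_of_le_of_ne hUpU fun h1 => hhUp (h1 ▸ hh)
      have : Nat.card Up < Nat.card U := by
        refine lt_of_le_of_ne (Subgroup.card_le_of_le hUpU) fun h1 => hlt.ne ?_
        exact Subgroup.eq_of_le_of_card_ge hUpU h1.ge
      omega
    · by_contra hne0
      have h1 := hfix (ρ w v) (wspace_mem_T C χ hw hv)
      rw [hAcomm hwcom, wspace_pair C χ hcT hw (hAW v hv), hfix v hv] at h1
      have h2 : ((pair χ c w : K) - 1) • ρ w (A v) = 0 := by rw [sub_smul, one_smul, h1, sub_self]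
      rcases smul_eq_zero.mp h2 with h3 | h3
      · exact hwc (Units.ext (sub_eq_zero.mp h3))
      · refine hne0 ?_
        have h4 := congrArg (ρ w⁻¹) h3
        rwa [rho_apply_inv, map_zero] at h4

end classTwo

end CfsgLib.HallHigmanB
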