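import Cfsg.Agent.Lib.HallHigmanB.TwoSharp
import Cfsg.Agent.Lib.HallHigmanB.TwoDerivedSum
import Cfsg.Agent.Lib.CoprimeSeries

/-!
The `2`-length of a `2`-soluble group is at most the derived length of its Sylow `2`-subgroups.
-/

set_option autoImplicit false
set_option maxHeartbeats 1000000
set_option linter.unusedSectionVars false
set_option linter.style.haveILetI false

namespace CfsgLib.HallHigmanB

open Module
open scoped commutatorElement

universe u v w

section series

variable {G : Type u} [Group G]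

/-- The derived series of a subgroup, inside the group. -/
def derived (S : Subgroup G) : ℕ → Subgroup G
  | 0 => S
  | i + 1 => ⁅derived S i, derived S i⁆

theorem derived_succ (S : Subgroup G) (i : ℕ) : derived S (i + 1) = ⁅derived S i, derived S i⁆ := rfl

theorem commutator_le_of_le {A B W : Subgroup G} (hA : A ≤ W) (hB : B ≤ W) : ⁅A, B⁆ ≤ W :=
  Subgroup.commutator_le.mpr fun a ha b hb => by
    rw [commutatorElement_def]
    exact mul_mem (mul_mem (mul_mem (hA ha) (hB hb)) (inv_mem (hA ha))) (inv_mem (hB hb))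

theorem derived_succ_le (S : Subgroup G) (i : ℕ) : derived S (i + 1) ≤ derived S i :=
  commutator_le_of_le le_rfl le_rfl

theorem derived_antitone (S : Subgroup G) : ∀ {i j : ℕ}, i ≤ j → derived S j ≤ derived S i := by
  intro i j hij
  induction hij with
  | refl => exact le_rfl
  | @step k _ ih => exact (derived_succ_le S k).trans ih

theorem derived_le (S : Subgroup G) (i : ℕ) : derived S i ≤ S := derived_antitone S (Nat.zero_le i)

theorem normalizes_commutator {A B W : Subgroup G} (hA : W ≤ Subgroup.normalizer (A : Set G))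
    (hB : W ≤ Subgroup.normalizer (B : Set G)) : W ≤ Subgroup.normalizer ((⁅A, B⁆ : Subgroup G) : Set G) := by
  intro w hw
  have key : ∀ w ∈ W, (⁅A, B⁆ : Subgroup G).map (MulAut.conj w).toMonoidHom ≤ ⁅A, B⁆ := fun w hw => by
    rw [Subgroup.map_commutator]
    refine Subgroup.commutator_mono ?_ ?_
    · rintro _ ⟨a, ha, rfl⟩; exact (Subgroup.mem_normalizer_iff.mp (hA hw) a).mp ha
    · rintro _ ⟨a, ha, rfl⟩; exact (Subgroup.mem_normalizer_iff.mp (hB hw) a).mp ha
  refine Subgroup.mem_normalizer_iff.mpr fun x => ⟨fun hx => key w hw ⟨x, hx, rfl⟩, fun hx => ?_⟩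
  have h1 : w⁻¹ * (w * x * w⁻¹) * w⁻¹⁻¹ ∈ (⁅A, B⁆ : Subgroup G) := key w⁻¹ (inv_mem hw) ⟨_, hx, rfl⟩
  rwa [inv_inv, show w⁻¹ * (w * x * w⁻¹) * w = x by group] at h1

theorem derived_normal (S : Subgroup G) : ∀ i, S ≤ Subgroup.normalizer (derived S i : Set G)
  | 0 => Subgroup.le_normalizer
  | i + 1 => normalizes_commutator (derived_normal S i) (derived_normal S i)

theorem map_derived {H : Type v} [Group H] (f : G →* H) (S : Subgroup G) :
    ∀ i, derived (S.map f) i = (derived S i).map f
  | 0 => rfl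
  | i + 1 => by rw [derived_succ, derived_succ, map_derived f S i, Subgroup.map_commutator]

theorem derived_eq_map (S : Subgroup G) : ∀ i, derived S i = (derivedSeries S i).map S.subtype
  | 0 => by rw [derivedSeries_zero, ← MonoidHom.range_eq_map, Subgroup.range_subtype]; rfl
  | i + 1 => by rw [derived_succ, derived_eq_map S i, derivedSeries_succ, Subgroup.map_commutator]

/-- The list `[s (k-1), …, s 0]`. -/
def steps (s : ℕ → G) : ℕ → List G
  | 0 => []
  | k + 1 => s k :: steps s k

theorem steps_add (s : ℕ → G) (j : ℕ) : ∀ k, steps s (j + k) = steps (fun i => s (j + i)) k ++ steps s j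
  | 0 => rfl
  | k + 1 => by
    show s (j + k) :: steps s (j + k) = s (j + k) :: (steps (fun i => s (j + i)) k ++ steps s j)
    rw [steps_add s j k]

/-- The iterated commutator along a list. -/
def fold (l : List G) (v : G) : G := l.foldr (fun h w => h * w * h⁻¹ * w⁻¹) v

theorem fold_cons (g : G) (l : List G) (v : G) : fold (g :: l) v = ⁅g, fold l v⁆ := rfl

theorem map_fold {H : Type v} [Group H] (f : G →* H) (l : List G) (v : G) : f (fold l v) = fold (l.map f) (f v) := by
  induction l with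
  | nil => rfl
  | cons g l ih => rw [List.map_cons, fold_cons, fold_cons, map_commutatorElement, ih]

theorem map_steps {H : Type v} [Group H] (f : G →* H) (s : ℕ → G) : ∀ k, (steps s k).map f = steps (fun i => f (s i)) k
  | 0 => rfl
  | k + 1 => by rw [steps, List.map_cons, map_steps f s k]; rfl

theorem fold_mem_derived {S : Subgroup G} {s : ℕ → G} (hs : ∀ i, s i ∈ derived S i) {v : G} (hv : v ∈ S) :
    ∀ k, fold (steps s k) v ∈ derived S k
  | 0 => hv
  | k + 1 => by
    rw [steps, fold_cons]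
    exact Subgroup.commutator_mem_commutator (hs k) (fold_mem_derived hs hv k)

/-- A descending chain from `U` along the derived series. -/
def chain (U S : Subgroup G) (j : ℕ) : ℕ → Subgroup G
  | 0 => U ⊓ derived S j
  | l + 1 => ⁅chain U S j l, derived S (j + l)⁆

variable {U S : Subgroup G}

theorem chain_le (hUS : U ≤ S) (hUn : S ≤ Subgroup.normalizer (U : Set G)) (j : ℕ) :
    ∀ l, chain U S j l ≤ U ⊓ derived S (j + l) ∧ S ≤ Subgroup.normalizer (chain U S j l : Set G)
  | 0 => ⟨le_rfl, fun g hg => Subgroup.mem_normalizer_iff.mpr fun x => by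
      show x ∈ U ⊓ derived S j ↔ g * x * g⁻¹ ∈ U ⊓ derived S j
      rw [Subgroup.mem_inf, Subgroup.mem_inf, Subgroup.mem_normalizer_iff.mp (hUn hg) x,
        Subgroup.mem_normalizer_iff.mp (derived_normal S j hg) x]⟩
  | l + 1 => by
    obtain ⟨h1, h2⟩ := chain_le hUS hUn j l
    refine ⟨le_inf ?_ ?_, normalizes_commutator h2 (derived_normal S (j + l))⟩
    · exact (CfsgLib.Stabilizer.commutator_le_left_of_normalizes ((derived_le S _).trans h2)).trans (h1.trans inf_le_left)
    · exact Subgroup.commutator_mono (h1.trans inf_le_right) le_rfl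

theorem chain_succ_le (hUS : U ≤ S) (hUn : S ≤ Subgroup.normalizer (U : Set G)) (j l : ℕ) :
    chain U S j (l + 1) ≤ chain U S j l :=
  CfsgLib.Stabilizer.commutator_le_left_of_normalizes ((derived_le S _).trans (chain_le hUS hUn j l).2)

theorem commutator_le_chain (hUS : U ≤ S) (hUn : S ≤ Subgroup.normalizer (U : Set G)) (j : ℕ) :
    ∀ l, ⁅U, derived S (j + l)⁆ ≤ chain U S j l
  | 0 => le_inf (CfsgLib.Stabilizer.commutator_le_left_of_normalizes ((derived_le S _).trans hUn))
      (by rw [Subgroup.commutator_comm]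
          exact CfsgLib.Stabilizer.commutator_le_left_of_normalizes (hUS.trans (derived_normal S _)))
  | l + 1 => by
    have ih := commutator_le_chain hUS hUn j l
    have hn := (chain_le hUS hUn j (l + 1)).2
    have hD := derived_le S (j + l)
    show ⁅U, ⁅derived S (j + l), derived S (j + l)⁆⁆ ≤ _
    rw [Subgroup.commutator_comm]
    refine CfsgLib.Stabilizer.commutator_commutator_le_of_rotate (hD.trans hn) (hD.trans hn) (hUS.trans hn) ?_ ?_
    · rw [Subgroup.commutator_comm (derived S (j + l)) U]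
      exact Subgroup.commutator_mono ih le_rfl
    · exact Subgroup.commutator_mono ih le_rfl

theorem fold_mem_chain (hUS : U ≤ S) (hUn : S ≤ Subgroup.normalizer (U : Set G)) {s : ℕ → G}
    (hs : ∀ i, s i ∈ derived S i) {v : G} (hv : v ∈ U) (j : ℕ) :
    ∀ l, fold (steps s (j + l)) v ∈ chain U S j l
  | 0 => by
    refine Subgroup.mem_inf.mpr ⟨?_, fold_mem_derived hs (hUS hv) j⟩
    have hUfold : ∀ k, fold (steps s k) v ∈ U := fun k => by
      induction k with
      | zero => exact hv
      | succ k ih =>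
        rw [steps, fold_cons, commutatorElement_def]
        exact mul_mem ((Subgroup.mem_normalizer_iff.mp (hUn (derived_le S k (hs k))) _).mp ih) (inv_mem ih)
    exact hUfold j
  | l + 1 => by
    show ⁅s (j + l), fold (steps s (j + l)) v⁆ ∈ ⁅chain U S j l, derived S (j + l)⁆
    rw [Subgroup.commutator_comm]
    exact Subgroup.commutator_mem_commutator (hs _) (fold_mem_chain hUS hUn hs hv j l)

end series

/-- A subgroup of a nilpotent group is not its own commutator with a subgroup, unless trivial. -/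
theorem eq_bot_of_commutator_eq {G : Type u} [Group G] [Group.IsNilpotent G] {X Y : Subgroup G}
    (h : X ≤ ⁅X, Y⁆) : X = ⊥ := by
  obtain ⟨n, hn⟩ := Subgroup.nilpotent_iff_lowerCentralSeries.mp (inferInstance : Group.IsNilpotent G)
  refine le_bot_iff.mp (hn ▸ ?_)
  clear hn
  induction n with
  | zero => exact le_top
  | succ n ih => exact h.trans (Subgroup.commutator_mono ih le_top)

variable {G : Type u} [Group G] [Finite G] {K : Type v} [Field K] [IsAlgClosed K]
  {V : Type w} [AddCommGroup V] [Module K V] [FiniteDimensional K V]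

/-- The relations carried by a faithful module below the derived length `M + 1`. -/
structure DerivedRel (ρ : G →* Module.End K V) (S : Subgroup G) (M : ℕ) : Prop where
  group : IsPGroup 2 S
  quad : ∀ y ∈ derived S M, ∀ y' ∈ derived S M, (ρ y - 1) * (ρ y' - 1) = 0
  rel : ∀ y ∈ derived S M, ∀ s : ℕ → G, (∀ i, s i ∈ derived S i) →
    (ρ y - 1) * ((steps s M).map fun h => ρ h - 1).prod = 0

section rel

variable [CharP K 2] {ρ : G →* Module.End K V} (hρ : Function.Injective ρ) {S : Subgroup G} {M : ℕ}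
  (R : DerivedRel ρ S (M + 1))

include hρ R

theorem DerivedRel.sq_eq_one {y : G} (hy : y ∈ derived S (M + 1)) : y * y = 1 := by
  have h := R.quad y hy y hy
  refine hρ ?_
  rw [map_mul, map_one]
  refine LinearMap.ext fun v => ?_
  have h1 := LinearMap.congr_fun h v
  simp only [Module.End.mul_apply, LinearMap.sub_apply, Module.End.one_apply, map_sub, LinearMap.zero_apply] at h1
  rw [Module.End.mul_apply, Module.End.one_apply, ← sub_eq_zero]
  have h2 : ρ y v + ρ y v = 0 := by rw [← two_smul K, CharTwo.two_eq_zero, zero_smul]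
  calc ρ y (ρ y v) - v = ρ y (ρ y v) - ρ y v - (ρ y v - v) + (ρ y v + ρ y v) - (v + v) + v - v + 0 := by abel
    _ = 0 := by rw [h1, h2, ← two_smul K v, CharTwo.two_eq_zero, zero_smul]; abel

theorem DerivedRel.comm {y y' : G} (hy : y ∈ derived S (M + 1)) (hy' : y' ∈ derived S (M + 1)) : Commute y y' := by
  have h1 := R.sq_eq_one hρ (mul_mem hy hy')
  rw [← inv_eq_iff_mul_eq_one, mul_inv_rev, inv_eq_of_mul_eq_one_left (R.sq_eq_one hρ hy),
    inv_eq_of_mul_eq_one_left (R.sq_eq_one hρ hy')] at h1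
  exact h1.symm

omit hρ in
/-- On the space of a weight an element of the last derived term is trivial, or the lower relation holds. -/
theorem weight_dichotomy {q : ℕ} [Fact q.Prime] (hpq : 2 ≠ q) {A : Subgroup G} (hA : IsPGroup q A)
    (hSA : S ≤ Subgroup.normalizer (A : Set G)) (χ : A →* Kˣ) {y : G} (hy : y ∈ derived S (M + 1)) :
    (∀ v ∈ wspace ρ A χ ⊤, ρ y v = v) ∨ ∃ j ≤ M, derived S j ≤ fixer A χ ∧
      ∀ s : ℕ → G, (∀ i, s i ∈ derived S i) → ∀ v ∈ wspace ρ A χ ⊤,
        ((ρ y - 1) * ((steps (fun i => s (j + i)) (M + 1 - j)).map fun h => ρ h - 1).prod) v = 0 := by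
  classical
  haveI := Fact.mk Nat.prime_two
  haveI := Fintype.ofFinite A
  let π : Module.End K V := ∑ a : A, ((χ a : Kˣ)⁻¹ : Kˣ).val • ρ (a : G)
  have hπ1 : ∀ v ∈ wspace ρ A χ ⊤, π v = (Nat.card A : K) • v := fun v hv => by
    simp only [π, LinearMap.sum_apply, LinearMap.smul_apply]
    rw [Finset.sum_congr rfl fun a _ => show ((χ a : Kˣ)⁻¹ : Kˣ).val • ρ (a : G) v = v by
      rw [(mem_wspace.mp hv).2 a, smul_smul, Units.inv_mul, one_smul],
      Finset.sum_const, Finset.card_univ, ← Nat.card_eq_fintype_card, Nat.cast_smul_eq_nsmul]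
  have hπ0 : ∀ v ∈ wspace ρ A χ ⊤, ∀ g ∈ S, g ∉ fixer A χ → π (ρ g v) = 0 := fun v hv g hg hgf => by
    simp only [π, LinearMap.sum_apply, LinearMap.smul_apply]
    let c : MulAut A := (Subgroup.normalizerMonoidHom A ⟨g, hSA hg⟩).symm
    have hc : ∀ a : A, ((c a : A) : G) = g⁻¹ * a * g := fun a => by
      have h1 : g * ((c a : A) : G) * g⁻¹ = a :=
        congrArg Subtype.val ((Subgroup.normalizerMonoidHom A ⟨g, hSA hg⟩).apply_symm_apply a)
      rw [← h1]; group
    have hne : (Units.coeHom K).comp (χ.comp c.toMonoidHom * χ⁻¹) ≠ 1 := fun h => hgf ⟨hSA hg, fun a b hab => by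
      have h1 := DFunLike.congr_fun h b
      rw [MonoidHom.comp_apply, MonoidHom.mul_apply, MonoidHom.comp_apply, MonoidHom.inv_apply] at h1
      have h2 : χ (c b) * (χ b)⁻¹ = 1 := Units.ext h1
      rw [mul_inv_eq_one, show c b = a from Subtype.ext (by rw [hc, ← hab]; group)] at h2
      exact h2.symm⟩
    rw [Finset.sum_congr rfl fun a _ => show ((χ a : Kˣ)⁻¹ : Kˣ).val • ρ (a : G) (ρ g v) =
        ((Units.coeHom K).comp (χ.comp c.toMonoidHom * χ⁻¹) a) • ρ g v by
      rw [← Module.End.mul_apply, ← map_mul, show (a : G) * g = g * ((c a : A) : G) by rw [hc]; group, map_mul,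
        Module.End.mul_apply, (mem_wspace.mp hv).2 (c a), map_smul, smul_smul]
      simp [mul_comm],
      ← Finset.sum_smul, sum_hom_units_eq_zero _ hne, zero_smul]
  have hπc : ∀ g ∈ S, g ∈ fixer A χ → Commute (ρ g) π := fun g hg hgf => by
    show ρ g * π = π * ρ g
    simp only [π, Finset.mul_sum, Finset.sum_mul, mul_smul_comm, smul_mul_assoc]
    let c : A ≃ A := (Subgroup.normalizerMonoidHom A ⟨g, hSA hg⟩).toEquiv
    have hc : ∀ a : A, ((c a : A) : G) = g * a * g⁻¹ := fun a => rfl
    refine Fintype.sum_equiv c _ _ fun a => ?_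
    rw [hgf.2 a (c a) (hc a).symm, ← map_mul, ← map_mul, hc, inv_mul_cancel_right]
  -- escaping below, fixing above
  have hescape : ∀ i, ¬ derived S i ≤ fixer A χ → ∃ s ∈ derived S i, ∀ h ∈ derived S (i + 1), h * s ∉ fixer A χ := by
    intro i hi
    by_contra hcon
    push Not at hcon
    refine hi ?_
    set F : Subgroup (derived S i) := (fixer A χ).subgroupOf (derived S i) with hF
    have hFtop : F ⊔ frattini (derived S i) = ⊤ := eq_top_iff.mpr fun s _ => by
      obtain ⟨h, hh, hhs⟩ := hcon s s.2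
      have hhD : h ∈ derived S i := derived_succ_le S i hh
      have h1 : (⟨h, hhD⟩ : derived S i) ∈ frattini (derived S i) := by
        refine CfsgLib.commutator_le_frattini_pGroup (R.group.to_le (derived_le S i)) ?_
        have h2 : h ∈ (commutator (derived S i)).map (derived S i).subtype := by
          rw [commutator_def, Subgroup.map_commutator, ← MonoidHom.range_eq_map, Subgroup.range_subtype]
          exact hh
        obtain ⟨z, hz, hz'⟩ := h2
        rwa [show (⟨h, hhD⟩ : derived S i) = z from Subtype.ext hz'.symm]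
      rw [show s = (⟨h, hhD⟩ : derived S i)⁻¹ * (⟨h, hhD⟩ * s) from (inv_mul_cancel_left _ _).symm]
      exact mul_mem (Subgroup.mem_sup_right (inv_mem h1))
        (Subgroup.mem_sup_left (show ((⟨h, hhD⟩ * s : derived S i) : G) ∈ fixer A χ from hhs))
    intro s hs
    have h4 : (⟨s, hs⟩ : derived S i) ∈ F := frattini_nongenerating hFtop ▸ Subgroup.mem_top _
    exact h4
  have hsteps : ∀ (j : ℕ) (s : ℕ → G), (∀ i, s i ∈ derived S i) →
      (∀ i < j, ∀ h ∈ derived S (i + 1), h * s i ∉ fixer A χ) → ∀ v ∈ wspace ρ A χ ⊤,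
      ∀ h ∈ derived S j, π (ρ h (((steps s j).map fun h => ρ h - 1).prod v)) = (-1 : K) ^ j • π (ρ h v) := by
    intro j s hs hs' v hv
    induction j with
    | zero => intro h _; rw [pow_zero, one_smul]; rfl
    | succ i ih =>
      intro h hh
      have hhi : h ∈ derived S i := derived_succ_le S i hh
      rw [steps, List.map_cons, List.prod_cons, Module.End.mul_apply, LinearMap.sub_apply, Module.End.one_apply,
        map_sub, map_sub, ← Module.End.mul_apply (f := ρ h), ← map_mul,
        ih (fun i' hi' => hs' i' (by omega)) _ (mul_mem hhi (hs i)), ih (fun i' hi' => hs' i' (by omega)) h hhi,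
        hπ0 v hv (h * s i) (mul_mem (derived_le S _ hh) (derived_le S _ (hs i))) (hs' i (by omega) h hh),
        smul_zero, zero_sub, pow_succ, mul_neg_one, neg_smul]
  have hunit : ∀ j : ℕ, (-1 : K) ^ j * (Nat.card A : K) ≠ 0 := fun j =>
    mul_ne_zero (pow_ne_zero _ (neg_ne_zero.mpr one_ne_zero)) (cast_card_ne_zero hpq hA)
  by_cases hfix : ∃ j, j ≤ M ∧ derived S j ≤ fixer A χ
  · obtain ⟨hjM, hjfix⟩ := Nat.find_spec hfix
    set j := Nat.find hfix with hj
    refine Or.inr ⟨j, hjM, hjfix, fun s hs v hv => ?_⟩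
    have hex : ∀ i, i < j → ∃ t ∈ derived S i, ∀ h ∈ derived S (i + 1), h * t ∉ fixer A χ := fun i hi =>
      hescape i fun h => Nat.find_min hfix hi ⟨by omega, h⟩
    choose! t ht ht' using hex
    let s' : ℕ → G := fun i => if i < j then t i else s i
    have hs'D : ∀ i, s' i ∈ derived S i := fun i => by
      simp only [s']; split
      · exact ht i (by assumption)
      · exact hs i
    have hs'e : ∀ i < j, ∀ h ∈ derived S (i + 1), h * s' i ∉ fixer A χ := fun i hi h hh => by
      simp only [s', if_pos hi]; exact ht' i hi h hh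
    have h0 := LinearMap.congr_fun (R.rel y hy s' hs'D) v
    rw [show M + 1 = j + (M + 1 - j) by omega, steps_add, List.map_append, List.prod_append,
      show (fun i => s' (j + i)) = fun i => s (j + i) from funext fun i => if_neg (by omega),
      ← mul_assoc, Module.End.mul_apply, LinearMap.zero_apply] at h0
    set B := (ρ y - 1) * ((steps (fun i => s (j + i)) (M + 1 - j)).map fun h => ρ h - 1).prod with hB
    have hBc : Commute B π := by
      have hc : ∀ g ∈ derived S j, Commute (ρ g - 1) π := fun g hg =>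
        (hπc g (derived_le S _ hg) (hjfix hg)).sub_left (Commute.one_left π)
      refine (hc y (derived_antitone S (by omega) hy)).mul_left (Commute.list_prod_left _ _ fun f hf => ?_)
      obtain ⟨g, hg, rfl⟩ := List.mem_map.mp hf
      have hmem : ∀ k, ∀ g ∈ steps (fun i => s (j + i)) k, g ∈ derived S j := fun k => by
        induction k with
        | zero => simp [steps]
        | succ k ih =>
          intro g hg
          rcases List.mem_cons.mp hg with rfl | hg
          · exact derived_antitone S (by omega) (hs (j + k))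
          · exact ih g hg
      exact hc g (hmem _ g hg)
    have h1 := congrArg π h0
    rw [← Module.End.mul_apply, ← hBc.eq, Module.End.mul_apply, map_zero] at h1
    have h2 := hsteps j s' hs'D hs'e v hv 1 (one_mem _)
    rw [map_one, Module.End.one_apply, Module.End.one_apply, hπ1 v hv, smul_smul] at h2
    rw [h2, map_smul, smul_eq_zero] at h1
    exact h1.resolve_left (hunit j)
  · push Not at hfix
    refine Or.inl fun v hv => ?_
    rcases eq_or_ne v 0 with rfl | hv0
    · exact map_zero _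
    have hex : ∀ i, i ≤ M → ∃ t ∈ derived S i, ∀ h ∈ derived S (i + 1), h * t ∉ fixer A χ := fun i hi =>
      hescape i (hfix i hi)
    choose! t ht ht' using hex
    let s' : ℕ → G := fun i => if i ≤ M then t i else 1
    have hs'D : ∀ i, s' i ∈ derived S i := fun i => by
      simp only [s']; split
      · exact ht i (by assumption)
      · exact one_mem _
    have h2 := hsteps (M + 1) s' hs'D (fun i hi h hh => by
      simp only [s', if_pos (show i ≤ M by omega)]; exact ht' i (by omega) h hh) v hv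
    have h0 := LinearMap.congr_fun (R.rel y hy s' hs'D) v
    rw [Module.End.mul_apply, LinearMap.sub_apply, Module.End.one_apply, LinearMap.zero_apply] at h0
    have h1 := congrArg π h0
    rw [map_sub, map_zero, h2 y hy] at h1
    have h3 := h2 1 (one_mem _)
    rw [map_one, Module.End.one_apply, Module.End.one_apply] at h3
    rw [h3] at h1
    have hyfix : y ∈ fixer A χ := by
      by_contra hyf
      rw [hπ0 v hv y (derived_le S _ hy) hyf, smul_zero, zero_sub, neg_eq_zero, hπ1 v hv, smul_smul, smul_eq_zero] at h1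
      exact hv0 (h1.resolve_left (hunit _))
    rw [← Module.End.mul_apply, ← (hπc y (derived_le S _ hy) hyfix).eq, Module.End.mul_apply, hπ1 v hv, map_smul,
      smul_smul, smul_smul, ← smul_sub, smul_eq_zero] at h1
    exact sub_eq_zero.mp (h1.resolve_left (hunit _))

/-- The elements of the last derived term centralise the normalised abelian groups of odd prime power order. -/
theorem centralizes_abelian {q : ℕ} [Fact q.Prime] (hpq : 2 ≠ q) {A : Subgroup G} (hA : IsPGroup q A)
    (hab : ∀ a ∈ A, ∀ b ∈ A, a * b = b * a) (hSA : S ≤ Subgroup.normalizer (A : Set G)) {y : G}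
    (hy : y ∈ derived S (M + 1)) : y ∈ Subgroup.centralizer (A : Set G) := by
  refine Subgroup.mem_centralizer_iff.mpr fun a ha => ?_
  have hyA := hSA (derived_le S _ hy)
  have hya : y * a * y⁻¹ ∈ A := (Subgroup.mem_normalizer_iff.mp hyA a).mp ha
  have h1 : y * a * y⁻¹ * a⁻¹ = 1 := by
    haveI := Fact.mk Nat.prime_two
    refine exists_weight_sep (p := 2) hpq hρ hA hab (mul_mem hya (inv_mem ha)) fun χ hχ => ?_
    have key : χ ⟨_, hya⟩ = χ ⟨a, ha⟩ := by
      rcases weight_dichotomy R hpq hA hSA χ hy with htriv | ⟨j, hj, hjfix, -⟩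
      · obtain ⟨v, hv, hv0⟩ := Submodule.exists_mem_ne_zero_of_ne_bot hχ
        have hinv : ρ y⁻¹ v = v := by
          conv_lhs => rw [← htriv v hv]
          exact rho_apply_inv ρ y v
        refine Units.ext (smul_left_injective K hv0 ?_)
        show (χ ⟨_, hya⟩ : K) • v = (χ ⟨a, ha⟩ : K) • v
        rw [← (mem_wspace.mp hv).2 ⟨_, hya⟩]
        show ρ (y * a * y⁻¹) v = _
        rw [map_mul, map_mul, Module.End.mul_apply, Module.End.mul_apply, hinv, (mem_wspace.mp hv).2 ⟨a, ha⟩, map_smul,
          htriv v hv]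
      · exact (hjfix (derived_antitone S (by omega) hy)).2 ⟨a, ha⟩ ⟨_, hya⟩ rfl
    rw [show (⟨y * a * y⁻¹ * a⁻¹, _⟩ : A) = ⟨_, hya⟩ * (⟨a, ha⟩ : A)⁻¹ from rfl, map_mul, map_inv, key, mul_inv_cancel]
  rw [mul_inv_eq_one, mul_inv_eq_iff_eq_mul] at h1
  exact h1.symm

theorem mem_derivedCentralizer_of_mem [Group.IsSolvable G] {y : G} (hy : y ∈ derived S (M + 1)) : y ∈ derivedCentralizer G := by
  rw [mem_derivedCentralizer]
  intro q hq hpq T hTn hT hcen
  haveI := Fact.mk hq
  haveI := hTn
  exact centralizes_abelian hρ R hpq (hT.to_le (Subgroup.commutator_le_left T T))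
    (fun a ha b hb => (hcen a (Subgroup.commutator_le_left T T ha) b hb).eq)
    (by rw [Subgroup.normalizer_eq_top]; exact le_top) hy

section block

variable {q : ℕ} [Fact q.Prime] (hpq : 2 ≠ q) {T D : Subgroup G} (C : ClassTwo q S T D) (χ : D →* Kˣ)
  (hχ : wspace ρ D χ ⊤ ≠ ⊥)

include hpq C hχ

theorem derived_stab {y : G} (hy : y ∈ derived S (M + 1)) : y ∈ stab S χ :=
  mem_stab_of_centralizes C χ (derived_le S _ hy)
    (centralizes_abelian hρ R hpq (C.group.to_le C.le) (fun a ha b hb => (C.cen a (C.le ha) b hb).eq) C.normD hy)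

omit hρ R hpq in
theorem act_one_of_trivial {y : G} (hys : y ∈ stab S χ) (htriv : ∀ v ∈ wspace ρ D χ ⊤, ρ y v = v) :
    act C χ ⟨y, hys⟩ = 1 := by
  rw [← triv_iff C χ hys]
  obtain ⟨v, hv, hv0⟩ := Submodule.exists_mem_ne_zero_of_ne_bot hχ
  intro t ht w hw
  have hyt : y * t * y⁻¹ ∈ T := (Subgroup.mem_normalizer_iff.mp (stab_normT C χ hys) t).mp ht
  have hinv : ∀ v ∈ wspace ρ D χ ⊤, ρ y⁻¹ v = v := fun v hv => by
    conv_lhs => rw [← htriv v hv]
    exact rho_apply_inv ρ y v
  set u := y * t * y⁻¹ * t⁻¹ with hu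
  have huT : u ∈ T := mul_mem hyt (inv_mem ht)
  have hfix : ∀ v ∈ wspace ρ D χ ⊤, ρ u v = v := fun v hv => by
    rw [hu, map_mul, map_mul, map_mul, Module.End.mul_apply, Module.End.mul_apply, Module.End.mul_apply,
      hinv _ (wspace_mem_T C χ (inv_mem ht) hv), rho_inv_apply, htriv v hv]
  have h1 := wspace_pair C χ huT hw hv
  rw [hfix v hv, hfix _ (wspace_mem_T C χ hw hv)] at h1
  have h2 : ((pair χ u w : K) - 1) • ρ w v = 0 := by rw [sub_smul, one_smul, ← h1, sub_self]
  rcases smul_eq_zero.mp h2 with h3 | h3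
  · exact Units.ext (sub_eq_zero.mp h3)
  · exact absurd ((rho_apply_inv ρ w v).symm.trans (by rw [h3, map_zero])) hv0

/-- The elements of the last derived term act as a group of order at most two. -/
theorem act_eq_of_ne_one {y y' : G} (hy : y ∈ derived S (M + 1)) (hy' : y' ∈ derived S (M + 1))
    (h : act C χ ⟨y, derived_stab hρ R hpq C χ hχ hy⟩ ≠ 1) (h' : act C χ ⟨y', derived_stab hρ R hpq C χ hχ hy'⟩ ≠ 1) :
    act C χ ⟨y, derived_stab hρ R hpq C χ hχ hy⟩ = act C χ ⟨y', derived_stab hρ R hpq C χ hχ hy'⟩ := by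
  classical
  haveI := Fact.mk Nat.prime_two
  by_contra hne
  have hs := derived_stab hρ R hpq C χ hχ hy
  have hs' := derived_stab hρ R hpq C χ hχ hy'
  have hsq := R.sq_eq_one hρ hy
  have hsq' := R.sq_eq_one hρ hy'
  let U₁ : Subgroup G := adjoin ⊥ y hsq fun u hu => by rw [Subgroup.mem_bot.mp hu]; exact Commute.one_left y
  have hU₁ : ∀ u ∈ U₁, u = 1 ∨ u = y := fun u hu => by
    rcases mem_adjoin.mp hu with h1 | h1
    · exact Or.inl (Subgroup.mem_bot.mp h1)
    · right
      rw [← inv_eq_of_mul_eq_one_left hsq, ← eq_inv_iff_mul_eq_one.mpr (Subgroup.mem_bot.mp h1)]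
  have hc : ∀ u ∈ U₁, Commute u y' := fun u hu => by
    rcases hU₁ u hu with rfl | rfl
    · exact Commute.one_left y'
    · exact R.comm hρ hy hy'
  have hy'U : y' ∉ U₁ := fun h1 => by
    rcases hU₁ y' h1 with h2 | h2
    · subst h2; exact h' (map_one _)
    · exact hne (by subst h2; rfl)
  let U := adjoin U₁ y' hsq' hc
  have hU : U ≤ stab S χ := adjoin_le (adjoin_le bot_le hs) hs'
  have hyb : y ∉ (⊥ : Subgroup G) := fun h1 => h (by
    have h2 := Subgroup.mem_bot.mp h1
    subst h2; exact map_one _)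
  refine sumOp_ne_zero C χ hpq hχ _ U le_rfl hU
    (adjoin_sq (adjoin_sq fun u hu => by rw [Subgroup.mem_bot.mp hu, one_mul])) (fun u hu hu1 => ?_) fun v hv => ?_
  · rcases mem_adjoin.mp hu with h1 | h1
    · rcases hU₁ u h1 with rfl | rfl
      · rfl
      · exact absurd hu1 h
    · have hmul : ∀ z, z = u * y' → (hz : z ∈ stab S χ) → act C χ ⟨z, hz⟩ = act C χ ⟨y', hs'⟩ := fun z hze hz => by
        subst hze
        rw [show (⟨u * y', hz⟩ : stab S χ) = ⟨u, hU hu⟩ * ⟨y', hs'⟩ from rfl, map_mul, hu1, one_mul]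
      rcases hU₁ _ h1 with h2 | h2
      · exact absurd ((hmul 1 h2.symm (one_mem _)).symm.trans (map_one _)) h'
      · exact absurd (hmul y h2.symm hs) hne
  · rw [sumOp_adjoin ρ _ _ hy'U, sumOp_adjoin ρ _ _ hyb, sumOp_bot, one_mul, R.quad y hy y' hy', LinearMap.zero_apply]

/-- An element of the last derived term coming from an elementary abelian normalised subgroup acts trivially. -/
theorem act_one_of_chain {U : Subgroup G} (hUS : U ≤ S) (hUn : S ≤ Subgroup.normalizer (U : Set G))
    (hUsq : ∀ u ∈ U, u * u = 1) (hUD : U ≤ Subgroup.centralizer (D : Set G)) {u : G} (hu : u ∈ derived S (M + 1))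
    (hchain : ∀ j ≤ M + 1, u ∈ chain U S j (M + 1 - j)) :
    act C χ ⟨u, derived_stab hρ R hpq C χ hχ hu⟩ = 1 := by
  classical
  haveI := Fact.mk Nat.prime_two
  have hus := derived_stab hρ R hpq C χ hχ hu
  rcases weight_dichotomy R hpq (C.group.to_le C.le) C.normD χ hu with htriv | ⟨j, hjM, hjfix, hrel⟩
  · exact act_one_of_trivial C χ hχ hus htriv
  by_contra hne
  obtain ⟨k, hk⟩ : ∃ k, M + 1 = j + k := ⟨M + 1 - j, by omega⟩
  have hk' : M + 1 - j = k := by omega
  set X : ℕ → Subgroup G := chain U S j with hX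
  have hXU : ∀ l, X l ≤ U := fun l => (chain_le hUS hUn j l).1.trans inf_le_left
  have hst : ∀ {g : G}, g ∈ U → g ∈ stab S χ := fun hg => mem_stab_of_centralizes C χ (hUS hg) (hUD hg)
  have hDst : ∀ l, derived S (j + l) ≤ stab S χ := fun l g hg =>
    Subgroup.mem_inf.mpr ⟨derived_le S _ hg, hjfix (derived_antitone S (Nat.le_add_right j l) hg)⟩
  set φ := act C χ with hφ
  let img : Subgroup G → Subgroup (MulAut (T ⧸ (rad χ C.com C.cen).subgroupOf T)) := fun W =>
    (W.subgroupOf (stab S χ)).map φ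
  have himgnil : Group.IsNilpotent φ.range :=
    ((R.group.to_le (inf_le_left : stab S χ ≤ S)).of_surjective φ.rangeRestrict φ.rangeRestrict_surjective).isNilpotent
  have hanti : ∀ {l l' : ℕ}, l ≤ l' → X l' ≤ X l := by
    intro l l' h
    induction h with
    | refl => exact le_rfl
    | @step i _ ih => exact (chain_succ_le hUS hUn j i).trans ih
  have hstrict : ∀ l, l < k → ∃ g ∈ X l, ∀ w ∈ X (l + 1), ∀ (hg : g ∈ stab S χ) (hw : w ∈ stab S χ),
      φ ⟨g, hg⟩ ≠ φ ⟨w, hw⟩ := by
    intro l hl
    by_contra hcon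
    push Not at hcon
    let X' := ((X l).subgroupOf (stab S χ)).map φ.rangeRestrict
    let Y' := ((derived S (j + l)).subgroupOf (stab S χ)).map φ.rangeRestrict
    have hle : X' ≤ ⁅X', Y'⁆ := by
      rintro _ ⟨g, hg, rfl⟩
      obtain ⟨w, hw, hgs, hws, he⟩ := hcon g hg
      rw [show φ.rangeRestrict g = φ.rangeRestrict ⟨w, hws⟩ from Subtype.ext he]
      refine (Subgroup.map_commutator _ _ φ.rangeRestrict).le (Subgroup.mem_map_of_mem _ ?_)
      have h1 : w ∈ (⁅(X l).subgroupOf (stab S χ), (derived S (j + l)).subgroupOf (stab S χ)⁆).map (stab S χ).subtype := by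
        rw [Subgroup.map_commutator, Subgroup.map_subgroupOf_eq_of_le fun g hg => hst (hXU l hg),
          Subgroup.map_subgroupOf_eq_of_le (hDst l)]
        exact hw
      obtain ⟨z, hz, hze⟩ := h1
      rwa [show (⟨w, hws⟩ : stab S χ) = z from Subtype.ext hze.symm]
    have hbot := eq_bot_of_commutator_eq hle
    have humem : u ∈ X l := hanti (show l ≤ k by omega) (hk' ▸ hchain j (by omega))
    have h1 : φ.rangeRestrict ⟨u, hus⟩ ∈ X' := Subgroup.mem_map_of_mem _ (Subgroup.mem_subgroupOf.mpr humem)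
    rw [hbot, Subgroup.mem_bot] at h1
    exact hne (congrArg Subtype.val h1)
  choose! g hg hgne using hstrict
  let s : ℕ → G := fun i => if j ≤ i ∧ i < j + k then g (i - j) else 1
  have hsD : ∀ i, s i ∈ derived S i := fun i => by
    simp only [s]; split
    · have h1 := ((chain_le hUS hUn j (i - j)).1 (hg (i - j) (by omega))).2
      rwa [show j + (i - j) = i by omega] at h1
    · exact one_mem _
  have huU : u ∈ U := hXU k (hk' ▸ hchain j (by omega))
  have hu1 : u ≠ 1 := fun h1 => hne (by subst h1; exact map_one _)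
  -- the elementary groups above `u`
  have hbuild : ∀ d, d ≤ k → ∃ W : Subgroup G, W ≤ X (k - d) ∧
      (∀ w ∈ W, ∀ hw : w ∈ stab S χ, φ ⟨w, hw⟩ = 1 → w = 1) ∧
      sumOp ρ W = (ρ u - 1) * ((steps (fun i => s (j + (k - d + i))) d).map fun h => ρ h - 1).prod := by
    intro d
    induction d with
    | zero =>
      intro _
      refine ⟨adjoin ⊥ u (hUsq u huU) (fun w hw => by rw [Subgroup.mem_bot.mp hw]; exact Commute.one_left u),
        adjoin_le bot_le (by rw [Nat.sub_zero]; exact hk' ▸ hchain j (by omega)), fun w hw hws h1 => ?_, ?_⟩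
      · rcases mem_adjoin.mp hw with h2 | h2
        · exact Subgroup.mem_bot.mp h2
        · have h3 : w = u := by
            rw [← inv_eq_of_mul_eq_one_left (hUsq u huU), ← eq_inv_iff_mul_eq_one.mpr (Subgroup.mem_bot.mp h2)]
          subst h3
          exact absurd h1 hne
      · rw [sumOp_adjoin ρ _ _ fun h1 => hu1 (Subgroup.mem_bot.mp h1), sumOp_bot, one_mul]
        show ρ u - 1 = (ρ u - 1) * 1
        rw [mul_one]
    | succ d ih =>
      intro hd
      obtain ⟨W, hWX, hWinj, hWsum⟩ := ih (by omega)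
      set l := k - (d + 1) with hl
      have hl1 : k - d = l + 1 := by omega
      rw [hl1] at hWX
      have hgX := hg l (by omega)
      have hgU := hXU l hgX
      have hcomm : ∀ w ∈ W, Commute w (g l) := fun w hw => by
        have hwU := hXU _ (hWX hw)
        have h1 := hUsq _ (mul_mem hwU hgU)
        rw [← inv_eq_iff_mul_eq_one, mul_inv_rev, inv_eq_of_mul_eq_one_left (hUsq w hwU),
          inv_eq_of_mul_eq_one_left (hUsq _ hgU)] at h1
        exact h1.symm
      have hnew : ∀ w ∈ W, ∀ (hgs : g l ∈ stab S χ) (hws : w ∈ stab S χ), φ ⟨g l, hgs⟩ ≠ φ ⟨w, hws⟩ := fun w hw =>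
        hgne l (by omega) w (hWX hw)
      have hgW : g l ∉ W := fun h1 => hnew _ h1 (hst hgU) (hst hgU) rfl
      refine ⟨adjoin W (g l) (hUsq _ hgU) hcomm, adjoin_le (hWX.trans (chain_succ_le hUS hUn j l)) hgX,
        fun w hw hws h1 => ?_, ?_⟩
      · rcases mem_adjoin.mp hw with h2 | h2
        · exact hWinj w h2 hws h1
        · refine absurd ?_ (hnew _ h2 (hst hgU) (mul_mem hws (hst hgU)))
          rw [show (⟨w * g l, _⟩ : stab S χ) = ⟨w, hws⟩ * ⟨g l, hst hgU⟩ from rfl, map_mul, h1, one_mul]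
      · rw [sumOp_adjoin ρ _ _ hgW, hWsum, mul_assoc]
        congr 1
        rw [show d + 1 = 1 + d by omega, steps_add, List.map_append, List.prod_append,
          show (fun i => s (j + (l + (1 + i)))) = fun i => s (j + (k - d + i)) from funext fun i => by
            rw [hl1, add_assoc]]
        congr 1
        show ρ (g l) - 1 = ([s (j + (l + 0))].map fun h => ρ h - 1).prod
        rw [List.map_cons, List.map_nil, List.prod_singleton, add_zero]
        simp only [s]
        rw [if_pos (by omega), Nat.add_sub_cancel_left]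
  obtain ⟨W, hWX, hWinj, hWsum⟩ := hbuild k le_rfl
  refine sumOp_ne_zero C χ hpq hχ _ W le_rfl (fun w hw => hst (hXU _ (hWX hw)))
    (fun w hw => hUsq w (hXU _ (hWX hw))) (fun w hw h1 => hWinj w hw _ h1) fun v hv => ?_
  have h1 := hrel s hsD v hv
  rw [hk'] at h1
  rw [hWsum]
  simpa only [Nat.sub_self, zero_add] using h1

end block

section global

variable [Group.IsSolvable G] (hO : Cfsg.pCore 2 G = ⊥)

include hO

theorem eq_one_of_blocks {g : G} (hgS : g ∈ S) (hgD : g ∈ derivedCentralizer G)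
    (hgZ : ∀ (q : ℕ) (_ : Fact q.Prime) (T D : Subgroup G) (_ : ClassTwo q S T D), 2 ≠ q →
      g ∈ Subgroup.centralizer ((T ⊓ Subgroup.centralizer (T : Set G) : Subgroup G) : Set G))
    (h : ∀ (q : ℕ) (_ : Fact q.Prime) (T D : Subgroup G) (C : ClassTwo q S T D) (χ : D →* Kˣ)
      (hs : g ∈ stab S χ), 2 ≠ q → wspace ρ D χ ⊤ ≠ ⊥ →
      derivedCentralizer G ≤ Subgroup.centralizer (D : Set G) → act C χ ⟨g, hs⟩ = 1) : g = 1 := by
  obtain ⟨k, hk⟩ := R.group ⟨g, hgS⟩
  have hgk : g ^ 2 ^ k = 1 := congrArg Subtype.val hk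
  refine eq_one_of_centralizes hO (k := k) hgk fun q hq hpq T hTn hT hcen => ?_
  haveI := Fact.mk hq
  have C := classTwo_of_normal hTn hT hcen S
  have hD : derivedCentralizer G ≤ Subgroup.centralizer ((⁅T, T⁆ : Subgroup G) : Set G) := fun _ hg =>
    mem_derivedCentralizer.mp hg q hq hpq T hTn hT hcen
  refine centralizes_of_triv C hρ hpq hgk (C.normT hgS) (hgZ q ⟨hq⟩ T _ C hpq) fun χ hχ => ?_
  have hs := mem_stab_of_centralizes C χ hgS (hD hgD)
  exact (triv_iff C χ hs).mpr (h q ⟨hq⟩ T _ C χ hs hpq hχ hD)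

omit hO in
theorem mem_centralizer_center {q : ℕ} [Fact q.Prime] (hpq : 2 ≠ q) {T D : Subgroup G} (C : ClassTwo q S T D) {y : G}
    (hy : y ∈ derived S (M + 1)) :
    y ∈ Subgroup.centralizer ((T ⊓ Subgroup.centralizer (T : Set G) : Subgroup G) : Set G) :=
  centralizes_abelian hρ R hpq (C.group.to_le inf_le_left)
    (fun _ ha b hb => Subgroup.mem_centralizer_iff.mp (Subgroup.mem_inf.mp hb).2 _ (Subgroup.mem_inf.mp ha).1)
    (fun _ hg => normalizer_center C hg) hy

/-- The last derived term commutes with the elements centralising the derived groups. -/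
theorem derived_commute {y g : G} (hy : y ∈ derived S (M + 1)) (hgS : g ∈ S) (hgD : g ∈ derivedCentralizer G) :
    Commute y g := by
  rw [← commutatorElement_eq_one_iff_commute]
  have hyS := derived_le S _ hy
  refine eq_one_of_blocks hρ R hO ?_ ?_ (fun q _ T D C hpq => ?_) (fun q _ T D C χ hs hpq hχ hD => ?_)
  · rw [commutatorElement_def]; exact mul_mem (mul_mem (mul_mem hyS hgS) (inv_mem hyS)) (inv_mem hgS)
  · haveI := derivedCentralizer_normal (G := G)
    rw [commutatorElement_def]
    exact mul_mem ((inferInstance : (derivedCentralizer G).Normal).conj_mem _ hgD _) (inv_mem hgD)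
  · exact commutator_mem_centralizer (mem_centralizer_center hρ R hpq C hy) (normalizer_center C hgS)
  · have hgs := mem_stab_of_centralizes C χ hgS (hD hgD)
    have hys := derived_stab hρ R hpq C χ hχ hy
    have hy' : g * y * g⁻¹ ∈ derived S (M + 1) := (Subgroup.mem_normalizer_iff.mp (derived_normal S _ hgS) y).mp hy
    have hy's := derived_stab hρ R hpq C χ hχ hy'
    rw [show (⟨_, hs⟩ : stab S χ) = ⁅(⟨y, hys⟩ : stab S χ), ⟨g, hgs⟩⁆ from rfl, map_commutatorElement,
      commutatorElement_eq_one_iff_commute]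
    have hconj : act C χ ⟨g * y * g⁻¹, hy's⟩ = act C χ ⟨g, hgs⟩ * act C χ ⟨y, hys⟩ * (act C χ ⟨g, hgs⟩)⁻¹ := by
      rw [← map_inv, ← map_mul, ← map_mul]; rfl
    by_cases h1 : act C χ ⟨y, hys⟩ = 1
    · rw [h1]; exact Commute.one_left _
    have h2 : act C χ ⟨g * y * g⁻¹, hy's⟩ ≠ 1 := fun h2 => h1 (conj_eq_one_iff.mp (hconj ▸ h2))
    have h3 := act_eq_of_ne_one hρ R hpq C χ hχ hy hy' h1 h2
    rw [hconj, eq_mul_inv_iff_mul_eq] at h3
    exact h3

/-- A commutator with the last but one derived term from an elementary abelian subgroup is trivial. -/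
theorem commutator_eq_one {U : Subgroup G} (hUS : U ≤ S) (hUD : U ≤ derivedCentralizer G)
    (hUn : S ≤ Subgroup.normalizer (U : Set G)) (hUsq : ∀ u ∈ U, u * u = 1) {y w : G} (hy : y ∈ derived S M)
    (hwD : w ∈ derived S M) (hw : ∀ j ≤ M, w ∈ chain U S j (M - j)) (hwU : w ∈ U) : ⁅y, w⁆ = 1 := by
  have hu : ⁅y, w⁆ ∈ derived S (M + 1) := Subgroup.commutator_mem_commutator hy hwD
  have huU : ⁅y, w⁆ ∈ U := by
    rw [commutatorElement_def]
    exact mul_mem ((Subgroup.mem_normalizer_iff.mp (hUn (derived_le S _ hy)) w).mp hwU) (inv_mem hwU)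
  refine eq_one_of_blocks hρ R hO (derived_le S _ hu) (hUD huU)
    (fun q _ T D C hpq => mem_centralizer_center hρ R hpq C hu) (fun q _ T D C χ hs hpq hχ hD => ?_)
  refine act_one_of_chain hρ R hpq C χ hχ hUS hUn hUsq (hUD.trans hD) hu fun j hj => ?_
  rcases eq_or_lt_of_le hj with rfl | hj
  · rw [Nat.sub_self]
    exact Subgroup.mem_inf.mpr ⟨huU, hu⟩
  · rw [show M + 1 - j = M - j + 1 by omega]
    show ⁅y, w⁆ ∈ ⁅chain U S j (M - j), derived S (j + (M - j))⁆
    rw [Subgroup.commutator_comm, show j + (M - j) = M by omega]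
    exact Subgroup.commutator_mem_commutator hy (hw j (by omega))

end global

end rel

/-- The relations of the last derived term bound the `2`-length. -/
theorem pLengthLE_of_derivedRel : ∀ (M : ℕ) {H : Type u} [Group H] [Finite H] [Group.IsSolvable H],
    Cfsg.pCore 2 H = ⊥ → ∀ {K : Type} [Field K] [IsAlgClosed K] [CharP K 2] {V : Type u} [AddCommGroup V]
    [Module K V] [FiniteDimensional K V] (ρ : H →* Module.End K V), Function.Injective ρ →
    ∀ S : Sylow 2 H, DerivedRel ρ (S : Subgroup H) M → Cfsg.PLengthLE 2 M H := by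
  haveI := Fact.mk Nat.prime_two
  intro M
  induction M with
  | zero =>
    intro H _ _ _ _ K _ _ _ V _ _ _ ρ hρ S R
    refine pLengthLE_zero_of_expLE fun g hg => ?_
    obtain ⟨k, hk⟩ := hg
    obtain ⟨S', hS'⟩ := (IsPGroup.of_card_dvd_pow (n := k) (G := Subgroup.zpowers g) (by
      rw [Nat.card_zpowers]; exact orderOf_dvd_of_pow_eq_one hk)).exists_le_sylow
    have htriv : ∀ y ∈ (S : Subgroup H), y = 1 := fun y hy => by
      have h1 := R.rel y hy (fun _ => 1) (fun i => one_mem _)
      rw [show steps (fun _ : ℕ => (1 : H)) 0 = [] from rfl, List.map_nil, List.prod_nil, mul_one, sub_eq_zero] at h1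
      exact hρ (h1.trans (map_one ρ).symm)
    have hc : Nat.card (S' : Subgroup H) = 1 := by
      rw [S'.card_eq_multiplicity, ← S.card_eq_multiplicity,
        show (S : Subgroup H) = ⊥ from (Subgroup.eq_bot_iff_forall _).mpr htriv, Subgroup.card_bot]
    have hgS' : g ∈ (S' : Subgroup H) := hS' (Subgroup.mem_zpowers g)
    rw [Subgroup.card_eq_one.mp hc, Subgroup.mem_bot] at hgS'
    rw [hgS', one_pow]
  | succ M ih =>
    intro H _ _ _ hOp K _ _ _ V _ _ _ ρ hρ S R
    classical
    set π₁ := QuotientGroup.mk' (Cfsg.pPrimeCore 2 H) with hπ₁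
    refine PSeries.pLengthLE_of_pPrime_kernel π₁ (by rw [QuotientGroup.ker_mk']; exact CfsgLib.card_pPrimeCore_coprime 2) ?_
    set H₁ := H ⧸ Cfsg.pPrimeCore 2 H
    have hπ₁s : Function.Surjective π₁ := QuotientGroup.mk'_surjective _
    have hsol₁ : Cfsg.IsPSolvable 2 H₁ := CfsgLib.PLocal.isPSolvable_of_isSolvable (Nat.card H₁) H₁ rfl inferInstance
    have hO₁ : Cfsg.pPrimeCore 2 H₁ = ⊥ := CfsgLib.pPrimeCore_quotient_eq_bot (G := H) 2
    haveI := Blocks.pCore_normal' (G := H₁) (p := 2)
    set π₂ := QuotientGroup.mk' (Cfsg.pCore 2 H₁) with hπ₂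
    have hπ₂s : Function.Surjective π₂ := QuotientGroup.mk'_surjective _
    refine PSeries.pLengthLE_of_pGroup_kernel π₂ (by rw [QuotientGroup.ker_mk']; exact CfsgLib.isPGroup_pCore 2) ?_
    haveI : ((derivedCentralizer H).map π₁).Normal := Subgroup.Normal.map derivedCentralizer_normal π₁ hπ₁s
    let K₀ : Subgroup H₁ := Cfsg.pCore 2 H₁ ⊓ (derivedCentralizer H).map π₁
    haveI : K₀.Normal := Subgroup.normal_inf_normal _ _
    let Z₀ : Subgroup H₁ := K₀ ⊓ Subgroup.centralizer (K₀ : Set H₁)
    haveI : Z₀.Normal := inferInstance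
    have hZab : ∀ a ∈ Z₀, ∀ b ∈ Z₀, Commute a b := fun a ha b hb =>
      (Subgroup.mem_centralizer_iff.mp (Subgroup.mem_inf.mp hb).2 a (Subgroup.mem_inf.mp ha).1)
    obtain ⟨K₁, _, _, _, V₁, _, _, _, ρ₁, hker, -, hvan⟩ := exists_sharp_module hsol₁ hO₁ Z₀ Z₀
      (inf_le_left.trans inf_le_left) le_rfl (fun z hz x hx => hZab z hz x hx) (fun x hx => mul_mem hx hx)
      (fun x hx y hy => by rw [commutatorElement_eq_one_iff_commute.mpr (hZab x hx y hy)]; exact one_mem _)
    obtain ⟨ρ', hinj, hρ'⟩ := exists_quotient_action ρ₁ hker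
    refine ih (pCore_quotient_pCore H₁ 2) ρ' hinj ((S.mapSurjective hπ₁s).mapSurjective hπ₂s) ?_
    have hpe : ∀ h ∈ (S : Subgroup H), ∃ i : ℕ, h ^ 2 ^ i = 1 := fun h hh => by
      obtain ⟨i, hi⟩ := S.2 ⟨h, hh⟩
      exact ⟨i, congrArg Subtype.val hi⟩
    have hinjS : ∀ a ∈ (S : Subgroup H), π₁ a = 1 → a = 1 := fun a ha h1 => by
      obtain ⟨i, hi⟩ := hpe a ha
      exact orderOf_eq_one_iff.mp (Nat.eq_one_of_dvd_coprimes
        (Nat.Coprime.pow_left i (CfsgLib.card_pPrimeCore_coprime (G := H) 2).symm)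
        (orderOf_dvd_of_pow_eq_one hi) (Subgroup.orderOf_dvd_natCard _ ((QuotientGroup.eq_one_iff a).mp h1)))
    have hlift : ∀ v ∈ Cfsg.pCore 2 H₁, ∃ a ∈ (S : Subgroup H), π₁ a = v := fun v hv => by
      have hv' := CfsgLib.pCore_le_sylow (S.mapSurjective hπ₁s) hv
      rw [Sylow.coe_mapSurjective] at hv'
      exact hv'
    have hSD : ∀ a ∈ (S : Subgroup H), π₁ a ∈ K₀ → a ∈ derivedCentralizer H := fun a haS haK => by
      obtain ⟨c, hc, hca⟩ := Subgroup.mem_map.mp (Subgroup.mem_inf.mp haK).2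
      have hM : c⁻¹ * a ∈ Cfsg.pPrimeCore 2 H := QuotientGroup.eq.mp hca
      haveI := derivedCentralizer_normal (G := H)
      rw [← QuotientGroup.eq_one_iff]
      obtain ⟨i, hi⟩ := hpe a haS
      have h1 : ((a : H) : H ⧸ derivedCentralizer H) = ((c⁻¹ * a : H) : H ⧸ derivedCentralizer H) := by
        rw [QuotientGroup.mk_mul, QuotientGroup.mk_inv, (QuotientGroup.eq_one_iff c).mpr hc, inv_one, one_mul]
      refine orderOf_eq_one_iff.mp (Nat.eq_one_of_dvd_coprimes
        (Nat.Coprime.pow_left i (CfsgLib.card_pPrimeCore_coprime (G := H) 2).symm) ?_ ?_)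
      · exact orderOf_dvd_of_pow_eq_one (by rw [← QuotientGroup.mk_pow, hi, QuotientGroup.mk_one])
      · rw [h1]
        exact (orderOf_map_dvd (QuotientGroup.mk' _) _).trans (Subgroup.orderOf_dvd_natCard _ hM)
    -- the involutions of the centre
    set U : Subgroup H :=
      { carrier := {a | a ∈ (S : Subgroup H) ∧ π₁ a ∈ Z₀ ∧ a * a = 1}
        one_mem' := ⟨one_mem _, by rw [map_one]; exact one_mem _, one_mul 1⟩
        mul_mem' := fun {a b} ha hb => ⟨mul_mem ha.1 hb.1, by rw [map_mul]; exact mul_mem ha.2.1 hb.2.1,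
          hinjS _ (mul_mem (mul_mem ha.1 hb.1) (mul_mem ha.1 hb.1)) (by
            rw [map_mul, map_mul, (hZab _ hb.2.1 _ ha.2.1).mul_mul_mul_comm, ← map_mul, ← map_mul, ha.2.2, hb.2.2,
              map_one, mul_one])⟩
        inv_mem' := fun {a} ha => ⟨inv_mem ha.1, by rw [map_inv]; exact inv_mem ha.2.1,
          by rw [← mul_inv_rev, ha.2.2, inv_one]⟩ } with hUdef
    have hUS : U ≤ (S : Subgroup H) := fun a ha => ha.1
    have hUn : (S : Subgroup H) ≤ Subgroup.normalizer (U : Set H) := fun g hg =>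
      Subgroup.mem_normalizer_fintype fun a ha => ⟨mul_mem (mul_mem hg ha.1) (inv_mem hg), by
        rw [map_mul, map_mul, map_inv]; exact (inferInstance : Z₀.Normal).conj_mem _ ha.2.1 _, by
        rw [show g * a * g⁻¹ * (g * a * g⁻¹) = g * (a * a) * g⁻¹ by group, ha.2.2, mul_one, mul_inv_cancel]⟩
    have hUD : U ≤ derivedCentralizer H := fun a ha => hSD a ha.1 (Subgroup.mem_inf.mp ha.2.1).1
    have hUsq : ∀ a ∈ U, a * a = 1 := fun a ha => ha.2.2
    have hfoldN : ∀ (W : Subgroup H₁), W.Normal → ∀ (l : List H₁) (v : H₁), v ∈ W → fold l v ∈ W := fun W hW l v hv => by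
      induction l with
      | nil => exact hv
      | cons h l ihl =>
        rw [fold_cons, commutatorElement_def]
        exact mul_mem (hW.conj_mem _ ihl h) (inv_mem ihl)
    -- lists reaching the last derived term
    have hmain : ∀ l : List H, (∀ v ∈ (S : Subgroup H), fold l v ∈ derived (S : Subgroup H) (M + 1)) →
        (∀ v ∈ U, fold l v = 1) → ((l.map π₁).map fun h => ρ₁ h - 1).prod = 0 := fun l h1 h2 => by
      refine hvan (l.map π₁) (fun v hv => ?_) (fun v hv => hfoldN Z₀ inferInstance _ v hv) (fun v hv hv2 => ?_)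
      · obtain ⟨a, haS, rfl⟩ := hlift v hv
        show fold (l.map π₁) (π₁ a) ∈ Z₀
        refine Subgroup.mem_inf.mpr ⟨Subgroup.mem_inf.mpr ⟨hfoldN _ inferInstance _ _ hv, ?_⟩, ?_⟩
        · rw [← map_fold]
          exact Subgroup.mem_map_of_mem _ (mem_derivedCentralizer_of_mem hρ R (h1 a haS))
        · refine Subgroup.mem_centralizer_iff.mpr fun x hx => ?_
          obtain ⟨c, hcS, rfl⟩ := hlift x (Subgroup.mem_inf.mp hx).1
          rw [← map_fold]
          exact ((derived_commute hρ R hOp (h1 a haS) hcS (hSD c hcS hx)).map π₁).eq.symm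
      · obtain ⟨a, haS, rfl⟩ := hlift v (Subgroup.mem_inf.mp (Subgroup.mem_inf.mp hv).1).1
        show fold (l.map π₁) (π₁ a) = 1
        rw [← map_fold, h2 a ⟨haS, hv, hinjS _ (mul_mem haS haS) (by rw [map_mul, hv2])⟩, map_one]
    have hD2 : ∀ i, derived (((S.mapSurjective hπ₁s).mapSurjective hπ₂s : Sylow 2 _) : Subgroup (H₁ ⧸ Cfsg.pCore 2 H₁)) i =
        (derived (S : Subgroup H) i).map (π₂.comp π₁) := fun i => by
      rw [Sylow.coe_mapSurjective, Sylow.coe_mapSurjective, Subgroup.map_map, map_derived]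
    have hop : ∀ g : H, ρ' ((π₂.comp π₁) g) = ρ₁ (π₁ g) := fun g => hρ' (π₁ g)
    refine ⟨((S.mapSurjective hπ₁s).mapSurjective hπ₂s).2, fun y hy y' hy' => ?_, fun y hy s hs => ?_⟩
    · rw [hD2] at hy hy'
      obtain ⟨a, ha, rfl⟩ := hy
      obtain ⟨a', ha', rfl⟩ := hy'
      have h := hmain [a, a'] (fun v hv => ?_) (fun v hv => ?_)
      · rw [hop, hop]; simpa using h
      · refine Subgroup.commutator_mem_commutator ha ?_
        have h1 : ⁅v, a'⁆ ∈ derived (S : Subgroup H) M := by
          rw [commutatorElement_def]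
          exact mul_mem ((Subgroup.mem_normalizer_iff.mp (derived_normal _ M hv) a').mp ha') (inv_mem ha')
        show ⁅a', v⁆ ∈ _
        rw [← commutatorElement_inv]; exact inv_mem h1
      · show ⁅a, ⁅a', v⁆⁆ = 1
        have hwc : ⁅v, a'⁆ ∈ (⁅U, derived (S : Subgroup H) M⁆ : Subgroup H) := Subgroup.commutator_mem_commutator hv ha'
        refine commutator_eq_one hρ R hOp hUS hUD hUn hUsq ha ?_ (fun j hj => ?_) ?_
        · have h1 : ⁅v, a'⁆ ∈ derived (S : Subgroup H) M := by
            rw [commutatorElement_def]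
            exact mul_mem ((Subgroup.mem_normalizer_iff.mp (derived_normal _ M (hUS hv)) a').mp ha') (inv_mem ha')
          rw [← commutatorElement_inv]; exact inv_mem h1
        · rw [← commutatorElement_inv]
          refine inv_mem (commutator_le_chain hUS hUn j (M - j) ?_)
          rwa [show j + (M - j) = M by omega]
        · rw [← commutatorElement_inv]
          exact inv_mem (CfsgLib.Stabilizer.commutator_le_left_of_normalizes ((derived_le _ _).trans hUn) hwc)
    · rw [hD2] at hy
      obtain ⟨a, ha, rfl⟩ := hy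
      have hs' : ∀ i, ∃ t ∈ derived (S : Subgroup H) i, π₂.comp π₁ t = s i := fun i => by
        have h1 := hs i
        rw [hD2] at h1
        exact h1
      choose t ht hte using hs'
      have h := hmain (a :: steps t M) (fun v hv => ?_) (fun v hv => ?_)
      · rw [List.map_cons, List.map_cons, List.prod_cons, List.map_map] at h
        have hl : ((steps s M).map fun h => ρ' h - 1) = (steps t M).map ((fun h => ρ₁ h - 1) ∘ π₁) := by
          rw [show steps s M = (steps t M).map (π₂.comp π₁) by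
            rw [map_steps]; exact congrArg (fun f => steps f M) (funext fun i => (hte i).symm), List.map_map]
          exact List.map_congr_left fun g _ => by simp only [Function.comp_apply, hop]
        rw [hl, hop]
        exact h
      · exact Subgroup.commutator_mem_commutator ha (fold_mem_derived ht hv M)
      · show ⁅a, fold (steps t M) v⁆ = 1
        refine commutator_eq_one hρ R hOp hUS hUD hUn hUsq ha (fold_mem_derived ht (hUS hv) M) (fun j hj => ?_) ?_
        · have h1 := fold_mem_chain hUS hUn ht hv j (M - j)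
          rwa [show j + (M - j) = M by omega] at h1
        · exact ((chain_le hUS hUn M 0).1 (fold_mem_chain hUS hUn ht hv M 0)).1

/-- The `2`-length is at most the derived length of a Sylow `2`-subgroup. -/
theorem pLengthLE_two_derived {G : Type u} [Group G] [Finite G] [Group.IsSolvable G] {d : ℕ} (P : Sylow 2 G)
    (hd : derived (P : Subgroup G) d = ⊥) : Cfsg.PLengthLE 2 d G := by
  haveI := Fact.mk Nat.prime_two
  classical
  rcases d with _ | M
  · refine pLengthLE_zero_of_expLE fun g hg => ?_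
    obtain ⟨k, hk⟩ := hg
    obtain ⟨S', hS'⟩ := (IsPGroup.of_card_dvd_pow (n := k) (G := Subgroup.zpowers g) (by
      rw [Nat.card_zpowers]; exact orderOf_dvd_of_pow_eq_one hk)).exists_le_sylow
    have hc : Nat.card (S' : Subgroup G) = 1 := by
      rw [S'.card_eq_multiplicity, ← P.card_eq_multiplicity, show (P : Subgroup G) = ⊥ from hd, Subgroup.card_bot]
    have hgS' : g ∈ (S' : Subgroup G) := hS' (Subgroup.mem_zpowers g)
    rw [Subgroup.card_eq_one.mp hc, Subgroup.mem_bot] at hgS'
    rw [hgS', one_pow]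
  set π₀ := QuotientGroup.mk' (Cfsg.pPrimeCore 2 G)
  have hπ₀s : Function.Surjective π₀ := QuotientGroup.mk'_surjective _
  refine PSeries.pLengthLE_of_pPrime_kernel π₀ (by rw [QuotientGroup.ker_mk']; exact CfsgLib.card_pPrimeCore_coprime 2) ?_
  set G₁ := G ⧸ Cfsg.pPrimeCore 2 G
  have hsol₁ : Cfsg.IsPSolvable 2 G₁ := CfsgLib.PLocal.isPSolvable_of_isSolvable (Nat.card G₁) G₁ rfl inferInstance
  have hO₁ : Cfsg.pPrimeCore 2 G₁ = ⊥ := CfsgLib.pPrimeCore_quotient_eq_bot (G := G) 2
  set P₁ := P.mapSurjective hπ₀s with hP₁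
  have hd₁ : derived (P₁ : Subgroup G₁) (M + 1) = ⊥ := by
    rw [hP₁, Sylow.coe_mapSurjective, map_derived, hd, Subgroup.map_bot]
  haveI := Blocks.pCore_normal' (G := G₁) (p := 2)
  set π₁ := QuotientGroup.mk' (Cfsg.pCore 2 G₁) with hπ₁
  have hπ₁s : Function.Surjective π₁ := QuotientGroup.mk'_surjective _
  refine PSeries.pLengthLE_of_pGroup_kernel π₁ (by rw [QuotientGroup.ker_mk']; exact CfsgLib.isPGroup_pCore 2) ?_
  obtain ⟨K, _, _, _, V, _, _, _, ρ, hker, -, hρ⟩ := exists_module hsol₁ hO₁
  obtain ⟨ρ', hinj, hρ'⟩ := exists_quotient_action ρ hker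
  refine pLengthLE_of_derivedRel M (pCore_quotient_pCore G₁ 2) ρ' hinj (P₁.mapSurjective hπ₁s) ?_
  have hrel : ∀ l : List G₁, (∀ v ∈ (P₁ : Subgroup G₁), fold l v ∈ derived (P₁ : Subgroup G₁) (M + 1)) →
      (l.map fun h => ρ h - 1).prod = 0 := fun l h => by
    have h0 := hρ l 1 1 fun v hv => by
      rw [show (v * 1) ^ 1 * ((1 : G₁) ^ 1)⁻¹ = v by simp]
      have h1 := h v (CfsgLib.pCore_le_sylow P₁ hv)
      rw [hd₁, Subgroup.mem_bot] at h1
      show fold l v ∈ _
      rw [h1]; exact one_mem _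
    simpa using h0
  have hD : ∀ i, derived ((P₁.mapSurjective hπ₁s : Sylow 2 _) : Subgroup (G₁ ⧸ Cfsg.pCore 2 G₁)) i =
      (derived (P₁ : Subgroup G₁) i).map π₁ := fun i => by rw [Sylow.coe_mapSurjective, map_derived]
  refine ⟨(P₁.mapSurjective hπ₁s).2, fun y hy y' hy' => ?_, fun y hy s hs => ?_⟩
  · rw [hD] at hy hy'
    obtain ⟨a, ha, rfl⟩ := hy
    obtain ⟨a', ha', rfl⟩ := hy'
    have h := hrel [a, a'] fun v hv => ?_
    · rw [hπ₁, QuotientGroup.mk'_apply, QuotientGroup.mk'_apply, hρ', hρ']; simpa using h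
    · refine Subgroup.commutator_mem_commutator ha ?_
      have h1 : ⁅v, a'⁆ ∈ derived (P₁ : Subgroup G₁) M := by
        rw [commutatorElement_def]
        exact mul_mem ((Subgroup.mem_normalizer_iff.mp (derived_normal _ M hv) a').mp ha') (inv_mem ha')
      show ⁅a', v⁆ ∈ _
      rw [← commutatorElement_inv]; exact inv_mem h1
  · rw [hD] at hy
    obtain ⟨a, ha, rfl⟩ := hy
    have hs' : ∀ i, ∃ t ∈ derived (P₁ : Subgroup G₁) i, π₁ t = s i := fun i => by
      have h1 := hs i
      rw [hD] at h1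
      exact h1
    choose t ht hte using hs'
    have h := hrel (a :: steps t M) fun v hv => Subgroup.commutator_mem_commutator ha (fold_mem_derived ht hv M)
    rw [List.map_cons, List.prod_cons] at h
    have hl : ((steps s M).map fun h => ρ' h - 1) = (steps t M).map fun h => ρ h - 1 := by
      rw [show steps s M = (steps t M).map π₁ by
        rw [map_steps]; exact congrArg (fun f => steps f M) (funext fun i => (hte i).symm), List.map_map]
      exact List.map_congr_left fun g _ => by
        rw [Function.comp_apply, hπ₁, QuotientGroup.mk'_apply, hρ']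
    rw [hl, hπ₁, QuotientGroup.mk'_apply, hρ']
    exact h

end CfsgLib.HallHigmanB
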