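import Cfsg.Agent.Lib.HallHigmanB.Blocks

/-!
Quarter turns of planes: automorphisms of order four on a plane of an abelian group of odd order, trivial on
the fixed points of their squares.
-/

set_option autoImplicit false
set_option maxHeartbeats 1000000
set_option linter.unusedSectionVars false

namespace CfsgLib.HallHigmanB.Quarter

open Displacement

universe u

variable {E : Type u} [CommGroup E] [Finite E]

/-- The plane moved by an automorphism. -/
def plane (f : MulAut E) : Subgroup E := (disp f).range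

omit [Finite E] in
theorem disp_mem_plane (f : MulAut E) (e : E) : f e / e ∈ plane f := ⟨e, rfl⟩

/-- An involution with a plane of order `q ^ 2`. -/
def IsPlane (q : ℕ) (f : MulAut E) : Prop := f * f = 1 ∧ Nat.card (plane f) = q ^ 2

/-- Equal, or each fixing the plane of the other. -/
def Apart (f g : MulAut E) : Prop := f = g ∨ ((∀ e ∈ plane f, g e = e) ∧ ∀ e ∈ plane g, f e = e)

omit [Finite E] in
theorem invol {f : MulAut E} (hf : f * f = 1) (e : E) : f (f e) = e := by
  rw [← MulAut.mul_apply, hf, MulAut.one_apply]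

omit [Finite E] in
theorem apply_plane {f : MulAut E} (hf : f * f = 1) {b : E} (hb : b ∈ plane f) : f b = b⁻¹ := by
  obtain ⟨e, rfl⟩ := hb
  rw [disp_apply, map_div, invol hf, inv_div]

theorem exists_half (hodd : Odd (Nat.card E)) (e : E) : ∃ d : E, d * d = e := by
  obtain ⟨k, hk⟩ := hodd
  refine ⟨e ^ (k + 1), ?_⟩
  rw [← pow_add, show k + 1 + (k + 1) = Nat.card E + 1 by omega, pow_succ, pow_card_eq_one', one_mul]

theorem eq_one_of_eq_inv (hodd : Odd (Nat.card E)) {e : E} (he : e = e⁻¹) : e = 1 := by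
  have h2 : e ^ 2 = 1 := by rw [pow_two]; nth_rewrite 2 [he]; exact mul_inv_cancel e
  exact orderOf_eq_one_iff.mp (Nat.eq_one_of_dvd_coprimes (Nat.coprime_two_left.mpr hodd)
    (orderOf_dvd_of_pow_eq_one h2) (orderOf_dvd_natCard e))

theorem mem_plane (hodd : Odd (Nat.card E)) {f : MulAut E} {b : E} (hb : f b = b⁻¹) : b ∈ plane f := by
  obtain ⟨d, hd⟩ := exists_half hodd b
  refine ⟨d⁻¹, ?_⟩
  have h1 : f d * f d = (d * d)⁻¹ := by rw [← map_mul, hd, hb]
  have h2 : f d * d = 1 := eq_one_of_eq_inv hodd (eq_inv_of_mul_eq_one_left (by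
    rw [mul_mul_mul_comm, h1, inv_mul_cancel]))
  rw [disp_apply, map_inv, eq_inv_of_mul_eq_one_left h2, inv_inv, div_inv_eq_mul, hd]

theorem plane_inf_fixed (hodd : Odd (Nat.card E)) {f : MulAut E} (hf : f * f = 1) {b : E} (hb : b ∈ plane f)
    (h : f b = b) : b = 1 := eq_one_of_eq_inv hodd (h.symm.trans (apply_plane hf hb))

theorem exists_decomp (hodd : Odd (Nat.card E)) {f : MulAut E} (hf : f * f = 1) (e : E) :
    ∃ c b, f c = c ∧ b ∈ plane f ∧ e = c * b := by
  obtain ⟨d, hd⟩ := exists_half hodd e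
  refine ⟨d * f d, d * (f d)⁻¹, by rw [map_mul, invol hf, mul_comm], mem_plane hodd ?_, ?_⟩
  · rw [map_mul, map_inv, invol hf, mul_inv_rev, inv_inv]
  · rw [mul_mul_mul_comm, mul_inv_cancel, mul_one, hd]

theorem ext_decomp (hodd : Odd (Nat.card E)) {f g h : MulAut E} (hf : f * f = 1)
    (h1 : ∀ e, f e = e → g e = h e) (h2 : ∀ e ∈ plane f, g e = h e) : g = h := MulEquiv.ext fun e => by
  obtain ⟨c, b, hc, hb, rfl⟩ := exists_decomp hodd hf e
  rw [map_mul, map_mul, h1 c hc, h2 b hb]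

omit [Finite E] in
theorem plane_invariant {f g : MulAut E} (hfg : Commute g f) {e : E} (he : e ∈ plane f) : g e ∈ plane f := by
  obtain ⟨d, rfl⟩ := he
  refine ⟨g d, ?_⟩
  rw [disp_apply, disp_apply, map_div, ← MulAut.mul_apply, ← hfg.eq, MulAut.mul_apply]

omit [Finite E] in
theorem plane_conj (β f : MulAut E) : plane (β * f * β⁻¹) = (plane f).map β.toMonoidHom := by
  ext e
  constructor
  · rintro ⟨d, rfl⟩
    refine ⟨_, ⟨β⁻¹ d, rfl⟩, ?_⟩
    show β (f (β⁻¹ d) / β⁻¹ d) = β (f (β⁻¹ d)) / d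
    rw [map_div, MulAut.apply_inv_self]
  · rintro ⟨_, ⟨d, rfl⟩, rfl⟩
    refine ⟨β d, ?_⟩
    show β (f (β⁻¹ (β d))) / β d = β (f d / d)
    rw [MulAut.inv_apply_self, map_div]

/-- A quarter turn of a plane. -/
structure IsQuarter (q : ℕ) (σ : MulAut E) : Prop where
  isPlane : IsPlane q (σ * σ)
  fix : ∀ e, (σ * σ) e = e → σ e = e

variable {q : ℕ} [hq : Fact q.Prime]

omit [Finite E] hq in
theorem IsQuarter.comm {σ : MulAut E} (_h : IsQuarter q σ) : Commute σ (σ * σ) :=
  (Commute.refl σ).mul_right (Commute.refl σ)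

omit hq in
theorem IsQuarter.disp_mem {σ : MulAut E} (h : IsQuarter q σ) (hodd : Odd (Nat.card E)) (e : E) :
    σ e / e ∈ plane (σ * σ) := by
  obtain ⟨c, b, hc, hb, rfl⟩ := exists_decomp hodd h.isPlane.1 e
  rw [map_mul, h.fix c hc, mul_div_mul_left_eq_div]
  exact div_mem (plane_invariant h.comm hb) hb

omit [Finite E] hq in
theorem IsQuarter.conj {σ : MulAut E} (h : IsQuarter q σ) (β : MulAut E) : IsQuarter q (β * σ * β⁻¹) := by
  have hs : β * σ * β⁻¹ * (β * σ * β⁻¹) = β * (σ * σ) * β⁻¹ := by group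
  refine ⟨⟨?_, ?_⟩, fun e he => ?_⟩
  · rw [hs, show β * (σ * σ) * β⁻¹ * (β * (σ * σ) * β⁻¹) = β * (σ * σ * (σ * σ)) * β⁻¹ by group, h.isPlane.1, mul_one,
      mul_inv_cancel]
  · rw [hs, plane_conj, Subgroup.card_map_of_injective β.injective]
    exact h.isPlane.2
  · rw [hs] at he
    have h1 : (σ * σ) (β⁻¹ e) = β⁻¹ e := β.injective (by rw [MulAut.apply_inv_self]; exact he)
    show β (σ (β⁻¹ e)) = e
    rw [h.fix _ h1, MulAut.apply_inv_self]

omit [Finite E] in
theorem IsPlane.ne_bot {f : MulAut E} (h : IsPlane q f) : plane f ≠ ⊥ := fun h' => by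
  have h1 := h.2
  rw [h', Subgroup.card_bot] at h1
  have := Nat.one_lt_pow two_ne_zero hq.out.one_lt
  omega

/-- No line of a plane is invariant under its quarter turn. -/
theorem IsQuarter.eq_plane {σ : MulAut E} (h : IsQuarter q σ) (hodd : Odd (Nat.card E)) (hq4 : q % 4 = 3)
    {C : Subgroup E} (hC : C ≤ plane (σ * σ)) (hne : C ≠ ⊥) (hinv : ∀ c ∈ C, σ c ∈ C) : C = plane (σ * σ) := by
  obtain ⟨i, hi, hci⟩ := (Nat.dvd_prime_pow hq.out).mp (h.isPlane.2 ▸ Subgroup.card_dvd_of_le hC)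
  have hi0 : i ≠ 0 := fun e => hne (Subgroup.card_eq_one.mp (by rw [hci, e, pow_zero]))
  rcases (show i = 1 ∨ i = 2 by omega) with rfl | rfl
  · exfalso
    rw [pow_one] at hci
    have : IsCyclic C := isCyclic_of_prime_card hci
    obtain ⟨⟨w, hw⟩, hgen⟩ := IsCyclic.exists_generator (α := C)
    obtain ⟨k, hk⟩ := Subgroup.mem_zpowers_iff.mp (hgen ⟨σ w, hinv w hw⟩)
    have hk' : σ w = w ^ k := (congrArg Subtype.val hk).symm
    have h1 : (σ * σ) w = w ^ (k * k) := by rw [MulAut.mul_apply, hk', map_zpow, hk', zpow_mul]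
    rw [apply_plane h.isPlane.1 (hC hw)] at h1
    have hwo : orderOf w = q := by
      refine orderOf_eq_prime (orderOf_dvd_iff_pow_eq_one.mp (hci ▸ Subgroup.orderOf_dvd_natCard C hw)) fun e => hne ?_
      refine (Subgroup.eq_bot_iff_forall _).mpr fun c hc => ?_
      obtain ⟨j, hj⟩ := Subgroup.mem_zpowers_iff.mp (hgen ⟨c, hc⟩)
      rw [show c = w ^ j from (congrArg Subtype.val hj).symm, e, one_zpow]
    have h2 : w ^ (k * k + 1) = 1 := by rw [zpow_add_one, ← h1, inv_mul_cancel]
    rw [← orderOf_dvd_iff_zpow_eq_one, hwo, ← ZMod.intCast_zmod_eq_zero_iff_dvd] at h2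
    push_cast at h2
    exact (ZMod.exists_sq_eq_neg_one_iff (p := q)).mp ⟨(k : ZMod q), eq_neg_of_add_eq_zero_left h2 |>.symm⟩ hq4
  · exact Subgroup.eq_of_le_of_card_ge hC (by rw [hci, h.isPlane.2])

/-- Two quarter turns, one commuting with the square of the other, move equal or independent planes. -/
theorem IsQuarter.apart {σ : MulAut E} {g : MulAut E} (h : IsQuarter q σ) (hg : IsPlane q g)
    (hodd : Odd (Nat.card E)) (hq4 : q % 4 = 3) (hc : Commute σ g) :
    σ * σ = g ∨ ((plane (σ * σ) ⊓ plane g = ⊥) ∧ (∀ e ∈ plane (σ * σ), g e = e) ∧ ∀ e ∈ plane g, (σ * σ) e = e) := by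
  have hfg : Commute (σ * σ) g := hc.mul_left hc
  by_cases hb : plane (σ * σ) ⊓ plane g = ⊥
  · refine Or.inr ⟨hb, fun e he => div_eq_one.mp ?_, fun e he => div_eq_one.mp ?_⟩ <;>
      refine Subgroup.mem_bot.mp (hb ▸ Subgroup.mem_inf.mpr ⟨?_, ?_⟩)
    · exact div_mem (plane_invariant hfg.symm he) he
    · exact disp_mem_plane g e
    · exact disp_mem_plane _ e
    · exact div_mem (plane_invariant hfg he) he
  left
  have h1 := h.eq_plane hodd hq4 inf_le_left hb fun c hcm => Subgroup.mem_inf.mpr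
    ⟨plane_invariant h.comm (Subgroup.mem_inf.mp hcm).1, plane_invariant hc (Subgroup.mem_inf.mp hcm).2⟩
  have h2 : plane (σ * σ) = plane g :=
    Subgroup.eq_of_le_of_card_ge (inf_eq_left.mp h1) (by rw [h.isPlane.2, hg.2])
  refine ext_decomp hodd h.isPlane.1 (fun e he => ?_) fun e he => by
    rw [apply_plane h.isPlane.1 he, apply_plane hg.1 (h2 ▸ he)]
  have h3 : g e / e ∈ plane (σ * σ) := h2 ▸ disp_mem_plane g e
  rw [he]
  refine (div_eq_one.mp (plane_inf_fixed hodd h.isPlane.1 h3 ?_)).symm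
  rw [map_div, ← MulAut.mul_apply, hfg.eq, MulAut.mul_apply, he]

theorem commute_aux : ∀ (n : ℕ) {P : Type u} [Group P] [Finite P], Nat.card P ≤ n → IsPGroup 2 P →
    Odd (Nat.card E) → q % 4 = 3 → ∀ (φ : P →* MulAut E) (a a' : P), IsQuarter q (φ a) → IsQuarter q (φ a') →
    Commute (φ a') (φ a * φ a) := by
  intro n
  induction n with
  | zero => intro P _ _ hn; exact absurd hn (by have := Nat.card_pos (α := P); omega)
  | succ n ih =>
    intro P _ _ hn hP hodd hq4 φ a a' ha ha'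
    classical
    have := Fact.mk Nat.prime_two
    set S := Subgroup.closure ({a, a'} : Set P) with hS
    by_cases hStop : S = ⊤
    swap
    · have hlt : Nat.card S < Nat.card P := lt_of_le_of_ne (Subgroup.card_le_card_group S) fun h =>
        hStop (Subgroup.eq_top_of_card_eq S h)
      exact ih (P := S) (by omega) (hP.to_subgroup S) hodd hq4 (φ.comp S.subtype)
        ⟨a, Subgroup.subset_closure (Set.mem_insert _ _)⟩
        ⟨a', Subgroup.subset_closure (Set.mem_insert_of_mem _ (Set.mem_singleton _))⟩ ha ha'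
    rcases eq_or_ne (Subgroup.zpowers a) ⊤ with htop | htop
    · obtain ⟨k, hk⟩ := Subgroup.mem_zpowers_iff.mp (htop ▸ Subgroup.mem_top a' : a' ∈ Subgroup.zpowers a)
      rw [← hk, map_zpow]
      exact ((Commute.refl _).zpow_left k).mul_right ((Commute.refl _).zpow_left k)
    obtain ⟨M, hM, haM⟩ := (eq_top_or_exists_le_coatom (Subgroup.zpowers a)).resolve_left htop
    have : Group.IsNilpotent P := hP.isNilpotent
    have hMn : M.Normal := Subgroup.NormalizerCondition.normal_of_coatom M Group.normalizerCondition_of_isNilpotent hM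
    have haM' : a ∈ M := haM (Subgroup.mem_zpowers a)
    have hMlt : Nat.card M < Nat.card P := lt_of_le_of_ne (Subgroup.card_le_card_group M) fun h =>
      hM.1 (Subgroup.eq_top_of_card_eq M h)
    have hin : ∀ b c : P, b ∈ M → c ∈ M → IsQuarter q (φ b) → IsQuarter q (φ c) → Commute (φ c) (φ b * φ b) :=
      fun b c hb hc h h' =>
        ih (P := M) (by omega) (hP.to_subgroup M) hodd hq4 (φ.comp M.subtype) ⟨b, hb⟩ ⟨c, hc⟩ h h'
    set σ := φ a with hσ
    set β := φ a' with hβ
    let σ₁ := β * σ * β⁻¹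
    let σ₂ := β * σ₁ * β⁻¹
    have h1M : a' * a * a'⁻¹ ∈ M := hMn.conj_mem a haM' a'
    have h2M : a' * (a' * a * a'⁻¹) * a'⁻¹ ∈ M := hMn.conj_mem _ h1M a'
    have e1 : φ (a' * a * a'⁻¹) = σ₁ := by rw [map_mul, map_mul, map_inv]
    have e2 : φ (a' * (a' * a * a'⁻¹) * a'⁻¹) = σ₂ := by rw [map_mul, map_mul, e1, map_inv]
    have hσ₁ : IsQuarter q σ₁ := ha.conj β
    have hσ₂ : IsQuarter q σ₂ := hσ₁.conj β
    have h01 : Commute σ (σ₁ * σ₁) := e1 ▸ hin _ _ h1M haM' (e1.symm ▸ hσ₁) ha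
    have h02 : Commute σ (σ₂ * σ₂) := e2 ▸ hin _ _ h2M haM' (e2.symm ▸ hσ₂) ha
    have h12 : Commute σ₁ (σ₂ * σ₂) := by
      rw [← e1, ← e2]; exact hin _ _ h2M h1M (e2.symm ▸ hσ₂) (e1.symm ▸ hσ₁)
    have hs1 : σ₁ * σ₁ = β * (σ * σ) * β⁻¹ := by show β * σ * β⁻¹ * (β * σ * β⁻¹) = _; group
    have hs2 : σ₂ * σ₂ = β * (σ₁ * σ₁) * β⁻¹ := by show β * σ₁ * β⁻¹ * (β * σ₁ * β⁻¹) = _; group
    set B := plane (σ * σ) with hB
    set B₁ := plane (σ₁ * σ₁) with hB₁
    set B₂ := plane (σ₂ * σ₂) with hB₂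
    set B' := plane (β * β) with hB'
    have hm1 : B₁ = B.map β.toMonoidHom := by rw [hB₁, hs1, plane_conj]
    have hm2 : B₂ = B₁.map β.toMonoidHom := by rw [hB₂, hs2, plane_conj]
    by_cases heq : σ * σ = σ₁ * σ₁
    · rw [commute_iff_eq]
      rw [hs1, eq_mul_inv_iff_mul_eq] at heq
      exact heq.symm
    exfalso
    obtain ⟨hd01, hf0, hf1⟩ := (ha.apart hσ₁.isPlane hodd hq4 h01).resolve_left heq
    have hne12 : ¬ σ₁ * σ₁ = σ₂ * σ₂ := fun h => heq (by
      rw [hs1, hs2, hs1] at h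
      rw [hs1]
      exact mul_left_cancel (mul_right_cancel h))
    obtain ⟨hd12, -, -⟩ := (hσ₁.apart hσ₂.isPlane hodd hq4 h12).resolve_left hne12
    -- the plane of `a'` comes from the plane of `a`
    let δ : B →* B' := MonoidHom.mk' (fun u => ⟨β (u : E) / u, ha'.disp_mem hodd u⟩) fun u v => Subtype.ext (by
      show β ((u : E) * v) / ((u : E) * v) = β (u : E) / u * (β (v : E) / v)
      rw [map_mul, mul_div_mul_comm])
    have hδinj : Function.Injective δ := by
      refine (injective_iff_map_eq_one δ).mpr fun u hu => Subtype.ext ?_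
      have h1 : β (u : E) = u := div_eq_one.mp (congrArg Subtype.val hu)
      exact Subgroup.mem_bot.mp (hd01 ▸ Subgroup.mem_inf.mpr ⟨u.2, (show (u : E) ∈ B₁ from by
        rw [hm1]; exact ⟨(u : E), u.2, h1⟩)⟩)
    have hδsurj : Function.Surjective δ := ((Nat.bijective_iff_injective_and_card δ).mpr
      ⟨hδinj, by rw [hB, hB', ha.isPlane.2, ha'.isPlane.2]⟩).2
    have hB'le : B' ≤ B ⊔ B₁ := fun w hw => by
      obtain ⟨u, hu⟩ := hδsurj ⟨w, hw⟩
      rw [← show β (u : E) / u = w from congrArg Subtype.val hu]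
      exact div_mem (Subgroup.mem_sup_right (hm1.symm ▸ ⟨(u : E), u.2, rfl⟩)) (Subgroup.mem_sup_left u.2)
    have hββ : ∀ u : E, (β * β) u = u * (β u / u) * β (β u / u) := fun u => by
      rw [MulAut.mul_apply, mul_div_cancel, map_div, mul_div_cancel]
    have hB₂le : B₂ ≤ B ⊔ B₁ := fun w hw => by
      rw [hm2, hm1] at hw
      obtain ⟨_, ⟨u, hu, rfl⟩, rfl⟩ := hw
      show (β * β) u ∈ B ⊔ B₁
      rw [hββ]
      exact mul_mem (mul_mem (Subgroup.mem_sup_left hu) (hB'le (ha'.disp_mem hodd u)))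
        (hB'le (plane_invariant ha'.comm (ha'.disp_mem hodd u)))
    -- the second translate is the first plane
    rcases ha.apart hσ₂.isPlane hodd hq4 h02 with h20 | ⟨-, -, hfix2⟩
    swap
    · have hle : B₂ ≤ B₁ := fun c hc => by
        obtain ⟨b, hb, b₁, hb₁, rfl⟩ := Subgroup.mem_sup.mp (hB₂le hc)
        have h3 := ha.fix _ (hfix2 _ hc)
        rw [map_mul, ha.fix _ (hf1 b₁ hb₁), mul_left_inj] at h3
        have h4 : (σ * σ) b = b := by rw [MulAut.mul_apply, h3, h3]
        rw [plane_inf_fixed hodd ha.isPlane.1 hb h4, one_mul]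
        exact hb₁
      exact hσ₂.isPlane.ne_bot (hd12 ▸ (inf_eq_right.mpr hle).symm)
    -- hence `a'` moves the plane of `a` inside itself
    have hβ2 : ∀ u ∈ B, (β * β) u ∈ B := fun u hu => by
      have h1 : (β * β) u ∈ B₂ := by
        rw [hm2, hm1]; exact ⟨β u, ⟨u, hu, rfl⟩, rfl⟩
      rwa [hB₂, ← h20] at h1
    let μ : B' →* B' := MonoidHom.mk' (fun w => ⟨w * β (w : E), mul_mem w.2 (plane_invariant ha'.comm w.2)⟩)
      fun v w => Subtype.ext (by
        show (v : E) * w * β ((v : E) * w) = (v : E) * β (v : E) * ((w : E) * β (w : E))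
        rw [map_mul, mul_mul_mul_comm])
    have hμ : Function.Surjective μ := Finite.injective_iff_surjective.mp ((injective_iff_map_eq_one μ).mpr fun w hw => by
      have h1 : β (w : E) = (w : E)⁻¹ := eq_inv_of_mul_eq_one_right (congrArg Subtype.val hw)
      exact Subtype.ext (plane_inf_fixed hodd ha'.isPlane.1 w.2 (by rw [MulAut.mul_apply, h1, map_inv, h1, inv_inv])))
    have hle' : B' ≤ B := fun w hw => by
      obtain ⟨v, hv⟩ := hμ ⟨w, hw⟩
      obtain ⟨u, rfl⟩ := hδsurj v
      have h1 : β (u : E) / u * β (β (u : E) / u) = w := congrArg Subtype.val hv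
      have h2 := div_mem (hβ2 u u.2) u.2
      rw [hββ, mul_assoc, mul_div_cancel_left] at h2
      rwa [h1] at h2
    have heqB : B' = B := Subgroup.eq_of_le_of_card_ge hle' (by rw [hB, hB', ha.isPlane.2, ha'.isPlane.2])
    refine ha.isPlane.ne_bot ((Subgroup.eq_bot_iff_forall _).mpr fun u hu => Subgroup.mem_bot.mp (hd01 ▸
      Subgroup.mem_inf.mpr ⟨hu, ?_⟩))
    have hle1 : B₁ ≤ B := by
      rw [hm1]
      rintro _ ⟨v, hv, rfl⟩
      have := plane_invariant ha'.comm (show v ∈ B' from heqB.symm ▸ hv)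
      exact heqB ▸ this
    show u ∈ B₁
    rw [Subgroup.eq_of_le_of_card_ge hle1 (by rw [hB, hB₁, ha.isPlane.2, hσ₁.isPlane.2])]
    exact hu

/-- The squares of quarter turns in a `2`-group commute with the quarter turns. -/
theorem commute_quarter {P : Type u} [Group P] [Finite P] (hP : IsPGroup 2 P) (hodd : Odd (Nat.card E))
    (hq4 : q % 4 = 3) (φ : P →* MulAut E) {a a' : P} (ha : IsQuarter q (φ a)) (ha' : IsQuarter q (φ a')) :
    Commute (φ a') (φ a * φ a) := commute_aux (Nat.card P) le_rfl hP hodd hq4 φ a a' ha ha'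

/-- The planes of commuting quarter turns are equal or independent. -/
theorem apart_of_quarter {P : Type u} [Group P] [Finite P] (hP : IsPGroup 2 P) (hodd : Odd (Nat.card E))
    (hq4 : q % 4 = 3) (φ : P →* MulAut E) {a a' : P} (ha : IsQuarter q (φ a)) (ha' : IsQuarter q (φ a')) :
    Apart (φ a * φ a) (φ a' * φ a') :=
  (ha.apart ha'.isPlane hodd hq4 (commute_quarter hP hodd hq4 φ ha' ha)).imp id fun h => h.2

theorem prod_apply {g : MulAut E} (hg : g * g = 1) {u : E} (hu : u ∈ plane g) [DecidableEq (MulAut E)] :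
    ∀ l : List (MulAut E), (∀ h ∈ l, h = g ∨ ∀ e ∈ plane g, h e = e) →
      l.prod u = if Even (l.count g) then u else u⁻¹ := by
  intro l
  induction l with
  | nil => intro _; simp
  | cons h l ih =>
    intro hl
    rw [List.prod_cons, MulAut.mul_apply, ih fun k hk => hl k (List.mem_cons_of_mem h hk)]
    by_cases hhg : h = g
    · subst hhg
      rw [List.count_cons_self]
      simp only [Nat.even_add_one]
      split_ifs <;> simp [apply_plane hg hu]
    · rw [List.count_cons_of_ne hhg]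
      have h1 := (hl h (List.mem_cons_self ..)).resolve_left hhg
      split_ifs
      · exact h1 u hu
      · rw [map_inv, h1 u hu]

/-- An even product of plane involutions trivial off one of their planes is trivial. -/
theorem prod_eq_one (hodd : Odd (Nat.card E)) {f : MulAut E} (hf : IsPlane q f) (l : List (MulAut E))
    (hpl : ∀ g ∈ l, IsPlane q g) (hrel : ∀ g ∈ f :: l, ∀ h ∈ f :: l, Apart g h) (hlen : Even l.length)
    (hfix : ∀ e, f e = e → l.prod e = e) : l.prod = 1 := by
  classical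
  have key : ∀ g ∈ f :: l, ∀ h ∈ l, h = g ∨ ∀ e ∈ plane g, h e = e := fun g hg h hh =>
    (hrel g hg h (List.mem_cons_of_mem f hh)).imp Eq.symm And.left
  have hcount : ∀ g ∈ l, g ≠ f → Even (l.count g) := fun g hg hne => by
    by_contra hodd'
    obtain ⟨u, hu, hu1⟩ := (Subgroup.bot_or_exists_ne_one (plane g)).resolve_left (hpl g hg).ne_bot
    have h1 := hfix u (((hrel g (List.mem_cons_of_mem f hg) f (List.mem_cons_self ..)).resolve_left hne).1 u hu)
    rw [prod_apply (hpl g hg).1 hu l (key g (List.mem_cons_of_mem f hg)), if_neg hodd'] at h1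
    exact hu1 (eq_one_of_eq_inv hodd h1.symm)
  have hf' : Even (l.count f) := by
    have h1 := List.sum_toFinset_count_eq_length l
    rw [← h1] at hlen
    by_cases hmem : f ∈ l.toFinset
    · rw [← Finset.add_sum_erase _ _ hmem, Nat.even_add] at hlen
      refine hlen.mpr (Finset.even_sum _ fun g hg => ?_)
      obtain ⟨hne, hg⟩ := Finset.mem_erase.mp hg
      exact hcount g (List.mem_toFinset.mp hg) hne
    · rw [List.count_eq_zero_of_not_mem fun h => hmem (List.mem_toFinset.mpr h)]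
      exact Even.zero
  refine ext_decomp hodd hf.1 (fun e he => by rw [hfix e he, MulAut.one_apply]) fun e he => ?_
  rw [prod_apply hf.1 he l (key f (List.mem_cons_self ..)), if_pos hf', MulAut.one_apply]

end CfsgLib.HallHigmanB.Quarter
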