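import Cfsg.Agent.Lib.HallHigmanB.Core
import Cfsg.Agent.Lib.HallHigmanB.Exceptional
import Cfsg.Agent.Lib.HallHigmanB.TwoQuarter

/-!
Exceptional elements of `2`-power order act as quarter turns of a plane on the quotient by a radical.
-/

set_option autoImplicit false
set_option maxHeartbeats 1000000
set_option linter.unusedSectionVars false

namespace CfsgLib.HallHigmanB

open Module
open scoped commutatorElement

universe u v w

variable {G : Type u} [Group G] [Finite G] {K : Type v} [Field K] [IsAlgClosed K]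
  {V : Type w} [AddCommGroup V] [Module K V] [FiniteDimensional K V]

/-- An exceptional element commutes, on a vector, with the maps centralising the block. -/
theorem core_rigid {p q : ℕ} [Fact p.Prime] [Fact q.Prime] [CharP K p] (hpq : p ≠ q) (ρ : G →* Module.End K V)
    (Q : Subgroup G) (hQ : IsPGroup q Q) {x : G} (hxQ : x ∈ Subgroup.normalizer (Q : Set G)) {e : ℕ}
    (hxo : orderOf x = p ^ e) (R : Subgroup G) (hRQ : R ≤ Q) (c : R →* Kˣ) (hxc : x ∈ fixer R c)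
    (W : Submodule K V) (hW0 : W ≠ ⊥) (hWQ : ∀ u ∈ Q, ∀ v ∈ W, ρ u v ∈ W) (hWx : ∀ v ∈ W, ρ x v ∈ W)
    (hWR : ∀ r : R, ∀ v ∈ W, ρ (r : G) v = (c r : K) • v) (hcom : ∀ u ∈ Q, ∀ w ∈ Q, ⁅u, w⁆ ∈ R)
    (hrad : ∀ u ∈ Q, (∀ w ∈ Q, ∀ h : ⁅u, w⁆ ∈ R, c ⟨_, h⟩ = 1) → u ∈ R)
    (hfree : ∀ i, x ^ i ≠ 1 → ∀ u ∈ Q, ⁅x ^ i, u⁆ ∈ R → u ∈ R) (hRne : ¬ Q ≤ R) (r : ℕ)
    (hr : ∀ v ∈ W, ((ρ x - 1) ^ r) v = 0) (hrp : r < p ^ e) :
    (∃ b, 1 ≤ b ∧ q ^ b + 1 = p ^ e ∧ R.relIndex Q = (q ^ b) ^ 2) ∧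
    ∃ v ∈ W, v ≠ 0 ∧ ∀ u : G, (∀ v ∈ W, ρ u v ∈ W) → (∀ w ∈ Q, ∀ v ∈ W, ρ u (ρ w v) = ρ w (ρ u v)) →
      ρ x (ρ u v) = ρ u (ρ x v) := by
  classical
  have hp := (Fact.out : p.Prime)
  haveI := Fintype.ofFinite Q
  obtain ⟨S, hSW, hSi, hS0, hSmin⟩ := Blocks.SemisimplePieces.exists_minimal (ρ.comp Q.subtype) (U := W)
    (fun g v hv => hWQ g g.2 v hv) hW0
  haveI : Nontrivial S := Submodule.nontrivial_iff_ne_bot.mpr hS0
  let ρ₀ : Q →* Module.End K S :=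
    { toFun := fun u => (ρ (u : G)).restrict (fun v hv => hSi u v hv)
      map_one' := LinearMap.ext fun v => Subtype.ext (by simp)
      map_mul' := fun u w => LinearMap.ext fun v => Subtype.ext (by
        show ρ ((u : G) * w) (v : V) = ρ (u : G) (ρ (w : G) v)
        rw [map_mul]; rfl) }
  have hρ₀ : ∀ (u : Q) (v : S), (ρ₀ u v : V) = ρ (u : G) (v : V) := fun u v => rfl
  have hirr : ∀ T : Submodule K S, (∀ g, ∀ v ∈ T, ρ₀ g v ∈ T) → T = ⊥ ∨ T = ⊤ := by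
    intro T hT
    rcases hSmin (T.map S.subtype) (Submodule.map_subtype_le S T) (fun g v hv => by
      obtain ⟨v, hv, rfl⟩ := hv
      exact ⟨ρ₀ g v, hT g v hv, rfl⟩) with h | h
    · exact Or.inl (Submodule.map_injective_of_injective S.injective_subtype (h.trans (Submodule.map_bot _).symm))
    · exact Or.inr (Submodule.map_injective_of_injective S.injective_subtype (h.trans S.map_subtype_top.symm))
  have hWR' : ∀ (u : Q) (h : (u : G) ∈ R), ρ₀ u = (c ⟨_, h⟩ : K) • 1 := fun u h =>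
    LinearMap.ext fun v => Subtype.ext (by
      rw [hρ₀, hWR ⟨_, h⟩ v (hSW v.2)]; rfl)
  have hscR : ∀ u : Q, (∃ a : K, ρ₀ u = a • 1) → (u : G) ∈ R := by
    rintro u ⟨a, ha⟩
    refine hrad u u.2 fun w hw h => ?_
    have h1 : ρ₀ ⁅u, ⟨w, hw⟩⁆ = (c ⟨_, h⟩ : K) • 1 := hWR' _ h
    have h2 : ρ₀ ⁅u, ⟨w, hw⟩⁆ = 1 := by
      rw [commutatorElement_def, map_mul, map_mul, map_mul]
      have h3 : ρ₀ u * ρ₀ ⟨w, hw⟩ = ρ₀ ⟨w, hw⟩ * ρ₀ u := by
        rw [ha, smul_mul_assoc, one_mul, mul_smul_comm, mul_one]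
      rw [h3, mul_assoc (ρ₀ ⟨w, hw⟩), ← map_mul ρ₀ u, mul_inv_cancel, map_one, mul_one, ← map_mul, mul_inv_cancel, map_one]
    obtain ⟨v, hv⟩ := exists_ne (0 : S)
    refine Units.ext (smul_left_injective K hv ?_)
    show (c ⟨_, h⟩ : K) • v = (1 : K) • v
    rw [one_smul]
    exact (LinearMap.congr_fun (h1.symm.trans h2) v)
  have hcomm : ∀ u w : Q, ∃ l : K, ρ₀ (u * w) = l • ρ₀ (w * u) := fun u w => by
    refine ⟨(c ⟨_, hcom u u.2 w w.2⟩ : K), ?_⟩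
    rw [show u * w = ⁅u, w⁆ * (w * u) by rw [commutatorElement_def]; group, map_mul, hWR' ⁅u, w⁆ (hcom u u.2 w w.2),
      smul_mul_assoc, one_mul]
    rfl
  let α : MulAut Q := Subgroup.normalizerMonoidHom Q ⟨x, hxQ⟩
  have hα : ∀ (i : ℕ) (u : Q), ((α ^ i) u : G) = x ^ i * u * (x ^ i)⁻¹ := fun i u => by
    induction i with
    | zero => simp
    | succ i ih =>
      rw [pow_succ', MulAut.mul_apply]
      show x * ((α ^ i) u : G) * x⁻¹ = _
      rw [ih, pow_succ']; group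
  have hpow : α ^ p ^ e = 1 := MulEquiv.ext fun u => Subtype.ext (by
    rw [hα, ← hxo, pow_orderOf_eq_one]; simp)
  have hscal : ∀ u, ∀ a : K, ρ₀ u = a • 1 → ρ₀ (α u) = a • 1 := fun u a ha => by
    have hu := hscR u ⟨a, ha⟩
    have hu' : ((α u : Q) : G) ∈ R := (Subgroup.mem_normalizer_iff.mp hxc.1 _).mp hu
    rw [hWR' _ hu', hxc.2 ⟨_, hu⟩ ⟨_, hu'⟩ rfl, ← hWR' u hu, ha]
  obtain ⟨T, hTP, hTc, hT⟩ := irreducible_bound hpq hQ ρ₀ hirr hcomm α hpow hscal (fun i hi0 hi u hu => by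
      have hi1 : x ^ i ≠ 1 := fun h1 => absurd (Nat.le_of_dvd hi0 (hxo ▸ orderOf_dvd_of_pow_eq_one h1)) (not_le.mpr hi)
      have h1 := hscR _ hu
      rw [Subgroup.coe_mul, hα, Subgroup.coe_inv, ← commutatorElement_def] at h1
      exact ⟨_, hWR' u (hfree i hi1 u u.2 h1)⟩) (by
      obtain ⟨u, hu, huR⟩ := SetLike.not_le_iff_exists.mp hRne
      exact ⟨⟨u, hu⟩, fun h => huR (hscR _ h)⟩)
  -- an equivariant map intertwining `T` with `x`
  let P : Submodule K (S →ₗ[K] V) :=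
    { carrier := {φ | (∀ s, φ s ∈ W) ∧ ∀ (u : Q) (s : S), φ (ρ₀ u s) = ρ (u : G) (φ s)}
      add_mem' := fun {φ ψ} hφ hψ => ⟨fun s => add_mem (hφ.1 s) (hψ.1 s), fun u s => by
        rw [LinearMap.add_apply, LinearMap.add_apply, hφ.2, hψ.2, map_add]⟩
      zero_mem' := ⟨fun s => zero_mem W, fun u s => by simp⟩
      smul_mem' := fun a φ hφ => ⟨fun s => W.smul_mem a (hφ.1 s), fun u s => by
        rw [LinearMap.smul_apply, LinearMap.smul_apply, hφ.2, map_smul]⟩ }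
  let g : Module.End K (S →ₗ[K] V) := (LinearMap.llcomp K S V V (ρ x)).comp (LinearMap.lcomp K V (T ^ (p ^ e - 1)))
  have hg : ∀ φ s, g φ s = ρ x (φ ((T ^ (p ^ e - 1)) s)) := fun φ s => rfl
  have hgi : ∀ (i : ℕ) φ s, (g ^ i) φ s = ρ (x ^ i) (φ (((T ^ (p ^ e - 1)) ^ i) s)) := by
    intro i
    induction i with
    | zero => intro φ s; simp
    | succ i ih =>
      intro φ s
      rw [pow_succ' g, Module.End.mul_apply, hg, ih, ← Module.End.mul_apply (f := (T ^ (p ^ e - 1)) ^ i), ← pow_succ,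
        ← Module.End.mul_apply (f := ρ x), ← map_mul, ← pow_succ']
  have hgP : g ^ p ^ e = 1 := LinearMap.ext fun φ => LinearMap.ext fun s => by
    rw [hgi, ← pow_mul, mul_comm, pow_mul, hTP, one_pow, ← hxo, pow_orderOf_eq_one, map_one]; rfl
  have hTi : ∀ (i : ℕ) u, T ^ i * ρ₀ u = ρ₀ ((α ^ i) u) * T ^ i := by
    intro i
    induction i with
    | zero => intro u; simp
    | succ i ih =>
      intro u
      rw [pow_succ', mul_assoc, ih, ← mul_assoc, hTc, pow_succ' α, MulAut.mul_apply, mul_assoc]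
  have hP : ∀ φ ∈ P, g φ ∈ P := fun φ hφ => ⟨fun s => hWx _ (hφ.1 _), fun u s => by
    rw [hg, hg, ← Module.End.mul_apply (f := T ^ (p ^ e - 1)), hTi, Module.End.mul_apply, hφ.2,
      ← Module.End.mul_apply (f := ρ x), ← map_mul, ← Module.End.mul_apply (f := ρ (u : G)), ← map_mul]
    congr 2
    rw [hα, ← mul_assoc, ← mul_assoc, ← pow_succ', Nat.sub_add_cancel (pow_pos hp.pos e), ← hxo, pow_orderOf_eq_one,
      one_mul]
    congr 1
    refine inv_eq_of_mul_eq_one_right ?_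
    rw [← pow_succ, Nat.sub_add_cancel (orderOf_pos x), pow_orderOf_eq_one]⟩
  have hι : S.subtype ∈ P := ⟨fun s => hSW s.2, fun u s => rfl⟩
  obtain ⟨s₀, hs₀⟩ := exists_ne (0 : S)
  have hι0 : S.subtype ≠ 0 := fun h => hs₀ (Subtype.ext (LinearMap.congr_fun h s₀))
  have hinj : ∀ φ ∈ P, φ ≠ 0 → Function.Injective φ := fun φ hφP hφ0 => by
    rw [← LinearMap.ker_eq_bot]
    rcases hirr (LinearMap.ker φ) (fun u v hv => by
      rw [LinearMap.mem_ker] at hv ⊢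
      rw [hφP.2, hv, map_zero]) with h | h
    · exact h
    · exact absurd (LinearMap.ker_eq_top.mp h) hφ0
  have hT1 : T ^ (p ^ e - 1) * T = 1 := by rw [← pow_succ, Nat.sub_add_cancel (pow_pos hp.pos e), hTP]
  have happ : ∀ φ s, g φ (T s) = ρ x (φ s) := fun φ s => by
    rw [hg, ← Module.End.mul_apply, hT1, Module.End.one_apply]
  have hpowφ : ∀ φ, g φ = φ → ∀ (k : ℕ) s, φ (((T - 1) ^ k) s) = ((ρ x - 1) ^ k) (φ s) := by
    intro φ hφ k
    induction k with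
    | zero => intro s; simp
    | succ k ih =>
      intro s
      rw [pow_succ', pow_succ', Module.End.mul_apply, Module.End.mul_apply, LinearMap.sub_apply,
        LinearMap.sub_apply, map_sub, Module.End.one_apply, Module.End.one_apply, ← ih, ← happ φ, hφ]
  obtain ⟨φ, hφP, hφ0, hφg⟩ := exists_fixed_of_pow g hgP P hP (fun hbot => hι0 (by
    rwa [hbot, Submodule.mem_bot] at hι))
  have hTr : (T - 1) ^ r = 0 := LinearMap.ext fun s => hinj φ hφP hφ0 (by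
    rw [hpowφ φ hφg, hr _ (hφP.1 s), LinearMap.zero_apply, map_zero])
  obtain ⟨b, hb1, hb2, hb3, hb4⟩ := (hT r hTr).resolve_left (not_le.mpr hrp)
  have hall : ∀ φ ∈ P, g φ = φ := by
    by_contra hcon
    push Not at hcon
    obtain ⟨φ', hφ', hne'⟩ := hcon
    haveI : Nontrivial (S →ₗ[K] V) := ⟨⟨S.subtype, 0, hι0⟩⟩
    haveI : CharP (Module.End K (S →ₗ[K] V)) p :=
      charP_of_injective_algebraMap (algebraMap K (Module.End K (S →ₗ[K] V))).injective p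
    have hex : ∃ j : ℕ, ((g - 1) ^ j) φ' = 0 := ⟨p ^ e, by
      rw [sub_pow_char_pow_of_commute _ _ (Commute.one_right g), one_pow, hgP, sub_self, LinearMap.zero_apply]⟩
    have hj0 := Nat.find_spec hex
    have hj2 : 2 ≤ Nat.find hex := by
      by_contra hlt
      rcases (show Nat.find hex = 0 ∨ Nat.find hex = 1 by omega) with h | h <;> rw [h] at hj0
      · rw [pow_zero, Module.End.one_apply] at hj0
        exact hne' (by rw [hj0, map_zero])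
      · rw [pow_one, LinearMap.sub_apply, Module.End.one_apply, sub_eq_zero] at hj0
        exact hne' hj0
    obtain ⟨j, hj⟩ : ∃ j, Nat.find hex = j + 2 := ⟨_, (Nat.sub_add_cancel hj2).symm⟩
    have hPg : ∀ ψ ∈ P, (g - 1) ψ ∈ P := fun ψ hψ => sub_one_apply_mem g hP hψ
    let φ₁ := ((g - 1) ^ j) φ'
    let φ₀ := ((g - 1) ^ (j + 1)) φ'
    have h₁P : φ₁ ∈ P := pow_apply_mem _ hPg _ hφ'
    have h₀P : φ₀ ∈ P := pow_apply_mem _ hPg _ hφ'
    have h₀0 : φ₀ ≠ 0 := Nat.find_min hex (show j + 1 < Nat.find hex by omega)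
    have h₁ : g φ₁ = φ₁ + φ₀ := by
      show g φ₁ = φ₁ + ((g - 1) ^ (j + 1)) φ'
      rw [pow_succ', Module.End.mul_apply]
      show g φ₁ = φ₁ + (g φ₁ - φ₁)
      abel
    have h₀ : g φ₀ = φ₀ := by
      rw [hj, pow_succ' (g - 1) (j + 1), Module.End.mul_apply, LinearMap.sub_apply, Module.End.one_apply, sub_eq_zero] at hj0
      exact hj0
    have hx₁ : ∀ t, ρ x (φ₁ t) = φ₁ (T t) + φ₀ (T t) := fun t => by rw [← happ, h₁, LinearMap.add_apply]
    have hx₀ : ∀ t, ρ x (φ₀ t) = φ₀ (T t) := fun t => by rw [← happ, h₀]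
    have hN : ∀ t, (T - 1) (T t) = T ((T - 1) t) := fun t => by
      simp [LinearMap.sub_apply, map_sub]
    have hexp : ∀ (k : ℕ) s, ((ρ x - 1) ^ (k + 1)) (φ₁ s) =
        φ₁ (((T - 1) ^ (k + 1)) s) + ((k + 1 : ℕ) : K) • φ₀ (T (((T - 1) ^ k) s)) := by
      intro k
      induction k with
      | zero =>
        intro s
        simp only [zero_add, pow_one, pow_zero, Nat.cast_one, one_smul, LinearMap.sub_apply, Module.End.one_apply, hx₁,
          map_sub]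
        abel
      | succ k ih =>
        intro s
        have h5 : φ₀ (T (((T - 1) ^ (k + 1)) s)) = φ₀ (T (T (((T - 1) ^ k) s))) - φ₀ (T (((T - 1) ^ k) s)) := by
          rw [pow_succ' (T - 1), Module.End.mul_apply, LinearMap.sub_apply, Module.End.one_apply, map_sub, map_sub]
        rw [pow_succ' (ρ x - 1), Module.End.mul_apply, ih, pow_succ' (T - 1) (k + 1), Module.End.mul_apply]
        generalize ((T - 1) ^ (k + 1)) s = t₁ at h5 ⊢
        rw [Nat.cast_succ (k + 1), add_smul, one_smul]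
        simp only [LinearMap.sub_apply, Module.End.one_apply, map_add, map_smul, map_sub, hx₁, hx₀, smul_sub, h5]
        abel
    have hrq : r = q ^ b := by omega
    have hb0 : 0 < q ^ b := pow_pos (Fact.out : q.Prime).pos b
    have hrK : ((r - 1 + 1 : ℕ) : K) ≠ 0 := by
      rw [show r - 1 + 1 = q ^ b by omega, Ne, CharP.cast_eq_zero_iff K p]
      exact fun hd => hpq ((Nat.prime_dvd_prime_iff_eq hp (Fact.out : q.Prime)).mp (hp.dvd_of_dvd_pow hd))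
    have hlow : (T - 1) ^ (r - 1) = 0 := LinearMap.ext fun s => by
      have h3 := hexp (r - 1) s
      rw [show r - 1 + 1 = r by omega] at h3 hrK
      rw [hTr, hr _ (h₁P.1 s), LinearMap.zero_apply, map_zero, zero_add] at h3
      have h4 := hinj φ₀ h₀P h₀0 (((smul_eq_zero.mp h3.symm).resolve_left hrK).trans (map_zero φ₀).symm)
      have h5 : ((T ^ (p ^ e - 1) * T) (((T - 1) ^ (r - 1)) s)) = 0 := by rw [Module.End.mul_apply, h4, map_zero]
      rw [hT1, Module.End.one_apply] at h5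
      rw [h5, LinearMap.zero_apply]
    rcases hT (r - 1) hlow with h | ⟨b', -, hb2', hb3', -⟩ <;> omega
  refine ⟨⟨b, hb1, hb2, hb4 (R.subgroupOf Q) fun u => ⟨fun h => ⟨_, hWR' u h⟩, hscR u⟩⟩,
    s₀, hSW s₀.2, fun h => hs₀ (Subtype.ext h), fun u hu huc => ?_⟩
  have hψ : (ρ u).comp S.subtype ∈ P := ⟨fun s => hu _ (hSW s.2), fun w s => by
    show ρ u (ρ (w : G) (s : V)) = ρ (w : G) (ρ u (s : V))
    exact huc w w.2 _ (hSW s.2)⟩
  have h1 : ρ u (T s₀ : V) = ρ x (ρ u (s₀ : V)) := by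
    have := happ ((ρ u).comp S.subtype) s₀
    rwa [hall _ hψ] at this
  have h2 : ((T s₀ : S) : V) = ρ x (s₀ : V) := by
    have := happ S.subtype s₀
    rwa [hall _ hι] at this
  rw [← h1, h2]

theorem eq_one_of_pow_succ {q b m : ℕ} (hq : 1 < q) (hodd : Odd q) (hb : 1 ≤ b) (h : q ^ b + 1 = 2 ^ m) : b = 1 := by
  rcases Nat.even_or_odd b with ⟨c, hc⟩ | hbo
  · exfalso
    obtain ⟨t, ht⟩ := hodd.pow (n := c)
    have h1 : (2 * t + 1) * (2 * t + 1) + 1 = 2 ^ m := by rw [← ht, ← pow_add, ← hc, h]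
    rcases m with _ | _ | m
    · simp at h1
    · have h2 : q ≤ q ^ b := Nat.le_self_pow (by omega) q
      rw [pow_one] at h
      omega
    · rw [pow_succ, pow_succ] at h1
      have h2 : (2 * t + 1) * (2 * t + 1) + 1 = 4 * (t * t + t) + 2 := by ring
      omega
  · have hS : (∑ j ∈ Finset.range b, (-(q : ℤ)) ^ j) * ((q : ℤ) + 1) = (2 : ℤ) ^ m := by
      have h1 := geom_sum_mul (-(q : ℤ)) b
      rw [hbo.neg_pow] at h1
      have h2 : ((q : ℤ) ^ b + 1) = (2 : ℤ) ^ m := by exact_mod_cast h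
      linear_combination -h1 + h2
    set S := ∑ j ∈ Finset.range b, (-(q : ℤ)) ^ j with hSdef
    have hSodd : Odd S := by
      have h1 : ((S : ℤ) : ZMod 2) = 1 := by
        have hq2 : (q : ZMod 2) = 1 := ZMod.natCast_eq_one_iff_odd.mpr hodd
        have hb2 : (b : ZMod 2) = 1 := ZMod.natCast_eq_one_iff_odd.mpr hbo
        have hneg : (-1 : ZMod 2) = 1 := by decide
        rw [hSdef]
        push_cast
        simp [hq2, hneg, hb2]
      exact Int.odd_iff.mpr (by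
        have := (ZMod.intCast_eq_intCast_iff' S 1 2).mp (by push_cast; exact h1)
        simpa using this)
    have h3 : S.natAbs = 1 := by
      have hd : S.natAbs ∣ 2 ^ m := by
        have h4 := congrArg Int.natAbs hS
        rw [Int.natAbs_mul, Int.natAbs_pow] at h4
        exact ⟨_, h4.symm⟩
      obtain ⟨i, -, hi⟩ := (Nat.dvd_prime_pow Nat.prime_two).mp hd
      rcases i with _ | i
      · exact hi
      · exfalso
        have h5 := Int.natAbs_odd.mpr hSodd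
        rw [hi, Nat.odd_iff, pow_succ] at h5
        omega
    have h4 := congrArg Int.natAbs hS
    rw [Int.natAbs_mul, h3, one_mul, Int.natAbs_pow] at h4
    have h5 : ((q : ℤ) + 1).natAbs = q + 1 := by omega
    rw [h5, show (2 : ℤ).natAbs = 2 from rfl, ← h] at h4
    by_contra hne
    have h6 : q ^ 1 < q ^ b := Nat.pow_lt_pow_right hq (by omega)
    rw [pow_one] at h6
    omega

/-- An element acts trivially on the quotient by the radical of a weight. -/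
def Triv {T D : Subgroup G} (χ : D →* Kˣ) (g : G) : Prop := ∀ t ∈ T, ∀ w ∈ T, pair χ (g * t * g⁻¹ * t⁻¹) w = 1

open Displacement in
/-- An exceptional element of `2`-power order acts trivially or as a quarter turn. -/
theorem Exc.good_two {q : ℕ} [Fact q.Prime] [CharP K 2] (hpq : 2 ≠ q)
    {ρ : G →* Module.End K V} {x : G} {n : ℕ} (hx : Exc 2 ρ x n) {T D : Subgroup G} (hT : IsPGroup q T)
    (hDT : D ≤ T) (hcom : ∀ u ∈ T, ∀ w ∈ T, ⁅u, w⁆ ∈ D) (hcen : ∀ u ∈ T, ∀ d ∈ D, Commute u d)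
    (hxT : x ∈ Subgroup.normalizer (T : Set G)) (hxD : x ∈ Subgroup.normalizer (D : Set G))
    (hyD : x ^ 2 ^ (n - 1) ∈ Subgroup.centralizer (D : Set G)) (χ : D →* Kˣ) (hχ : wspace ρ D χ ⊤ ≠ ⊥) :
    Triv (T := T) χ (x ^ 2 ^ (n - 1)) ∨ (q % 4 = 3 ∧ 2 ≤ n ∧ x ^ 2 ^ (n - 2) ∈ fixer D χ ∧
      ∀ (P : Subgroup G) (hPT : P ≤ Subgroup.normalizer (T : Set G))
        (hPR : P ≤ Subgroup.normalizer (rad χ hcom hcen : Set G)) (haP : x ^ 2 ^ (n - 2) ∈ P),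
        Quarter.IsQuarter q (qact P hPT hPR ⟨_, haP⟩)) := by
  classical
  obtain ⟨hn, hxo, r, hrlt, hr⟩ := hx
  have hp := Nat.prime_two
  set y := x ^ 2 ^ (n - 1) with hy
  have hxy : Commute x y := Commute.self_pow x _
  have hyT : y ∈ Subgroup.normalizer (T : Set G) := pow_mem hxT _
  have hyfix : y ∈ fixer D χ := ⟨pow_mem hxD _, fun a b hab => by
    rw [← (Subgroup.mem_centralizer_iff.mp hyD a a.2), mul_inv_cancel_right] at hab
    rw [Subtype.ext hab]⟩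
  set R := rad χ hcom hcen with hR
  have hyR : y ∈ Subgroup.normalizer (R : Set G) := mem_normalizer_rad hcom hcen hyT hyfix
  set P₀ := Subgroup.zpowers y with hP₀
  let f : MulAut (T ⧸ R.subgroupOf T) :=
    qact P₀ (Subgroup.zpowers_le.mpr hyT) (Subgroup.zpowers_le.mpr hyR) ⟨y, Subgroup.mem_zpowers y⟩
  set L := (disp f).range with hL
  by_cases hL0 : L = ⊥
  · refine Or.inl fun t ht w hw => ?_
    have h1 : disp f ((⟨t, ht⟩ : T) : T ⧸ R.subgroupOf T) = 1 := Subgroup.mem_bot.mp (hL0 ▸ ⟨_, rfl⟩)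
    have h2 : y * t * y⁻¹ ∈ T := (Subgroup.mem_normalizer_iff.mp hyT t).mp ht
    rw [disp_apply, div_eq_mul_inv] at h1
    have h3 : (((⟨y * t * y⁻¹ * t⁻¹, mul_mem h2 (inv_mem ht)⟩ : T)) : T ⧸ R.subgroupOf T) = 1 := h1
    exact (show y * t * y⁻¹ * t⁻¹ ∈ R from (QuotientGroup.eq_one_iff (N := R.subgroupOf T) _).mp h3).2 w hw
  right
  have hTq : ∀ {H : Subgroup G}, H ≤ T → ((Nat.card H : ℕ) : K) ≠ 0 := fun {H} hH => cast_card_ne_zero hpq (hT.to_le hH)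
  have hcop : (Nat.card (T ⧸ R.subgroupOf T)).Coprime 2 := by
    obtain ⟨t, ht⟩ := IsPGroup.iff_card.mp (hT.to_quotient (R.subgroupOf T))
    rw [ht]
    exact Nat.Coprime.pow_left t ((Nat.coprime_primes (Fact.out : q.Prime) hp).mpr hpq.symm)
  have hfp : f ^ 2 ^ 1 = 1 := by
    rw [← map_pow]
    convert map_one (qact P₀ (Subgroup.zpowers_le.mpr hyT) (Subgroup.zpowers_le.mpr hyR))
    refine Subtype.ext ?_
    show y ^ 2 ^ 1 = 1
    rw [hy, ← pow_mul, ← pow_add, show n - 1 + 1 = n by omega, ← hxo, pow_orderOf_eq_one]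
  have hinf : ∀ e ∈ L, f e = e → e = 1 := by
    rintro _ ⟨e, rfl⟩ he
    have h : ∀ i : ℕ, (f ^ i) e = e * (disp f e) ^ i := fun i => by
      induction i with
      | zero => simp
      | succ i ih =>
        rw [pow_succ', MulAut.mul_apply, ih, map_mul, map_pow, he, pow_succ', ← mul_assoc]
        congr 1
        rw [disp_apply, mul_div_cancel]
    have h3 := h (2 ^ 1)
    rw [hfp, MulAut.one_apply, left_eq_mul] at h3
    exact eq_one_of_pow hcop h3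
  -- every class is a displacement times a fixed class
  have hdec : ∀ e, ∃ l ∈ L, f (e / l) = e / l := by
    have hmaps : ∀ l ∈ L, disp f l ∈ L := fun l _ => ⟨l, rfl⟩
    have hbij : Function.Surjective (fun l : L => (⟨disp f l, hmaps l l.2⟩ : L)) := by
      refine Finite.injective_iff_surjective.mp fun l l' h => ?_
      have h1 : disp f ((l : T ⧸ R.subgroupOf T) / l') = 1 := by
        rw [map_div, div_eq_one]; exact congrArg Subtype.val h
      rw [disp_apply, div_eq_one] at h1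
      exact Subtype.ext (div_eq_one.mp (hinf _ (div_mem l.2 l'.2) h1))
    intro e
    obtain ⟨l, hl⟩ := hbij ⟨disp f e, e, rfl⟩
    refine ⟨l, l.2, div_eq_one.mp (?_ : disp f (e / l) = 1)⟩
    rw [map_div, div_eq_one]
    exact (congrArg Subtype.val hl).symm
  -- the preimage
  set T₁ := (L.comap (QuotientGroup.mk' (R.subgroupOf T))).map T.subtype with hT₁
  have hT₁mem : ∀ {u : G}, u ∈ T₁ ↔ ∃ hu : u ∈ T, ((⟨u, hu⟩ : T) : T ⧸ R.subgroupOf T) ∈ L := fun {u} => by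
    constructor
    · rintro ⟨v, hv, rfl⟩; exact ⟨v.2, hv⟩
    · rintro ⟨hu, h⟩; exact ⟨⟨u, hu⟩, h, rfl⟩
  have hT₁T : T₁ ≤ T := Subgroup.map_subtype_le _
  have hRT₁ : R ≤ T₁ := fun u hu => hT₁mem.mpr ⟨hu.1, by
    rw [(QuotientGroup.eq_one_iff _).mpr (show (⟨u, hu.1⟩ : T) ∈ R.subgroupOf T from hu)]; exact one_mem _⟩
  have hidx : R.relIndex T₁ = Nat.card L := by
    have h1 : R.subgroupOf T₁ = ((QuotientGroup.mk' (R.subgroupOf T)).comp (Subgroup.inclusion hT₁T)).ker := by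
      rw [← MonoidHom.comap_ker, QuotientGroup.ker_mk']; rfl
    rw [show R.relIndex T₁ = (R.subgroupOf T₁).index from rfl, h1, Subgroup.index_ker]
    congr 1
    congr 1
    ext e
    constructor
    · rintro ⟨⟨u, hu⟩, rfl⟩; exact (hT₁mem.mp hu).2
    · intro he
      obtain ⟨u, rfl⟩ := QuotientGroup.mk_surjective e
      exact ⟨⟨u, hT₁mem.mpr ⟨u.2, he⟩⟩, rfl⟩
  -- fixed classes are orthogonal to the preimage
  have horth : ∀ u ∈ T₁, ∀ w₀ : T, f (w₀ : T ⧸ R.subgroupOf T) = (w₀ : T ⧸ R.subgroupOf T) → pair χ u (w₀ : G) = 1 := by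
    intro u hu w₀ hfix₀
    obtain ⟨huT, e, he⟩ := hT₁mem.mp hu
    obtain ⟨e, rfl⟩ := QuotientGroup.mk_surjective e
    have hyc : ∀ a : G, a ∈ T → y * a * y⁻¹ ∈ T := fun a ha => (Subgroup.mem_normalizer_iff.mp hyT a).mp ha
    -- `u` is a displacement up to the radical
    have he' : ((⟨y * e * y⁻¹ * (e : G)⁻¹, mul_mem (hyc _ e.2) (inv_mem e.2)⟩ : T) : T ⧸ R.subgroupOf T) =
        ((⟨u, huT⟩ : T) : T ⧸ R.subgroupOf T) := by
      rw [← he, disp_apply, div_eq_mul_inv]; rfl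
    have hcong : ∀ a b : T, (a : T ⧸ R.subgroupOf T) = b → ∀ v ∈ T, pair χ (a : G) v = pair χ (b : G) v := by
      intro a b hab v hv
      have h2 : ((a⁻¹ * b : T) : G) ∈ R := (QuotientGroup.eq (s := R.subgroupOf T)).mp hab
      conv_rhs => rw [show (b : G) = (a : G) * ((a⁻¹ * b : T) : G) by simp]
      rw [pair_mul_left hcom hcen a.2 (a⁻¹ * b : T).2 hv, h2.2 v hv, mul_one]
    rw [← hcong _ _ he' _ w₀.2]
    show pair χ (y * e * y⁻¹ * (e : G)⁻¹) (w₀ : G) = 1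
    rw [pair_mul_left hcom hcen (hyc _ e.2) (inv_mem e.2) w₀.2]
    have h4 : pair χ (y * e * y⁻¹) (w₀ : G) = pair χ (y * e * y⁻¹) (y * (w₀ : G) * y⁻¹) := by
      rw [pair_swap hcom w₀.2 (hyc _ e.2), pair_swap hcom (hyc _ w₀.2) (hyc _ e.2)]
      congr 1
      exact (hcong ⟨_, hyc _ w₀.2⟩ w₀ hfix₀ _ (hyc _ e.2)).symm
    have h5 : pair χ (y * e * y⁻¹) (y * (w₀ : G) * y⁻¹) = pair χ (e : G) (w₀ : G) := by
      have hc := hcom _ e.2 _ w₀.2
      have h6 : ⁅y * (e : G) * y⁻¹, y * (w₀ : G) * y⁻¹⁆ = ⁅(e : G), (w₀ : G)⁆ := by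
        rw [show ⁅y * (e : G) * y⁻¹, y * (w₀ : G) * y⁻¹⁆ = y * ⁅(e : G), (w₀ : G)⁆ * y⁻¹ by
            simp only [commutatorElement_def]; group,
          ← (Subgroup.mem_centralizer_iff.mp hyD _ hc), mul_inv_cancel_right]
      rw [pair_eq (h6 ▸ hc), pair_eq hc]
      congr 1
      exact Subtype.ext h6
    rw [h4, h5, ← pair_mul_left hcom hcen e.2 (inv_mem e.2) w₀.2, mul_inv_cancel, pair_one_left]
  -- the radical within the preimage
  have hnd : ∀ u ∈ T₁, (∀ w ∈ T₁, pair χ u w = 1) → u ∈ R := by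
    intro u hu h
    have huT := hT₁T hu
    refine ⟨huT, fun w hw => ?_⟩
    obtain ⟨l, hl, hfix⟩ := hdec ((⟨w, hw⟩ : T) : T ⧸ R.subgroupOf T)
    obtain ⟨w₁, rfl⟩ := QuotientGroup.mk_surjective l
    have hw₁ : (w₁ : G) ∈ T₁ := hT₁mem.mpr ⟨w₁.2, hl⟩
    set w₀ : T := ⟨w, hw⟩ * w₁⁻¹ with hw₀
    have hfix₀ : f (w₀ : T ⧸ R.subgroupOf T) = (w₀ : T ⧸ R.subgroupOf T) := by
      rw [hw₀, QuotientGroup.mk_mul, QuotientGroup.mk_inv, ← div_eq_mul_inv]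
      exact hfix
    have hww : w = (w₀ : G) * (w₁ : G) := by simp [hw₀]
    rw [hww, pair_mul_right hcom hcen w₀.2 w₁.2 huT, h _ hw₁, mul_one, horth u hu w₀ hfix₀]
  -- the lifts
  obtain ⟨k₁, hk₁, hk₁fix, -, hW₁x, hlift₁⟩ := lift (p := 2) ρ D (hTq hDT) (U := ⊤) hxD (fun v _ => Submodule.mem_top)
    hxo χ hχ
  set x₁ := x ^ 2 ^ k₁ with hx₁
  set W₁ := wspace ρ D χ ⊤ with hW₁
  have hx₁T : x₁ ∈ Subgroup.normalizer (T : Set G) := pow_mem hxT _
  have hx₁R : x₁ ∈ Subgroup.normalizer (R : Set G) := mem_normalizer_rad hcom hcen hx₁T hk₁fix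
  have hW₁T : ∀ u ∈ T, ∀ v ∈ W₁, ρ u v ∈ W₁ := fun u hu v hv => by
    refine mem_wspace.mpr ⟨Submodule.mem_top, fun a => ?_⟩
    rw [← Module.End.mul_apply, ← map_mul, ← (hcen u hu a a.2).eq, map_mul, Module.End.mul_apply,
      (mem_wspace.mp hv).2 a, map_smul]
  have hRD : D ≤ R := le_rad hcom hcen hDT
  have hact : ∀ a ∈ T, ∀ b ∈ T, ∀ v ∈ W₁, ρ a (ρ b v) = (pair χ a b : K) • ρ b (ρ a v) := fun a ha b hb v hv => by
    have h1 := hcom a ha b hb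
    rw [← Module.End.mul_apply, ← map_mul, show a * b = ⁅a, b⁆ * (b * a) by rw [commutatorElement_def]; group,
      map_mul, Module.End.mul_apply, map_mul, Module.End.mul_apply,
      (mem_wspace.mp (hW₁T b hb _ (hW₁T a ha v hv))).2 ⟨_, h1⟩, pair_eq h1]
  obtain ⟨c, hc⟩ := exists_weight ρ R (U := W₁) hχ (fun a ha => hW₁T a ha.1)
    (fun a ha b hb v hv => by rw [hact a ha.1 b hb.1 v hv, ha.2 b hb.1, Units.val_one, one_smul])
  obtain ⟨v₀, hv₀, hv₀0⟩ := Submodule.exists_mem_ne_zero_of_ne_bot hc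
  have hcχ : ∀ (d : G) (hd : d ∈ D), c ⟨d, hRD hd⟩ = χ ⟨d, hd⟩ := fun d hd => by
    refine Units.ext (smul_left_injective K hv₀0 ?_)
    show (c ⟨d, hRD hd⟩ : K) • v₀ = (χ ⟨d, hd⟩ : K) • v₀
    rw [← (mem_wspace.mp hv₀).2 ⟨d, hRD hd⟩, ← (mem_wspace.mp (mem_wspace.mp hv₀).1).2 ⟨d, hd⟩]
  obtain ⟨r₁, hr₁, hker₁⟩ := hlift₁ r fun v _ => by rw [hr, LinearMap.zero_apply]
  have hk₁n : k₁ < n := by
    have hr₁0 : r₁ ≠ 0 := fun h => by
      obtain ⟨v, hv, hv0⟩ := Submodule.exists_mem_ne_zero_of_ne_bot hχ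
      have := hker₁ v hv
      rw [h, pow_zero] at this
      exact hv0 this
    by_contra hge
    have h1 : 2 ^ n ≤ 2 ^ k₁ := Nat.pow_le_pow_right hp.pos (not_lt.mp hge)
    have := Nat.le_mul_of_pos_right (2 ^ k₁) (Nat.pos_of_ne_zero hr₁0)
    omega
  have hx₁o : orderOf x₁ = 2 ^ (n - k₁) := by
    rw [hx₁, orderOf_pow, hxo, Nat.gcd_eq_right (pow_dvd_pow 2 (by omega)), Nat.pow_div (by omega) hp.pos]
  obtain ⟨k₂, hk₂, hk₂fix, -, hW₂x, hlift₂⟩ := lift (p := 2) ρ R (hTq (rad_le hcom hcen)) (U := W₁) hx₁R hW₁x hx₁o c hc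
  obtain ⟨r₂, hr₂, hker₂⟩ := hlift₂ r₁ hker₁
  set x₂ := x₁ ^ 2 ^ k₂ with hx₂
  have hx₂x : x₂ = x ^ 2 ^ (k₁ + k₂) := by rw [hx₂, hx₁, ← pow_mul, ← pow_add]
  have hx₂o : orderOf x₂ = 2 ^ (n - (k₁ + k₂)) := by
    rw [hx₂x, orderOf_pow, hxo, Nat.gcd_eq_right (pow_dvd_pow 2 (by omega)), Nat.pow_div (by omega) hp.pos]
  have hx₂T : x₂ ∈ Subgroup.normalizer (T : Set G) := pow_mem hx₁T _
  have hx₂R : x₂ ∈ Subgroup.normalizer (R : Set G) := pow_mem hx₁R _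
  have hx₂T₁ : x₂ ∈ Subgroup.normalizer (T₁ : Set G) := Subgroup.mem_normalizer_fintype fun u hu => by
    obtain ⟨huT, e, he⟩ := hT₁mem.mp hu
    refine hT₁mem.mpr ⟨(Subgroup.mem_normalizer_iff.mp hx₂T u).mp huT, ?_⟩
    obtain ⟨e, rfl⟩ := QuotientGroup.mk_surjective e
    let P₂ := Subgroup.zpowers x₂
    let g := qact P₂ (Subgroup.zpowers_le.mpr hx₂T) (Subgroup.zpowers_le.mpr hx₂R) ⟨x₂, Subgroup.mem_zpowers _⟩
    refine ⟨g (e : T ⧸ R.subgroupOf T), ?_⟩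
    have h1 : f (g (e : T ⧸ R.subgroupOf T)) = g (f (e : T ⧸ R.subgroupOf T)) := by
      refine congrArg QuotientGroup.mk (Subtype.ext ?_)
      show y * (x₂ * (e : G) * x₂⁻¹) * y⁻¹ = x₂ * (y * (e : G) * y⁻¹) * x₂⁻¹
      have hc : Commute y x₂ := by rw [hx₂x]; exact (hxy.symm).pow_right _
      calc y * (x₂ * (e : G) * x₂⁻¹) * y⁻¹ = y * x₂ * e * (x₂⁻¹ * y⁻¹) := by group
        _ = x₂ * y * e * (y⁻¹ * x₂⁻¹) := by rw [hc.eq, (hc.inv_inv).symm.eq]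
        _ = _ := by group
    rw [disp_apply, h1, ← map_div, ← disp_apply, he]
    rfl
  have hfree : ∀ i, x₂ ^ i ≠ 1 → ∀ u ∈ T₁, ⁅x₂ ^ i, u⁆ ∈ R → u ∈ R := by
    intro i hi u hu hui
    obtain ⟨huT, hL'⟩ := hT₁mem.mp hu
    have hxi : x₂ ^ i = x ^ (2 ^ (k₁ + k₂) * i) := by rw [hx₂x, ← pow_mul]
    obtain ⟨t, ht⟩ := (isOfFinOrder_of_finite (x₂ ^ i)).mem_powers_iff_mem_zpowers.mpr
      (show y ∈ Subgroup.zpowers (x₂ ^ i) from hxi ▸ mem_zpowers_of_ne_one hxo _ (hxi ▸ hi))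
    let P₂ := Subgroup.zpowers x₂
    let g := qact P₂ (Subgroup.zpowers_le.mpr hx₂T) (Subgroup.zpowers_le.mpr hx₂R)
      (⟨x₂, Subgroup.mem_zpowers _⟩ ^ i)
    have hgu : g ((⟨u, huT⟩ : T) : T ⧸ R.subgroupOf T) = ((⟨u, huT⟩ : T) : T ⧸ R.subgroupOf T) := by
      refine div_eq_one.mp ?_
      rw [div_eq_mul_inv]
      refine (QuotientGroup.eq_one_iff _).mpr (Subgroup.mem_subgroupOf.mpr ?_)
      simpa [commutatorElement_def] using hui
    have hfg : f = g ^ t := by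
      refine MulEquiv.ext fun e => ?_
      obtain ⟨e, rfl⟩ := QuotientGroup.mk_surjective e
      rw [← map_pow]
      refine congrArg QuotientGroup.mk (Subtype.ext ?_)
      show y * (e : G) * y⁻¹ = (x₂ ^ i) ^ t * (e : G) * ((x₂ ^ i) ^ t)⁻¹
      rw [show y = (x₂ ^ i) ^ t from ht.symm]
    have h1 := hinf _ hL' (by rw [hfg]; exact pow_fixed hgu t)
    exact (QuotientGroup.eq_one_iff (N := R.subgroupOf T) ⟨u, huT⟩).mp h1
  have hRne : ¬ T₁ ≤ R := fun h => hL0 (by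
    refine (Subgroup.eq_bot_iff_forall _).mpr fun e he => ?_
    obtain ⟨u, rfl⟩ := QuotientGroup.mk_surjective e
    exact (QuotientGroup.eq_one_iff _).mpr (h (hT₁mem.mpr ⟨u.2, he⟩)))
  have hW₂T : ∀ u ∈ T, ∀ v ∈ wspace ρ R c W₁, ρ u v ∈ wspace ρ R c W₁ := fun u hu v hv => by
    obtain ⟨hv1, hv2⟩ := mem_wspace.mp hv
    refine mem_wspace.mpr ⟨hW₁T u hu v hv1, fun a => ?_⟩
    rw [hact _ a.2.1 u hu v hv1, a.2.2 u hu, Units.val_one, one_smul, hv2 a, map_smul]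
  have hk : 2 ^ (k₁ + k₂) * r₂ ≤ r := by
    rw [pow_add, mul_assoc]; exact (Nat.mul_le_mul_left _ hr₂).trans hr₁
  have hr₂lt : r₂ < 2 ^ (n - (k₁ + k₂)) := by
    by_contra hge
    have h1 : 2 ^ n ≤ r := by
      refine le_trans ?_ hk
      calc 2 ^ n = 2 ^ (k₁ + k₂) * 2 ^ (n - (k₁ + k₂)) := by rw [← pow_add, Nat.add_sub_cancel' (by omega)]
        _ ≤ _ := Nat.mul_le_mul_left _ (not_lt.mp hge)
    omega
  obtain ⟨⟨b, hb1, hb2, hb4⟩, v, hv, hv0, hrigid⟩ := core_rigid hpq ρ T₁ (hT.to_le hT₁T) hx₂T₁ hx₂o R hRT₁ c hk₂fix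
    (wspace ρ R c W₁) hc (fun u hu => hW₂T u (hT₁T hu)) hW₂x
    (fun a v hv => (mem_wspace.mp hv).2 a) (fun a ha b hb => hRD (hcom a (hT₁T ha) b (hT₁T hb)))
    (fun a ha h => hnd a ha fun w hw => by
      have h1 := hcom a (hT₁T ha) w (hT₁T hw)
      rw [pair_eq h1, ← hcχ _ h1]; exact h w hw (hRD h1)) hfree hRne r₂ hker₂ hr₂lt
  have hqo : Odd q := (Fact.out : q.Prime).odd_of_ne_two hpq.symm
  obtain rfl := eq_one_of_pow_succ (Fact.out : q.Prime).one_lt hqo hb1 hb2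
  rw [pow_one] at hb2 hb4
  have hm2 : 2 ≤ n - (k₁ + k₂) := by
    by_contra hlt
    have h1 : 2 ^ (n - (k₁ + k₂)) ≤ 2 ^ 1 := Nat.pow_le_pow_right two_pos (by omega)
    have := (Fact.out : q.Prime).two_le
    omega
  have hq4 : q % 4 = 3 := by
    obtain ⟨i, hi⟩ := Nat.exists_eq_add_of_le hm2
    rw [hi, pow_add] at hb2
    omega
  obtain ⟨i₀, hi₀⟩ : ∃ i, n - 2 = k₁ + k₂ + i := ⟨n - 2 - (k₁ + k₂), by omega⟩
  have hax : x ^ 2 ^ (n - 2) = x₂ ^ 2 ^ i₀ := by rw [hx₂x, ← pow_mul, ← pow_add, hi₀]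
  have hyx₂ : Commute y x₂ := by rw [hx₂x]; exact (hxy.symm).pow_right _
  -- the fixed classes
  let Fx : G → Prop := fun u => ∃ hu : u ∈ T, f ((⟨u, hu⟩ : T) : T ⧸ R.subgroupOf T) = ((⟨u, hu⟩ : T) : T ⧸ R.subgroupOf T)
  have hFx : ∀ u, Fx u → ∀ w ∈ T₁, pair χ u w = 1 := fun u ⟨hu, hf⟩ w hw => by
    rw [pair_swap hcom (hT₁T hw) hu, horth w hw ⟨u, hu⟩ hf, inv_one]
  have hcj : ∀ u, u ∈ T → x₂ * u * x₂⁻¹ ∈ T := fun u hu => (Subgroup.mem_normalizer_iff.mp hx₂T u).mp hu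
  have hFxc : ∀ u, Fx u → Fx (x₂ * u * x₂⁻¹) := fun u ⟨hu, hf⟩ => by
    refine ⟨hcj u hu, ?_⟩
    let g := qact (Subgroup.zpowers x₂) (Subgroup.zpowers_le.mpr hx₂T) (Subgroup.zpowers_le.mpr hx₂R)
      ⟨x₂, Subgroup.mem_zpowers _⟩
    show f (g ((⟨u, hu⟩ : T) : T ⧸ R.subgroupOf T)) = g ((⟨u, hu⟩ : T) : T ⧸ R.subgroupOf T)
    conv_rhs => rw [← hf]
    refine congrArg QuotientGroup.mk (Subtype.ext ?_)
    show y * (x₂ * u * x₂⁻¹) * y⁻¹ = x₂ * (y * u * y⁻¹) * x₂⁻¹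
    calc y * (x₂ * u * x₂⁻¹) * y⁻¹ = y * x₂ * u * (x₂⁻¹ * y⁻¹) := by group
      _ = x₂ * y * u * (y⁻¹ * x₂⁻¹) := by rw [hyx₂.eq, (hyx₂.inv_inv).symm.eq]
      _ = _ := by group
  have hFmul : ∀ u u', Fx u → Fx u' → Fx (u * u') := fun u u' ⟨hu, hf⟩ ⟨hu', hf'⟩ => ⟨mul_mem hu hu', by
    rw [show (⟨u * u', mul_mem hu hu'⟩ : T) = ⟨u, hu⟩ * ⟨u', hu'⟩ from rfl, QuotientGroup.mk_mul, map_mul, hf, hf']⟩
  have hFinv : ∀ u, Fx u → Fx u⁻¹ := fun u ⟨hu, hf⟩ => ⟨inv_mem hu, by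
    rw [show (⟨u⁻¹, inv_mem hu⟩ : T) = (⟨u, hu⟩ : T)⁻¹ from rfl, QuotientGroup.mk_inv, map_inv, hf]⟩
  have hv₂W : ρ x₂ v ∈ wspace ρ R c W₁ := hW₂x v hv
  have hmove : ∀ u, Fx u → ρ (x₂ * u * x₂⁻¹) (ρ x₂ v) = ρ u (ρ x₂ v) := fun u hu => by
    rw [← Module.End.mul_apply, ← map_mul, inv_mul_cancel_right, map_mul, Module.End.mul_apply]
    refine hrigid u (hW₂T u hu.1) fun w hw v' hv' => ?_
    rw [hact _ hu.1 w (hT₁T hw) v' (mem_wspace.mp hv').1, hFx u hu w hw, Units.val_one, one_smul]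
  have hfix : ∀ u, (hu : Fx u) → ((⟨x₂ * u * x₂⁻¹, hcj u hu.1⟩ : T) : T ⧸ R.subgroupOf T) =
      ((⟨u, hu.1⟩ : T) : T ⧸ R.subgroupOf T) := by
    intro u hu
    set d := u⁻¹ * (x₂ * u * x₂⁻¹) with hd
    have hdF : Fx d := hFmul _ _ (hFinv u hu) (hFxc u hu)
    have hdfix : ∀ u', Fx u' → ρ d (ρ u' (ρ x₂ v)) = ρ u' (ρ x₂ v) := fun u' hu' => by
      rw [hd, map_mul, Module.End.mul_apply, ← hmove u' hu', ← Module.End.mul_apply (f := ρ (x₂ * u * x₂⁻¹)), ← map_mul,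
        show x₂ * u * x₂⁻¹ * (x₂ * u' * x₂⁻¹) = x₂ * (u * u') * x₂⁻¹ by group, hmove _ (hFmul u u' hu hu'), map_mul,
        Module.End.mul_apply, rho_apply_inv, hmove u' hu']
    have hdR : d ∈ R := by
      refine ⟨hdF.1, fun w hw => ?_⟩
      obtain ⟨l, hl, hfix⟩ := hdec ((⟨w, hw⟩ : T) : T ⧸ R.subgroupOf T)
      obtain ⟨w₁, rfl⟩ := QuotientGroup.mk_surjective l
      have hw₁ : (w₁ : G) ∈ T₁ := hT₁mem.mpr ⟨w₁.2, hl⟩
      set w₀ : T := ⟨w, hw⟩ * w₁⁻¹ with hw₀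
      have hw₀F : Fx (w₀ : G) := ⟨w₀.2, by
        rw [Subtype.coe_eta, hw₀, QuotientGroup.mk_mul, QuotientGroup.mk_inv, ← div_eq_mul_inv]
        exact hfix⟩
      have hww : w = (w₀ : G) * (w₁ : G) := by simp [hw₀]
      rw [hww, pair_mul_right hcom hcen w₀.2 w₁.2 hdF.1, hFx d hdF _ hw₁, mul_one]
      have h1 := hact d hdF.1 (w₀ : G) w₀.2 (ρ x₂ v) (mem_wspace.mp hv₂W).1
      have h2 := hdfix 1 ⟨one_mem T, by rw [show (⟨1, one_mem T⟩ : T) = 1 from rfl, QuotientGroup.mk_one, map_one]⟩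
      rw [map_one, Module.End.one_apply] at h2
      rw [hdfix _ hw₀F, h2] at h1
      refine Units.ext (smul_left_injective K (show ρ (w₀ : G) (ρ x₂ v) ≠ 0 from fun h => hv0 ?_) ?_)
      · have h3 := congrArg (fun z => ρ x₂⁻¹ (ρ (w₀ : G)⁻¹ z)) h
        simpa [rho_apply_inv] using h3
      · show _ = (1 : K) • _
        rw [one_smul]
        exact h1.symm
    refine (QuotientGroup.eq.mpr ?_).symm
    rw [Subgroup.mem_subgroupOf]
    exact hdR
  refine ⟨hq4, by omega, hax ▸ pow_mem (pow_mem hk₁fix _) _, fun P hPT hPR haP => ?_⟩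
  have hsq : qact P hPT hPR ⟨_, haP⟩ * qact P hPT hPR ⟨_, haP⟩ = f := by
    rw [← map_mul]
    refine MulEquiv.ext fun e => ?_
    obtain ⟨e, rfl⟩ := QuotientGroup.mk_surjective e
    refine congrArg QuotientGroup.mk (Subtype.ext ?_)
    show x ^ 2 ^ (n - 2) * x ^ 2 ^ (n - 2) * (e : G) * (x ^ 2 ^ (n - 2) * x ^ 2 ^ (n - 2))⁻¹ = y * (e : G) * y⁻¹
    rw [hy, ← pow_add, ← two_mul, ← pow_succ', show n - 2 + 1 = n - 1 by omega]
  refine ⟨⟨?_, ?_⟩, fun e he => ?_⟩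
  · rw [hsq]
    have := hfp
    rwa [pow_one, pow_two] at this
  · rw [hsq, ← hb4, hidx]
    rfl
  · rw [hsq] at he
    obtain ⟨⟨u, hu⟩, rfl⟩ := QuotientGroup.mk_surjective e
    have key : ∀ j : ℕ, ∃ hj : Fx (x₂ ^ j * u * (x₂ ^ j)⁻¹),
        ((⟨_, hj.1⟩ : T) : T ⧸ R.subgroupOf T) = ((⟨u, hu⟩ : T) : T ⧸ R.subgroupOf T) := by
      intro j
      induction j with
      | zero => exact ⟨by simpa using (show Fx u from ⟨hu, he⟩), by simp⟩
      | succ j ih =>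
        obtain ⟨hj, hje⟩ := ih
        have hrw : x₂ ^ (j + 1) * u * (x₂ ^ (j + 1))⁻¹ = x₂ * (x₂ ^ j * u * (x₂ ^ j)⁻¹) * x₂⁻¹ := by
          rw [pow_succ']; group
        simp only [hrw]
        exact ⟨hFxc _ hj, (hfix _ hj).trans hje⟩
    obtain ⟨hj, hje⟩ := key (2 ^ i₀)
    refine Eq.trans ?_ hje
    refine congrArg QuotientGroup.mk (Subtype.ext ?_)
    show x ^ 2 ^ (n - 2) * u * (x ^ 2 ^ (n - 2))⁻¹ = x₂ ^ 2 ^ i₀ * u * (x₂ ^ 2 ^ i₀)⁻¹
    rw [hax]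

end CfsgLib.HallHigmanB
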