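import Cfsg.Agent.Lib.HallHigmanB.TwoGood
import Cfsg.Agent.Lib.PSolvable

/-!
The top powers of exceptional elements of a `2`-group commute, and iterated commutators annihilate them.
-/

set_option autoImplicit false
set_option maxHeartbeats 1000000
set_option linter.unusedSectionVars false

namespace CfsgLib.HallHigmanB

open Module
open scoped commutatorElement

universe u v w

variable {G : Type u} [Group G] [Finite G] {K : Type v} [Field K] [IsAlgClosed K]
  {V : Type w} [AddCommGroup V] [Module K V] [FiniteDimensional K V]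

/-- A `2`-group of exponent at most `2 ^ n` all of whose elements have small nilpotency. -/
structure Small (ρ : G →* Module.End K V) (P : Subgroup G) (n : ℕ) : Prop where
  group : IsPGroup 2 P
  two_le : 2 ≤ n
  exp : ∀ h ∈ P, h ^ 2 ^ n = 1
  nil : ∀ h ∈ P, (ρ h - 1) ^ (2 ^ n - 1) = 0

theorem Small.exc_or {ρ : G →* Module.End K V} {P : Subgroup G} {n : ℕ} (hP : Small ρ P n) {h : G} (hh : h ∈ P) :
    h ^ 2 ^ (n - 1) = 1 ∨ Exc 2 ρ h n := by
  by_cases h1 : h ^ 2 ^ (n - 1) = 1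
  · exact Or.inl h1
  refine Or.inr ⟨by have := hP.two_le; omega, ?_, 2 ^ n - 1, by have := Nat.two_pow_pos n; omega, hP.nil h hh⟩
  haveI := Fact.mk Nat.prime_two
  obtain ⟨m, hm⟩ : ∃ m, n = m + 1 := ⟨n - 1, by have := hP.two_le; omega⟩
  rw [hm, Nat.add_sub_cancel] at h1
  rw [hm]
  exact orderOf_eq_prime_pow h1 (by rw [← hm]; exact hP.exp h hh)

theorem Small.top_centralizes [CharP K 2] {ρ : G →* Module.End K V} (hρ : Function.Injective ρ) {P : Subgroup G} {n : ℕ}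
    (hP : Small ρ P n) {q : ℕ} [Fact q.Prime] (hpq : 2 ≠ q) (A : Subgroup G) (hA : IsPGroup q A)
    (hab : ∀ a ∈ A, ∀ b ∈ A, a * b = b * a) {h : G} (hh : h ∈ P) (hhA : h ∈ Subgroup.normalizer (A : Set G)) :
    h ^ 2 ^ (n - 1) ∈ Subgroup.centralizer (A : Set G) := by
  haveI := Fact.mk Nat.prime_two
  rcases hP.exc_or hh with h1 | h1
  · rw [h1]; exact one_mem _
  · exact h1.centralizes_abelian hpq hρ A hA hab hhA

/-- An `q`-group of class two normalised by a `2`-group. -/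
structure ClassTwo (q : ℕ) (P T D : Subgroup G) : Prop where
  group : IsPGroup q T
  le : D ≤ T
  com : ∀ u ∈ T, ∀ w ∈ T, ⁅u, w⁆ ∈ D
  cen : ∀ u ∈ T, ∀ d ∈ D, Commute u d
  normT : P ≤ Subgroup.normalizer (T : Set G)
  normD : P ≤ Subgroup.normalizer (D : Set G)

section classTwo

variable {q : ℕ} {P T D : Subgroup G} (C : ClassTwo q P T D) (χ : D →* Kˣ)

/-- The stabiliser of a weight in the `2`-group. -/
def stab (P : Subgroup G) (χ : D →* Kˣ) : Subgroup G := P ⊓ fixer D χ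

include C

theorem stab_normT : stab P χ ≤ Subgroup.normalizer (T : Set G) := inf_le_left.trans C.normT

theorem stab_normR : stab P χ ≤ Subgroup.normalizer (rad χ C.com C.cen : Set G) := fun _ hg =>
  mem_normalizer_rad C.com C.cen (stab_normT C χ hg) (Subgroup.mem_inf.mp hg).2

/-- The action of the stabiliser on the quotient by the radical. -/
def act : stab P χ →* MulAut (T ⧸ (rad χ C.com C.cen).subgroupOf T) :=
  qact (stab P χ) (stab_normT C χ) (stab_normR C χ)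

theorem mem_stab_of_centralizes {g : G} (hg : g ∈ P) (hgD : g ∈ Subgroup.centralizer (D : Set G)) :
    g ∈ stab P χ :=
  Subgroup.mem_inf.mpr ⟨hg, C.normD hg, fun a b hab => by
    rw [← Subgroup.mem_centralizer_iff.mp hgD a a.2, mul_inv_cancel_right] at hab
    rw [Subtype.ext hab]⟩

theorem triv_iff {g : G} (hg : g ∈ stab P χ) : Triv (T := T) χ g ↔ act C χ ⟨g, hg⟩ = 1 := by
  have hgt : ∀ t ∈ T, g * t * g⁻¹ ∈ T := fun t ht =>
    (Subgroup.mem_normalizer_iff.mp (stab_normT C χ hg) t).mp ht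
  constructor
  · intro h
    refine MulEquiv.ext fun e => ?_
    obtain ⟨t, rfl⟩ := QuotientGroup.mk_surjective e
    rw [MulAut.one_apply]
    show ((⟨g * t * g⁻¹, hgt t t.2⟩ : T) : T ⧸ (rad χ C.com C.cen).subgroupOf T) = (t : T ⧸ (rad χ C.com C.cen).subgroupOf T)
    rw [← div_eq_one, div_eq_mul_inv, ← QuotientGroup.mk_inv, ← QuotientGroup.mk_mul, QuotientGroup.eq_one_iff,
      Subgroup.mem_subgroupOf]
    exact ⟨mul_mem (hgt t t.2) (inv_mem t.2), h t t.2⟩
  · intro h t ht w hw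
    have h1 := DFunLike.congr_fun h ((⟨t, ht⟩ : T) : T ⧸ (rad χ C.com C.cen).subgroupOf T)
    rw [MulAut.one_apply] at h1
    change ((⟨g * t * g⁻¹, hgt t ht⟩ : T) : T ⧸ (rad χ C.com C.cen).subgroupOf T) = ((⟨t, ht⟩ : T) : _) at h1
    rw [← div_eq_one, div_eq_mul_inv, ← QuotientGroup.mk_inv, ← QuotientGroup.mk_mul, QuotientGroup.eq_one_iff,
      Subgroup.mem_subgroupOf] at h1
    exact h1.2 w hw

omit C in
theorem triv_one : Triv (T := T) χ (1 : G) := fun t _ w _ => by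
  rw [one_mul, inv_one, mul_one, mul_inv_cancel]; exact pair_one_left

theorem odd_card (hpq : 2 ≠ q) [Fact q.Prime] :
    Odd (Nat.card (T ⧸ (rad χ C.com C.cen).subgroupOf T)) := by
  obtain ⟨k, hk⟩ := IsPGroup.iff_card.mp (C.group.to_quotient ((rad χ C.com C.cen).subgroupOf T))
  rw [hk]
  exact ((Fact.out : q.Prime).odd_of_ne_two hpq.symm).pow

/-- Trivial, or the square of a quarter turn. -/
theorem top_cases [Fact q.Prime] [CharP K 2] {ρ : G →* Module.End K V} (hρ : Function.Injective ρ) (hpq : 2 ≠ q) {n : ℕ}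
    (hP : Small ρ P n) (hχ : wspace ρ D χ ⊤ ≠ ⊥) {h : G} (hh : h ∈ P) :
    Triv (T := T) χ (h ^ 2 ^ (n - 1)) ∨ (q % 4 = 3 ∧ ∃ ha : h ^ 2 ^ (n - 2) ∈ stab P χ,
      Quarter.IsQuarter q (act C χ ⟨_, ha⟩)) := by
  rcases hP.exc_or hh with h1 | h1
  · rw [h1]; exact Or.inl (triv_one χ)
  have hyD := hP.top_centralizes hρ hpq D (C.group.to_le C.le)
    (fun a ha b hb => (C.cen a (C.le ha) b hb).eq) hh (C.normD hh)
  refine (h1.good_two hpq C.group C.le C.com C.cen (C.normT hh) (C.normD hh) hyD χ hχ).imp id fun ⟨hq4, _, hfix, hqu⟩ =>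
    ⟨hq4, Subgroup.mem_inf.mpr ⟨pow_mem hh _, hfix⟩, hqu _ _ _ _⟩

/-- An element centralising the centre, whose commutators lie in every radical, centralises the group. -/
theorem centralizes_of_triv [Fact q.Prime] [CharP K 2] {ρ : G →* Module.End K V} (hρ : Function.Injective ρ) (hpq : 2 ≠ q)
    {g : G} {k : ℕ} (hgk : g ^ 2 ^ k = 1) (hgT : g ∈ Subgroup.normalizer (T : Set G))
    (hgZ : g ∈ Subgroup.centralizer ((T ⊓ Subgroup.centralizer (T : Set G) : Subgroup G) : Set G))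
    (h : ∀ χ : D →* Kˣ, wspace ρ D χ ⊤ ≠ ⊥ → Triv (T := T) χ g) : g ∈ Subgroup.centralizer (T : Set G) := by
  haveI := Fact.mk Nat.prime_two
  refine Subgroup.mem_centralizer_iff.mpr fun t ht => ?_
  have hgt : g * t * g⁻¹ ∈ T := (Subgroup.mem_normalizer_iff.mp hgT t).mp ht
  have hu : g * t * g⁻¹ * t⁻¹ ∈ T ⊓ Subgroup.centralizer (T : Set G) := by
    refine Subgroup.mem_inf.mpr ⟨mul_mem hgt (inv_mem ht), Subgroup.mem_centralizer_iff.mpr fun w hw => ?_⟩
    refine (commutatorElement_eq_one_iff_mul_comm.mp ?_).symm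
    refine exists_weight_sep hpq hρ (C.group.to_le C.le) (fun a ha b hb => (C.cen a (C.le ha) b hb).eq)
      (C.com _ (mul_mem hgt (inv_mem ht)) _ hw) fun χ hχ => ?_
    rw [← pair_eq]
    exact h χ hχ t ht w hw
  have h1 := eq_one_of_fixed_displacement hpq C.group hgk (Subgroup.mem_inf.mp hu).1
    (Subgroup.mem_centralizer_iff.mp hgZ _ hu).symm (inv_mul_cancel_right (g * t * g⁻¹) t).symm
  rw [mul_inv_eq_one, mul_inv_eq_iff_eq_mul] at h1
  exact h1.symm

theorem normalizer_center {g : G} (hg : g ∈ P) :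
    g ∈ Subgroup.normalizer ((T ⊓ Subgroup.centralizer (T : Set G) : Subgroup G) : Set G) :=
  Subgroup.mem_normalizer_fintype fun u hu => by
    obtain ⟨hu1, hu2⟩ := Subgroup.mem_inf.mp hu
    refine Subgroup.mem_inf.mpr ⟨(Subgroup.mem_normalizer_iff.mp (C.normT hg) u).mp hu1,
      Subgroup.mem_centralizer_iff.mpr fun d hd => ?_⟩
    have hd' : g⁻¹ * d * g ∈ T := by
      have := (Subgroup.mem_normalizer_iff.mp (C.normT (inv_mem hg)) d).mp hd
      rwa [inv_inv] at this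
    calc d * (g * u * g⁻¹) = g * ((g⁻¹ * d * g) * u) * g⁻¹ := by group
      _ = g * (u * (g⁻¹ * d * g)) * g⁻¹ := by rw [Subgroup.mem_centralizer_iff.mp hu2 _ hd']
      _ = g * u * g⁻¹ * d := by group

/-- A top power centralises the derived group and the centre. -/
theorem top_mem [Fact q.Prime] [CharP K 2] {ρ : G →* Module.End K V} (hρ : Function.Injective ρ) (hpq : 2 ≠ q) {n : ℕ}
    (hP : Small ρ P n) {h : G} (hh : h ∈ P) :
    h ^ 2 ^ (n - 1) ∈ P ⊓ Subgroup.centralizer (D : Set G) ⊓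
      Subgroup.centralizer ((T ⊓ Subgroup.centralizer (T : Set G) : Subgroup G) : Set G) :=
  Subgroup.mem_inf.mpr ⟨Subgroup.mem_inf.mpr ⟨pow_mem hh _, hP.top_centralizes hρ hpq D (C.group.to_le C.le)
      (fun a ha b hb => (C.cen a (C.le ha) b hb).eq) hh (C.normD hh)⟩,
    hP.top_centralizes hρ hpq _ (C.group.to_le inf_le_left)
      (fun _ ha b hb => (Subgroup.mem_centralizer_iff.mp (Subgroup.mem_inf.mp hb).2 _ (Subgroup.mem_inf.mp ha).1))
      hh (normalizer_center C hh)⟩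

/-- The commutator of two top powers centralises the group. -/
theorem tops_commutator [Fact q.Prime] [CharP K 2] {ρ : G →* Module.End K V} (hρ : Function.Injective ρ) (hpq : 2 ≠ q)
    {n : ℕ} (hP : Small ρ P n) {h h' : G} (hh : h ∈ P) (hh' : h' ∈ P) :
    ⁅h ^ 2 ^ (n - 1), h' ^ 2 ^ (n - 1)⁆ ∈ Subgroup.centralizer (T : Set G) := by
  haveI := Fact.mk Nat.prime_two
  have hmem := fun {g : G} (hg : g ∈ P) => top_mem C hρ hpq hP hg
  have hcm : ⁅h ^ 2 ^ (n - 1), h' ^ 2 ^ (n - 1)⁆ ∈ P ⊓ Subgroup.centralizer (D : Set G) ⊓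
      Subgroup.centralizer ((T ⊓ Subgroup.centralizer (T : Set G) : Subgroup G) : Set G) := by
    rw [commutatorElement_def]
    exact mul_mem (mul_mem (mul_mem (hmem hh) (hmem hh')) (inv_mem (hmem hh))) (inv_mem (hmem hh'))
  obtain ⟨⟨hcP, hcD⟩, hcZ⟩ := hcm
  refine centralizes_of_triv C hρ hpq (hP.exp _ hcP) (C.normT hcP) hcZ fun χ hχ => ?_
  have hy := mem_stab_of_centralizes C χ (Subgroup.mem_inf.mp (Subgroup.mem_inf.mp (hmem hh)).1).1
    (Subgroup.mem_inf.mp (Subgroup.mem_inf.mp (hmem hh)).1).2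
  have hy' := mem_stab_of_centralizes C χ (Subgroup.mem_inf.mp (Subgroup.mem_inf.mp (hmem hh')).1).1
    (Subgroup.mem_inf.mp (Subgroup.mem_inf.mp (hmem hh')).1).2
  have hcs := mem_stab_of_centralizes C χ hcP hcD
  rw [triv_iff C χ hcs]
  have heq : (⟨_, hcs⟩ : stab P χ) = ⁅(⟨_, hy⟩ : stab P χ), ⟨_, hy'⟩⁆ := rfl
  rw [heq, map_commutatorElement, commutatorElement_eq_one_iff_commute]
  rcases top_cases C χ hρ hpq hP hχ hh with ht | ⟨hq4, ha, hqa⟩
  · rw [(triv_iff C χ hy).mp ht]; exact Commute.one_left _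
  rcases top_cases C χ hρ hpq hP hχ hh' with ht | ⟨-, ha', hqa'⟩
  · rw [(triv_iff C χ hy').mp ht]; exact Commute.one_right _
  have hcq := Quarter.commute_quarter (hP.group.to_le inf_le_left) (odd_card C χ hpq) hq4 (act C χ) hqa' hqa
  have hsq : ∀ {g : G} (hg : g ^ 2 ^ (n - 2) ∈ stab P χ) (hg' : g ^ 2 ^ (n - 1) ∈ stab P χ),
      (⟨_, hg'⟩ : stab P χ) = ⟨_, hg⟩ * ⟨_, hg⟩ := fun {g} hg hg' => Subtype.ext (by
    show g ^ 2 ^ (n - 1) = g ^ 2 ^ (n - 2) * g ^ 2 ^ (n - 2)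
    rw [← pow_add, ← two_mul, ← pow_succ', show n - 2 + 1 = n - 1 by have := hP.two_le; omega])
  rw [hsq ha hy, hsq ha' hy', map_mul, map_mul]
  exact hcq.mul_left hcq

omit C in
theorem pair_conj {g : G} (hgD : g ∈ Subgroup.normalizer (D : Set G)) {u w : G} (h : ⁅u, w⁆ ∈ D) :
    pair χ (g * u * g⁻¹) (g * w * g⁻¹) = pair (χ.comp (Subgroup.normalizerMonoidHom D ⟨g, hgD⟩).toMonoidHom) u w := by
  have h1 : ⁅g * u * g⁻¹, g * w * g⁻¹⁆ = g * ⁅u, w⁆ * g⁻¹ := by simp only [commutatorElement_def]; group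
  have h2 : ⁅g * u * g⁻¹, g * w * g⁻¹⁆ ∈ D := h1 ▸ (Subgroup.mem_normalizer_iff.mp hgD _).mp h
  rw [pair_eq h2, pair_eq h]
  exact congrArg χ (Subtype.ext h1)

/-- Triviality is transported by conjugation. -/
theorem triv_conj {g y : G} (hg : g ∈ P) (hy : y ∈ P) :
    Triv (T := T) χ (g * y * g⁻¹) ↔
      Triv (T := T) (χ.comp (Subgroup.normalizerMonoidHom D ⟨g, C.normD hg⟩).toMonoidHom) y := by
  have hgt : ∀ t ∈ T, g * t * g⁻¹ ∈ T := fun t ht => (Subgroup.mem_normalizer_iff.mp (C.normT hg) t).mp ht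
  have hgt' : ∀ t ∈ T, g⁻¹ * t * g ∈ T := fun t ht => by
    have := (Subgroup.mem_normalizer_iff.mp (C.normT (inv_mem hg)) t).mp ht
    rwa [inv_inv] at this
  have hyt : ∀ t ∈ T, y * t * y⁻¹ * t⁻¹ ∈ T := fun t ht =>
    mul_mem ((Subgroup.mem_normalizer_iff.mp (C.normT hy) t).mp ht) (inv_mem ht)
  constructor
  · intro h t ht w hw
    rw [← pair_conj χ (C.normD hg) (C.com _ (hyt t ht) _ hw)]
    have h1 := h _ (hgt t ht) _ (hgt w hw)
    rwa [show g * y * g⁻¹ * (g * t * g⁻¹) * (g * y * g⁻¹)⁻¹ * (g * t * g⁻¹)⁻¹ = g * (y * t * y⁻¹ * t⁻¹) * g⁻¹ by group]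
      at h1
  · intro h t ht w hw
    have h1 := h _ (hgt' t ht) _ (hgt' w hw)
    rw [← pair_conj χ (C.normD hg) (C.com _ (hyt _ (hgt' t ht)) _ (hgt' w hw))] at h1
    rwa [show g * (y * (g⁻¹ * t * g) * y⁻¹ * (g⁻¹ * t * g)⁻¹) * g⁻¹ = g * y * g⁻¹ * t * (g * y * g⁻¹)⁻¹ * t⁻¹ by group,
      show g * (g⁻¹ * w * g) * g⁻¹ = w by group] at h1

/-- Triviality depends on the action on the derived group alone. -/
theorem triv_conj_congr {g c y : G} (hg : g ∈ P) (hc : c ∈ P) (hcD : c ∈ Subgroup.centralizer (D : Set G)) (hy : y ∈ P) :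
    Triv (T := T) χ (c * g * y * (c * g)⁻¹) ↔ Triv (T := T) χ (g * y * g⁻¹) := by
  rw [triv_conj C χ (mul_mem hc hg) hy, triv_conj C χ hg hy]
  suffices h : χ.comp (Subgroup.normalizerMonoidHom D ⟨c * g, C.normD (mul_mem hc hg)⟩).toMonoidHom =
      χ.comp (Subgroup.normalizerMonoidHom D ⟨g, C.normD hg⟩).toMonoidHom by rw [h]
  refine MonoidHom.ext fun d => congrArg χ (Subtype.ext ?_)
  show c * g * d * (c * g)⁻¹ = g * d * g⁻¹
  have hd : g * (d : G) * g⁻¹ ∈ D := (Subgroup.mem_normalizer_iff.mp (C.normD hg) _).mp d.2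
  calc c * g * d * (c * g)⁻¹ = c * (g * d * g⁻¹) * c⁻¹ := by group
    _ = g * d * g⁻¹ := by rw [← Subgroup.mem_centralizer_iff.mp hcD _ hd, mul_inv_cancel_right]

end classTwo

/-- The product of the first `j` conjugates. -/
def norm (x e : G) (j : ℕ) : G := ((List.range j).map fun i => x ^ i * e * (x ^ i)⁻¹).prod

theorem norm_succ (x e : G) (j : ℕ) : norm x e (j + 1) = norm x e j * (x ^ j * e * (x ^ j)⁻¹) := by
  rw [norm, List.range_succ, List.map_append, List.prod_append, List.map_cons, List.map_nil, List.prod_singleton, norm]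

theorem mul_pow_eq_norm (x e : G) : ∀ j : ℕ, (e * x) ^ j = norm x e j * x ^ j
  | 0 => by simp [norm]
  | j + 1 => by rw [pow_succ, mul_pow_eq_norm x e j, norm_succ, pow_succ]; group

/-- The subgroup generated by the top powers. -/
def tops (P : Subgroup G) (n : ℕ) : Subgroup G := Subgroup.closure {g | ∃ h ∈ P, g = h ^ 2 ^ (n - 1)}

theorem top_mem_tops {P : Subgroup G} {n : ℕ} {h : G} (hh : h ∈ P) : h ^ 2 ^ (n - 1) ∈ tops P n :=
  Subgroup.subset_closure ⟨h, hh, rfl⟩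

theorem conj_mem_tops {P : Subgroup G} {n : ℕ} {g e : G} (hg : g ∈ P) (he : e ∈ tops P n) : g * e * g⁻¹ ∈ tops P n := by
  have h : tops P n ≤ (tops P n).comap (MulAut.conj g).toMonoidHom := (Subgroup.closure_le _).mpr fun y ⟨h, hh, hy⟩ => by
    show g * y * g⁻¹ ∈ tops P n
    rw [hy, ← conj_pow]
    exact top_mem_tops (mul_mem (mul_mem hg hh) (inv_mem hg))
  exact h he

theorem tops_comm {P : Subgroup G} {n : ℕ}
    (hcomm : ∀ h ∈ P, ∀ h' ∈ P, Commute (h ^ 2 ^ (n - 1)) (h' ^ 2 ^ (n - 1))) {a b : G} (ha : a ∈ tops P n)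
    (hb : b ∈ tops P n) : Commute a b := by
  have h1 : tops P n ≤ Subgroup.centralizer {g | ∃ h ∈ P, g = h ^ 2 ^ (n - 1)} :=
    (Subgroup.closure_le _).mpr fun y ⟨h, hh, hy⟩ => Subgroup.mem_centralizer_iff.mpr fun z ⟨h', hh', hz⟩ => by
      rw [hy, hz]; exact (hcomm h' hh' h hh).eq
  have h2 : tops P n ≤ Subgroup.centralizer (tops P n : Set G) := (Subgroup.closure_le _).mpr fun y hy =>
    Subgroup.mem_centralizer_iff.mpr fun z hz => (Subgroup.mem_centralizer_iff.mp (h1 hz) y hy).symm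
  exact (Subgroup.mem_centralizer_iff.mp (h2 hb) a ha)

theorem tops_sq {P : Subgroup G} {n : ℕ} (hn : 1 ≤ n) (hexp : ∀ h ∈ P, h ^ 2 ^ n = 1)
    (hcomm : ∀ h ∈ P, ∀ h' ∈ P, Commute (h ^ 2 ^ (n - 1)) (h' ^ 2 ^ (n - 1))) {a : G} (ha : a ∈ tops P n) :
    a * a = 1 := by
  have h1 : ∀ b ∈ tops P n, b * b = 1 := fun b hb => by
    refine Subgroup.closure_induction (p := fun b _ => b * b = 1) ?_ ?_ ?_ ?_ hb
    · rintro y ⟨h, hh, rfl⟩
      rw [← pow_add, ← two_mul, ← pow_succ', Nat.sub_add_cancel hn, hexp h hh]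
    · exact one_mul 1
    · intro y z hy hz hy' hz'
      rw [(tops_comm hcomm hz hy).mul_mul_mul_comm, hy', hz', one_mul]
    · intro y _ hy'
      rw [← mul_inv_rev, hy', inv_one]
  exact h1 a ha

theorem norm_mem_tops {P : Subgroup G} {n : ℕ} {x e : G} (hx : x ∈ P) (he : e ∈ tops P n) (j : ℕ) :
    norm x e j ∈ tops P n :=
  Subgroup.list_prod_mem _ fun g hg => by
    obtain ⟨i, -, rfl⟩ := List.mem_map.mp hg
    exact conj_mem_tops (pow_mem hx i) he

theorem norm_mul {P : Subgroup G} {n : ℕ}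
    (hcomm : ∀ h ∈ P, ∀ h' ∈ P, Commute (h ^ 2 ^ (n - 1)) (h' ^ 2 ^ (n - 1))) {x f y : G} (hx : x ∈ P)
    (hf : f ∈ tops P n) (hy : y ∈ tops P n) (hxy : Commute x y) : ∀ j : ℕ, norm x (f * y) j = norm x f j * y ^ j
  | 0 => by simp [norm]
  | j + 1 => by
    rw [norm_succ, norm_succ, norm_mul hcomm hx hf hy hxy j, pow_succ]
    have h1 : x ^ j * (f * y) * (x ^ j)⁻¹ = x ^ j * f * (x ^ j)⁻¹ * y := by
      calc x ^ j * (f * y) * (x ^ j)⁻¹ = x ^ j * f * (y * (x ^ j)⁻¹) := by group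
        _ = x ^ j * f * ((x ^ j)⁻¹ * y) := by rw [((hxy.pow_left j).inv_left).eq]
        _ = _ := by group
    have h2 : Commute (y ^ j) (x ^ j * f * (x ^ j)⁻¹) :=
      (tops_comm hcomm (hy) (conj_mem_tops (pow_mem hx j) hf)).pow_left j
    rw [h1]
    generalize x ^ j * f * (x ^ j)⁻¹ = c at h2 ⊢
    calc norm x f j * y ^ j * (c * y) = norm x f j * (y ^ j * c) * y := by simp only [mul_assoc]
      _ = norm x f j * (c * y ^ j) * y := by rw [h2.eq]
      _ = norm x f j * c * (y ^ j * y) := by simp only [mul_assoc]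

/-- Iterated commutators of an element of the top group with `x` multiply conjugates together. -/
theorem iterate_eq_norm {P : Subgroup G} {n : ℕ} (hn : 1 ≤ n) (hexp : ∀ h ∈ P, h ^ 2 ^ n = 1)
    (hcomm : ∀ h ∈ P, ∀ h' ∈ P, Commute (h ^ 2 ^ (n - 1)) (h' ^ 2 ^ (n - 1))) {x e : G} (hx : x ∈ P)
    (he : e ∈ tops P n) : ∀ j : ℕ, (fun w => ⁅x, w⁆)^[2 ^ j - 1] e = norm x e (2 ^ j) := by
  have hinv : ∀ a ∈ tops P n, a⁻¹ = a := fun a ha => inv_eq_of_mul_eq_one_left (tops_sq hn hexp hcomm ha)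
  have hpair : ∀ (i : ℕ), ∀ u ∈ tops P n, (fun w => ⁅x, w⁆)^[2 ^ i] u = x ^ 2 ^ i * u * (x ^ 2 ^ i)⁻¹ * u := by
    intro i
    induction i with
    | zero =>
      intro u hu
      show ⁅x, u⁆ = x ^ 1 * u * (x ^ 1)⁻¹ * u
      rw [commutatorElement_def, hinv u hu, pow_one]
    | succ i ih =>
      intro u hu
      have hu1 : x ^ 2 ^ i * u * (x ^ 2 ^ i)⁻¹ ∈ tops P n := conj_mem_tops (pow_mem hx _) hu
      rw [pow_succ, mul_two, Function.iterate_add_apply, ih u hu, ih _ (mul_mem hu1 hu)]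
      calc x ^ 2 ^ i * (x ^ 2 ^ i * u * (x ^ 2 ^ i)⁻¹ * u) * (x ^ 2 ^ i)⁻¹ * (x ^ 2 ^ i * u * (x ^ 2 ^ i)⁻¹ * u)
          = x ^ (2 ^ i + 2 ^ i) * u * (x ^ (2 ^ i + 2 ^ i))⁻¹ *
              ((x ^ 2 ^ i * u * (x ^ 2 ^ i)⁻¹) * (x ^ 2 ^ i * u * (x ^ 2 ^ i)⁻¹)) * u := by rw [pow_add]; group
        _ = _ := by rw [tops_sq hn hexp hcomm hu1, mul_one]
  intro j
  induction j with
  | zero => simp [norm]
  | succ j ih =>
    have hN := norm_mem_tops hx he (2 ^ j)
    have hsplit : ∀ i : ℕ, norm x e (2 ^ j + i) = norm x e (2 ^ j) * (x ^ 2 ^ j * norm x e i * (x ^ 2 ^ j)⁻¹) := by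
      intro i
      induction i with
      | zero => simp [norm]
      | succ i ihi => rw [← add_assoc, norm_succ, ihi, norm_succ, pow_add]; group
    rw [show 2 ^ (j + 1) - 1 = 2 ^ j + (2 ^ j - 1) by have := Nat.two_pow_pos j; rw [pow_succ]; omega,
      Function.iterate_add_apply, ih, hpair j _ hN, pow_succ, mul_two, hsplit]
    exact (tops_comm hcomm (conj_mem_tops (pow_mem hx _) hN) hN).eq

/-- The product of the conjugates of a commutator with a top power centralises the group. -/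
theorem norm_centralizes {q : ℕ} [Fact q.Prime] [CharP K 2] {P T D : Subgroup G} (C : ClassTwo q P T D)
    {ρ : G →* Module.End K V} (hρ : Function.Injective ρ) (hpq : 2 ≠ q) {n : ℕ} (hP : Small ρ P n)
    (hcomm : ∀ h ∈ P, ∀ h' ∈ P, Commute (h ^ 2 ^ (n - 1)) (h' ^ 2 ^ (n - 1))) {x x' : G} (hx : x ∈ P) (hx' : x' ∈ P)
    (hxD : x' * x⁻¹ ∈ Subgroup.centralizer (D : Set G)) :
    norm x (⁅x', x ^ 2 ^ (n - 1)⁆) (2 ^ (n - 2)) ∈ Subgroup.centralizer (T : Set G) := by
  classical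
  haveI := Fact.mk Nat.prime_two
  have hn := hP.two_le
  set y := x ^ 2 ^ (n - 1) with hy
  set k := 2 ^ (n - 2) with hk
  set f := x' * y * x'⁻¹ with hf
  have hyt : y ∈ tops P n := top_mem_tops hx
  have hft : f ∈ tops P n := conj_mem_tops hx' hyt
  have hyinv : y⁻¹ = y := inv_eq_of_mul_eq_one_left (tops_sq (by omega) hP.exp hcomm hyt)
  have he : ⁅x', y⁆ = f * y := by rw [commutatorElement_def, hyinv]
  rw [he]
  have hxy : Commute x y := Commute.self_pow x _
  -- the conjugates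
  let b : ℕ → G := fun i => x ^ i * (x' * x * x'⁻¹) * (x ^ i)⁻¹
  have hbP : ∀ i, b i ∈ P := fun i => mul_mem (mul_mem (pow_mem hx i) (mul_mem (mul_mem hx' hx) (inv_mem hx'))) (inv_mem (pow_mem hx i))
  have hbtop : ∀ i, b i ^ 2 ^ (n - 1) = x ^ i * f * (x ^ i)⁻¹ := fun i => by
    show (x ^ i * (x' * x * x'⁻¹) * (x ^ i)⁻¹) ^ 2 ^ (n - 1) = _
    rw [conj_pow, conj_pow]
  have hNmem : norm x (f * y) k ∈ P ⊓ Subgroup.centralizer (D : Set G) ⊓
      Subgroup.centralizer ((T ⊓ Subgroup.centralizer (T : Set G) : Subgroup G) : Set G) := by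
    have h1 : tops P n ≤ P ⊓ Subgroup.centralizer (D : Set G) ⊓
        Subgroup.centralizer ((T ⊓ Subgroup.centralizer (T : Set G) : Subgroup G) : Set G) :=
      (Subgroup.closure_le _).mpr fun g ⟨h, hh, hg⟩ => hg ▸ top_mem C hρ hpq hP hh
    exact h1 (norm_mem_tops hx (mul_mem hft hyt) k)
  obtain ⟨⟨hNP, hND⟩, hNZ⟩ := hNmem
  refine centralizes_of_triv C hρ hpq (hP.exp _ hNP) (C.normT hNP) hNZ fun χ hχ => ?_
  have hstab : ∀ {h : G}, h ∈ P → h ^ 2 ^ (n - 1) ∈ stab P χ := fun {h} hh =>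
    mem_stab_of_centralizes C χ (pow_mem hh _)
      (Subgroup.mem_inf.mp (Subgroup.mem_inf.mp (top_mem C hρ hpq hP hh)).1).2
  have hNs := mem_stab_of_centralizes C χ hNP hND
  set φ := act C χ with hφ
  let F : ℕ → stab P χ := fun i => ⟨b i ^ 2 ^ (n - 1), hstab (hbP i)⟩
  let Y : stab P χ := ⟨y, hstab hx⟩
  have hNeq : (⟨_, hNs⟩ : stab P χ) = ((List.range k).map F).prod * Y ^ k := Subtype.ext (by
    show norm x (f * y) k = _
    rw [norm_mul hcomm hx hft hyt hxy, Subgroup.coe_mul, Subgroup.coe_pow]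
    congr 1
    show norm x f k = (stab P χ).subtype _
    rw [map_list_prod, List.map_map]
    exact congrArg List.prod (List.map_congr_left fun i _ => (hbtop i).symm))
  -- every conjugate is trivial exactly when the top power is
  have hFy : ∀ i, Triv (T := T) χ (b i ^ 2 ^ (n - 1)) ↔ Triv (T := T) χ y := by
    intro i
    have hv : x ^ i * (x' * x⁻¹) * (x ^ i)⁻¹ ∈ Subgroup.centralizer (D : Set G) :=
      Subgroup.mem_centralizer_iff.mpr fun d hd => by
        have hd' : (x ^ i)⁻¹ * d * x ^ i ∈ D := by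
          have := (Subgroup.mem_normalizer_iff.mp (C.normD (inv_mem (pow_mem hx i))) d).mp hd
          rwa [inv_inv] at this
        calc d * (x ^ i * (x' * x⁻¹) * (x ^ i)⁻¹)
            = x ^ i * (((x ^ i)⁻¹ * d * x ^ i) * (x' * x⁻¹)) * (x ^ i)⁻¹ := by group
          _ = x ^ i * ((x' * x⁻¹) * ((x ^ i)⁻¹ * d * x ^ i)) * (x ^ i)⁻¹ := by
            rw [Subgroup.mem_centralizer_iff.mp hxD _ hd']
          _ = _ := by group
    have h1 := triv_conj_congr C χ (g := x ^ (i + 1)) (c := x ^ i * (x' * x⁻¹) * (x ^ i)⁻¹) (y := y) (pow_mem hx _)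
      (mul_mem (mul_mem (pow_mem hx i) (mul_mem hx' (inv_mem hx))) (inv_mem (pow_mem hx i))) hv (pow_mem hx _)
    rw [show x ^ (i + 1) * y * (x ^ (i + 1))⁻¹ = y by rw [(hxy.pow_left _).eq, mul_inv_cancel_right]] at h1
    rw [hbtop, ← h1, show x ^ i * (x' * x⁻¹) * (x ^ i)⁻¹ * x ^ (i + 1) * y * (x ^ i * (x' * x⁻¹) * (x ^ i)⁻¹ * x ^ (i + 1))⁻¹ =
      x ^ i * f * (x ^ i)⁻¹ by rw [hf, pow_succ]; group]
  rw [triv_iff C χ hNs, hNeq]
  rcases top_cases C χ hρ hpq hP hχ hx with ht | ⟨hq4, ha, hqa⟩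
  · rw [map_mul, map_pow, map_list_prod, List.map_map, (triv_iff C χ (hstab hx)).mp ht, one_pow, mul_one]
    refine List.prod_eq_one fun g hg => ?_
    obtain ⟨i, -, rfl⟩ := List.mem_map.mp hg
    exact (triv_iff C χ (hstab (hbP i))).mp ((hFy i).mpr ht)
  have hsq : ∀ {g : G} (hg : g ^ 2 ^ (n - 2) ∈ stab P χ) (hg' : g ^ 2 ^ (n - 1) ∈ stab P χ),
      (⟨_, hg'⟩ : stab P χ) = ⟨_, hg⟩ * ⟨_, hg⟩ := fun {g} hg hg' => Subtype.ext (by
    show g ^ 2 ^ (n - 1) = g ^ 2 ^ (n - 2) * g ^ 2 ^ (n - 2)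
    rw [← pow_add, ← two_mul, ← pow_succ', show n - 2 + 1 = n - 1 by omega])
  have hodd := odd_card C χ hpq
  have hPst : IsPGroup 2 (stab P χ) := hP.group.to_le inf_le_left
  let A : stab P χ := ⟨_, ha⟩
  have hYA : φ Y = φ A * φ A := by rw [← map_mul]; exact congrArg φ (hsq ha (hstab hx))
  have hynt : ¬ Triv (T := T) χ y := fun h => hqa.isPlane.ne_bot ((Subgroup.eq_bot_iff_forall _).mpr fun e he => by
    have h1 : φ A * φ A = 1 := hYA ▸ (triv_iff C χ (hstab hx)).mp h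
    obtain ⟨d, rfl⟩ := he
    show (φ A * φ A) d / d = 1
    rw [h1, MulAut.one_apply, div_self'])
  have hqF : ∀ i, ∃ c : stab P χ, Quarter.IsQuarter q (φ c) ∧ φ (F i) = φ c * φ c := fun i => by
    obtain ⟨-, hc, hqc⟩ := (top_cases C χ hρ hpq hP hχ (hbP i)).resolve_left fun h => hynt ((hFy i).mp h)
    exact ⟨⟨_, hc⟩, hqc, by rw [← map_mul]; exact congrArg φ (hsq hc (hstab (hbP i)))⟩
  have hAF : ∀ i, Commute (φ A) (φ (F i)) := fun i => by
    obtain ⟨c, hc, hce⟩ := hqF i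
    rw [hce]; exact Quarter.commute_quarter hPst hodd hq4 φ hc hqa
  let l : List (MulAut (T ⧸ (rad χ C.com C.cen).subgroupOf T)) := (List.range k).map (fun i => φ (F i)) ++ List.replicate k (φ Y)
  have hmeml : ∀ g ∈ φ Y :: l, ∃ c : stab P χ, Quarter.IsQuarter q (φ c) ∧ g = φ c * φ c := by
    intro g hg
    rcases List.mem_cons.mp hg with rfl | hg
    · exact ⟨A, hqa, hYA⟩
    rcases List.mem_append.mp hg with hg | hg
    · obtain ⟨i, -, rfl⟩ := List.mem_map.mp hg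
      exact hqF i
    · exact ⟨A, hqa, (List.eq_of_mem_replicate hg).trans hYA⟩
  have hlprod : l.prod = φ (((List.range k).map F).prod * Y ^ k) := by
    rw [List.prod_append, List.prod_replicate, map_mul, map_pow, map_list_prod, List.map_map]
    rfl
  rw [← hlprod]
  refine Quarter.prod_eq_one hodd (f := φ Y) (hYA ▸ hqa.isPlane) l (fun g hg => ?_) (fun g hg h hh => ?_)
    ⟨k, by simp [l]⟩ fun e he => ?_
  · obtain ⟨c, hc, rfl⟩ := hmeml g (List.mem_cons_of_mem _ hg); exact hc.isPlane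
  · obtain ⟨c, hc, rfl⟩ := hmeml g hg
    obtain ⟨c', hc', rfl⟩ := hmeml h hh
    exact Quarter.apart_of_quarter hPst hodd hq4 φ hc hc'
  rw [hlprod, ← hNeq]
  set N : stab P χ := ⟨_, hNs⟩ with hN
  -- the element `f * y * x`
  have hh : f * y * x ∈ P := mul_mem (mul_mem (mul_mem (mul_mem hx' (pow_mem hx _)) (inv_mem hx')) (pow_mem hx _)) hx
  have hhk : (f * y * x) ^ 2 ^ (n - 2) = norm x (f * y) k * x ^ 2 ^ (n - 2) := mul_pow_eq_norm x (f * y) k
  have hAN : Commute (φ A) (φ N) := by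
    rw [hNeq, map_mul, map_pow, map_list_prod, List.map_map, hYA]
    exact (Commute.list_prod_right _ _ fun g hg => by
      obtain ⟨i, -, rfl⟩ := List.mem_map.mp hg; exact hAF i).mul_right
      (((Commute.refl _).mul_right (Commute.refl _)).pow_right k)
  have hNN : φ N * φ N = 1 := by
    rw [← map_mul]
    refine (congrArg φ (Subtype.ext ?_)).trans (map_one φ)
    exact tops_sq (by omega) hP.exp hcomm (norm_mem_tops hx (mul_mem hft hyt) k)
  have hntop : ¬ Triv (T := T) χ ((f * y * x) ^ 2 ^ (n - 1)) := fun h => hynt (by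
    have hs := hstab hh
    rw [triv_iff C χ hs] at h
    rw [triv_iff C χ (hstab hx)]
    refine Eq.trans ?_ h
    have h2 : (⟨_, hs⟩ : stab P χ) = N * A * (N * A) := Subtype.ext (by
      show (f * y * x) ^ 2 ^ (n - 1) = norm x (f * y) k * x ^ 2 ^ (n - 2) * (norm x (f * y) k * x ^ 2 ^ (n - 2))
      rw [← hhk, ← pow_add, ← two_mul, ← pow_succ', show n - 2 + 1 = n - 1 by omega])
    rw [h2, map_mul, map_mul, hAN.mul_mul_mul_comm, hNN, one_mul]
    exact hYA)
  obtain ⟨-, hah, hqh⟩ := (top_cases C χ hρ hpq hP hχ hh).resolve_left hntop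
  have hAh : φ ⟨_, hah⟩ = φ N * φ A := by
    rw [← map_mul]; exact congrArg φ (Subtype.ext hhk)
  have hae : φ A e = e := hqa.fix e (by rwa [hYA] at he)
  have h3 := hqh.fix e (by
    rw [hAh, hAN.mul_mul_mul_comm, hNN, one_mul, ← hYA]; exact he)
  rw [hAh, MulAut.mul_apply, hae] at h3
  exact h3

/-- A `2`-element centralising every normal subgroup of odd prime power order and class two is trivial. -/
theorem eq_one_of_centralizes [Group.IsSolvable G] (hO : Cfsg.pCore 2 G = ⊥) {g : G} {k : ℕ} (hgk : g ^ 2 ^ k = 1)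
    (h : ∀ q : ℕ, q.Prime → 2 ≠ q → ∀ T : Subgroup G, T.Normal → IsPGroup q T →
      (∀ u ∈ T, ∀ d ∈ (⁅T, T⁆ : Subgroup G), Commute u d) → g ∈ Subgroup.centralizer (T : Set G)) : g = 1 := by
  classical
  haveI := Fact.mk Nat.prime_two
  have hall : ∀ q : ℕ, q.Prime → 2 ≠ q → ∀ T : Subgroup G, T.Normal → IsPGroup q T →
      g ∈ Subgroup.centralizer (T : Set G) := by
    intro q hq hpq T₀ hT₀n hT₀
    haveI := Fact.mk hq
    by_contra hg₀
    obtain ⟨T, ⟨hTn, hT, hgT⟩, hmin⟩ := Set.Finite.exists_minimalFor (fun H : Subgroup G => Nat.card H)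
      {H : Subgroup G | H.Normal ∧ IsPGroup q H ∧ g ∉ Subgroup.centralizer (H : Set G)}
      (Set.toFinite _) ⟨T₀, hT₀n, hT₀, hg₀⟩
    haveI := hTn
    haveI : Group.IsNilpotent T := hT.isNilpotent
    have hproper : ∀ M : Subgroup G, M.Normal → M ≤ T → M ≠ T → g ∈ Subgroup.centralizer (M : Set G) := fun M hMn hM hne => by
      by_contra h'
      exact hne (Subgroup.eq_of_le_of_card_ge hM (hmin (j := M) ⟨hMn, hT.to_le hM, h'⟩ (Subgroup.card_le_of_le hM)))
    have hDT : ⁅T, T⁆ ≤ T := Subgroup.commutator_le_left T T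
    have hTne : Nontrivial T := by
      rw [Subgroup.nontrivial_iff_ne_bot]
      intro hbot
      exact hgT (Subgroup.mem_centralizer_iff.mpr fun t ht => by rw [hbot] at ht; simp [Subgroup.mem_bot.mp ht])
    have hDne : ⁅T, T⁆ ≠ T := fun h' => by
      refine (Group.IsSolvable.commutator_lt_top_of_nontrivial T).ne (Subgroup.map_injective T.subtype_injective ?_)
      rw [commutator_def, Subgroup.map_commutator, ← MonoidHom.range_eq_map, Subgroup.range_subtype, h']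
    have hgD := hproper _ inferInstance hDT hDne
    by_cases hcen : ∀ u ∈ T, ∀ d ∈ (⁅T, T⁆ : Subgroup G), Commute u d
    · exact hgT (h q hq hpq T hTn hT hcen)
    set C := T ⊓ Subgroup.centralizer ((⁅T, T⁆ : Subgroup G) : Set G) with hC
    have hne : C ≠ T := fun h' => hcen fun u hu d hd =>
      (Subgroup.mem_centralizer_iff.mp (Subgroup.mem_inf.mp (h' ▸ hu : u ∈ C)).2 d hd).symm
    have hgC := hproper C inferInstance inf_le_left hne
    refine hgT (Subgroup.mem_centralizer_iff.mpr fun t ht => ?_)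
    have hgt : g * t * g⁻¹ ∈ T := hTn.conj_mem t ht g
    have hu : g * t * g⁻¹ * t⁻¹ ∈ C := by
      refine Subgroup.mem_inf.mpr ⟨mul_mem hgt (inv_mem ht), Subgroup.mem_centralizer_iff.mpr fun d hd => ?_⟩
      have hd' : t⁻¹ * d * t ∈ (⁅T, T⁆ : Subgroup G) := by
        have := (inferInstance : (⁅T, T⁆ : Subgroup G).Normal).conj_mem d hd t⁻¹
        rwa [inv_inv] at this
      have e1 : g * (t⁻¹ * d * t) = (t⁻¹ * d * t) * g := (Subgroup.mem_centralizer_iff.mp hgD _ hd').symm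
      have e2 : g * d = d * g := (Subgroup.mem_centralizer_iff.mp hgD _ hd).symm
      calc d * (g * t * g⁻¹ * t⁻¹) = (d * g) * t * g⁻¹ * t⁻¹ := by group
        _ = (g * d) * t * g⁻¹ * t⁻¹ := by rw [e2]
        _ = g * t * ((t⁻¹ * d * t) * g⁻¹) * t⁻¹ := by group
        _ = g * t * (g⁻¹ * (t⁻¹ * d * t)) * t⁻¹ := by
          rw [(show Commute (t⁻¹ * d * t) g from e1.symm).inv_right.eq]
        _ = g * t * g⁻¹ * t⁻¹ * d := by group
    have h1 := eq_one_of_fixed_displacement hpq hT hgk (Subgroup.mem_inf.mp hu).1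
      (Subgroup.mem_centralizer_iff.mp hgC _ hu).symm (inv_mul_cancel_right (g * t * g⁻¹) t).symm
    rw [mul_inv_eq_one, mul_inv_eq_iff_eq_mul] at h1
    exact h1.symm
  have hF : Cfsg.fittingSubgroup G ≤ Subgroup.centralizer {g} := by
    rw [fittingSubgroup_eq_iSup_pCore]
    refine iSup_le fun q => ?_
    haveI : Fact (q : ℕ).Prime := ⟨q.2⟩
    haveI := Blocks.pCore_normal' (G := G) (p := (q : ℕ))
    rcases eq_or_ne 2 (q : ℕ) with e | e
    · rw [← e, hO]; exact bot_le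
    · exact fun a ha => Subgroup.mem_centralizer_singleton_iff.mpr
        (Subgroup.mem_centralizer_iff.mp (hall q q.2 e _ inferInstance (CfsgLib.isPGroup_pCore (q : ℕ))) a ha)
  have hgF : g ∈ Cfsg.fittingSubgroup G := centralizer_fitting_le (Subgroup.mem_centralizer_iff.mpr fun a ha =>
    Subgroup.mem_centralizer_singleton_iff.mp (hF ha))
  have hodd : Odd (Nat.card (Cfsg.fittingSubgroup G)) := by
    rw [← Nat.not_even_iff_odd, even_iff_two_dvd]
    intro hd
    obtain ⟨a, ha⟩ := exists_prime_orderOf_dvd_card' 2 hd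
    have hle : Cfsg.fittingSubgroup G ≤ Cfsg.pPrimeCore 2 G := by
      rw [fittingSubgroup_eq_iSup_pCore]
      refine iSup_le fun q => ?_
      rcases eq_or_ne 2 (q : ℕ) with e | e
      · rw [← e, hO]; exact bot_le
      · exact pCore_le_pPrimeCore_of_ne Nat.prime_two q.2 e
    have h1 := (CfsgLib.card_pPrimeCore_coprime (G := G) 2).coprime_dvd_left (Subgroup.card_dvd_of_le hle)
    have h2 := Nat.eq_one_of_dvd_coprimes h1 hd dvd_rfl
    omega
  exact orderOf_eq_one_iff.mp (Nat.eq_one_of_dvd_coprimes ((Nat.coprime_two_left.mpr hodd).pow_left k)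
    (orderOf_dvd_of_pow_eq_one hgk) (Subgroup.orderOf_dvd_natCard _ hgF))

section global

variable [Group.IsSolvable G] [CharP K 2] {ρ : G →* Module.End K V} {P : Subgroup G} {n : ℕ}

/-- The central derived groups of the normal subgroups of odd prime power order. -/
def derivedCentralizer (G : Type u) [Group G] : Subgroup G :=
  ⨅ (q : ℕ) (_ : q.Prime) (_ : 2 ≠ q) (T : Subgroup G) (_ : T.Normal) (_ : IsPGroup q T)
    (_ : ∀ u ∈ T, ∀ d ∈ (⁅T, T⁆ : Subgroup G), Commute u d), Subgroup.centralizer ((⁅T, T⁆ : Subgroup G) : Set G)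

theorem mem_derivedCentralizer {g : G} : g ∈ derivedCentralizer G ↔ ∀ q : ℕ, q.Prime → 2 ≠ q →
    ∀ T : Subgroup G, T.Normal → IsPGroup q T → (∀ u ∈ T, ∀ d ∈ (⁅T, T⁆ : Subgroup G), Commute u d) →
      g ∈ Subgroup.centralizer ((⁅T, T⁆ : Subgroup G) : Set G) := by
  simp only [derivedCentralizer, Subgroup.mem_iInf]

instance derivedCentralizer_normal : (derivedCentralizer G).Normal := by
  refine ⟨fun a ha g => ?_⟩
  rw [mem_derivedCentralizer] at ha ⊢
  intro q hq hpq T hTn hT hcen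
  haveI := hTn
  haveI : (Subgroup.centralizer ((⁅T, T⁆ : Subgroup G) : Set G)).Normal := inferInstance
  exact this.conj_mem a (ha q hq hpq T hTn hT hcen) g

theorem classTwo_of_normal {q : ℕ} {T : Subgroup G} (hTn : T.Normal) (hT : IsPGroup q T)
    (hcen : ∀ u ∈ T, ∀ d ∈ (⁅T, T⁆ : Subgroup G), Commute u d) (P : Subgroup G) : ClassTwo q P T ⁅T, T⁆ := by
  haveI := hTn
  exact ⟨hT, Subgroup.commutator_le_left T T, fun u hu w hw => Subgroup.commutator_mem_commutator hu hw, hcen,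
    by rw [Subgroup.normalizer_eq_top]; exact le_top, by rw [Subgroup.normalizer_eq_top]; exact le_top⟩

theorem top_mem_derived (hρ : Function.Injective ρ) (hP : Small ρ P n) {h : G} (hh : h ∈ P) :
    h ^ 2 ^ (n - 1) ∈ derivedCentralizer G := by
  rw [mem_derivedCentralizer]
  intro q hq hpq T hTn hT hcen
  haveI := Fact.mk hq
  exact (Subgroup.mem_inf.mp (Subgroup.mem_inf.mp (top_mem (classTwo_of_normal hTn hT hcen P) hρ hpq hP hh)).1).2

theorem top_commute (hρ : Function.Injective ρ) (hO : Cfsg.pCore 2 G = ⊥) (hP : Small ρ P n) {h h' : G}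
    (hh : h ∈ P) (hh' : h' ∈ P) : Commute (h ^ 2 ^ (n - 1)) (h' ^ 2 ^ (n - 1)) := by
  rw [← commutatorElement_eq_one_iff_commute]
  refine eq_one_of_centralizes hO (k := n) (hP.exp _ ?_) fun q hq hpq T hTn hT hcen => ?_
  · rw [commutatorElement_def]
    exact mul_mem (mul_mem (mul_mem (pow_mem hh _) (pow_mem hh' _)) (inv_mem (pow_mem hh _))) (inv_mem (pow_mem hh' _))
  · haveI := Fact.mk hq
    exact tops_commutator (classTwo_of_normal hTn hT hcen P) hρ hpq hP hh hh'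

/-- Iterated commutators annihilate the top powers. -/
theorem nested_tops (hρ : Function.Injective ρ) (hO : Cfsg.pCore 2 G = ⊥) (hP : Small ρ P n) {x x' : G}
    (hx : x ∈ P) (hx' : x' ∈ P) (hxD : x' * x⁻¹ ∈ derivedCentralizer G) :
    (fun w => ⁅x, w⁆)^[2 ^ (n - 2) - 1] ⁅x', x ^ 2 ^ (n - 1)⁆ = 1 := by
  have hn := hP.two_le
  have hcomm := fun h (hh : h ∈ P) h' (hh' : h' ∈ P) => top_commute hρ hO hP hh hh'
  have he : ⁅x', x ^ 2 ^ (n - 1)⁆ ∈ tops P n := by
    rw [commutatorElement_def]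
    exact mul_mem (conj_mem_tops hx' (top_mem_tops hx)) (inv_mem (top_mem_tops hx))
  rw [iterate_eq_norm (by omega) hP.exp hcomm hx he]
  refine eq_one_of_centralizes hO (k := n) (hP.exp _ ?_) fun q hq hpq T hTn hT hcen => ?_
  · exact (show tops P n ≤ P from (Subgroup.closure_le P).mpr fun g ⟨h, hh, hg⟩ => hg ▸ pow_mem hh _) (norm_mem_tops hx he _)
  · haveI := Fact.mk hq
    exact norm_centralizes (classTwo_of_normal hTn hT hcen P) hρ hpq hP hcomm hx hx'
      (mem_derivedCentralizer.mp hxD q hq hpq T hTn hT hcen)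

end global

end CfsgLib.HallHigmanB
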