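import Cfsg.Agent.Lib.HallHigmanB.Reduction
import Cfsg.Agent.Lib.HallHigmanB.TwoTops
import Cfsg.Agent.Lib.PLocal.SolvableSeparable

/-!
Gross' bound on the `2`-length of a soluble group by the exponent of its Sylow `2`-subgroups.
-/

set_option autoImplicit false
set_option maxHeartbeats 1000000
set_option linter.unusedSectionVars false

namespace CfsgLib.HallHigmanB

open Module
open scoped commutatorElement TensorProduct

universe u v w

theorem intertwine {k : Type v} [CommRing k] {M M' : Type w} [AddCommGroup M] [Module k M] [AddCommGroup M'] [Module k M']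
    (φ : M →ₗ[k] M') (A : Module.End k M) (B : Module.End k M') (h : ∀ x, φ (A x) = B (φ x)) (j N : ℕ) (x : M) :
    φ (((A - 1) ^ j * ∑ i ∈ Finset.range N, A ^ i) x) = ((B - 1) ^ j * ∑ i ∈ Finset.range N, B ^ i) (φ x) := by
  have h1 : ∀ (i : ℕ) (y : M), φ ((A ^ i) y) = (B ^ i) (φ y) := fun i => by
    induction i with
    | zero => intro y; simp
    | succ i ih => intro y; rw [pow_succ', pow_succ', Module.End.mul_apply, Module.End.mul_apply, h, ih]
  have h2 : ∀ (i : ℕ) (y : M), φ (((A - 1) ^ i) y) = ((B - 1) ^ i) (φ y) := fun i => by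
    induction i with
    | zero => intro y; simp
    | succ i ih =>
      intro y
      rw [pow_succ', pow_succ', Module.End.mul_apply, Module.End.mul_apply, LinearMap.sub_apply, LinearMap.sub_apply,
        map_sub, h, Module.End.one_apply, Module.End.one_apply, ih]
  rw [Module.End.mul_apply, Module.End.mul_apply, h2, LinearMap.sum_apply, LinearMap.sum_apply, map_sum]
  exact congrArg _ (Finset.sum_congr rfl fun i _ => h1 i x)

/-- A semisimplification in two layers of the module carried by the Frattini quotient of `O_p`. -/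
theorem exists_layer_module {G : Type u} [Group G] [Finite G] {p : ℕ} [Fact p.Prime] (hsol : Cfsg.IsPSolvable p G)
    (hO : Cfsg.pPrimeCore p G = ⊥) (K₀ : Subgroup G) [K₀.Normal] (g : G) (j N : ℕ)
    (htop : ∀ v ∈ Cfsg.pCore p G, ∃ l : List G, l.length = j ∧ (∀ h ∈ l, h * g⁻¹ ∈ Cfsg.pCore p G) ∧
      l.foldr (fun h w => h * w * h⁻¹ * w⁻¹) ((v * g) ^ N * (g ^ N)⁻¹) ∈ K₀)
    (hlow : ∀ v ∈ Cfsg.pCore p G, v ∈ K₀ → ∃ l : List G, l.length = j ∧ (∀ h ∈ l, h * g⁻¹ ∈ Cfsg.pCore p G) ∧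
      l.foldr (fun h w => h * w * h⁻¹ * w⁻¹) ((v * g) ^ N * (g ^ N)⁻¹) = 1) :
    ∃ (K : Type) (_ : Field K) (_ : IsAlgClosed K) (_ : CharP K p) (V : Type u) (_ : AddCommGroup V) (_ : Module K V)
      (_ : FiniteDimensional K V) (ρ : G →* Module.End K V),
      ρ.ker = Cfsg.pCore p G ∧ (Cfsg.pCore p G ≠ ⊥ → Nontrivial V) ∧
        (ρ g - 1) ^ j * ∑ i ∈ Finset.range N, ρ g ^ i = 0 := by
  classical
  have hp := (Fact.out : p.Prime)
  haveI := Blocks.pCore_normal' (G := G) (p := p)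
  set P0 := Cfsg.pCore p G with hP0
  have hP0p : IsPGroup p P0 := CfsgLib.isPGroup_pCore p
  set Φ := frattini P0 with hΦ
  letI : CommGroup (P0 ⧸ Φ) :=
    { (inferInstance : Group (P0 ⧸ Φ)) with
      mul_comm := fun a b => by
        obtain ⟨a, rfl⟩ := QuotientGroup.mk_surjective a
        obtain ⟨b, rfl⟩ := QuotientGroup.mk_surjective b
        show ((a * b : P0) : P0 ⧸ Φ) = ((b * a : P0) : P0 ⧸ Φ)
        rw [QuotientGroup.eq, show (a * b)⁻¹ * (b * a) = ⁅b⁻¹, a⁻¹⁆ by rw [commutatorElement_def]; group]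
        exact CfsgLib.commutator_le_frattini_pGroup hP0p
          (Subgroup.commutator_mem_commutator (Subgroup.mem_top _) (Subgroup.mem_top _)) }
  have hexp : ∀ x : Additive (P0 ⧸ Φ), p • x = 0 := fun x => by
    obtain ⟨a, ha⟩ := QuotientGroup.mk_surjective (Additive.toMul x)
    apply Additive.toMul.injective
    rw [toMul_nsmul, ← ha, toMul_zero, ← QuotientGroup.mk_pow, QuotientGroup.eq_one_iff]
    exact CfsgLib.pow_mem_frattini_pGroup hP0p a
  letI : Module (ZMod p) (Additive (P0 ⧸ Φ)) := AddCommGroup.zmodModule (n := p) (G := Additive (P0 ⧸ Φ)) hexp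
  let c : G →* MulAut P0 := MulAut.conjNormal
  have hinv : ∀ g : G, Φ.map (c g).toMonoidHom = Φ := fun g =>
    Subgroup.characteristic_iff_map_eq.mp (inferInstance : Φ.Characteristic) _
  let τ₀ : G → Module.End (ZMod p) (Additive (P0 ⧸ Φ)) := fun g =>
    AddMonoidHom.toZModLinearMap p (M := Additive (P0 ⧸ Φ)) (M₁ := Additive (P0 ⧸ Φ))
      (MonoidHom.toAdditive (QuotientGroup.congr Φ Φ (c g) (hinv g)).toMonoidHom)
  have hτ₀ : ∀ (g : G) (a : P0), τ₀ g (Additive.ofMul (a : P0 ⧸ Φ)) = Additive.ofMul ((c g a : P0) : P0 ⧸ Φ) :=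
    fun g a => rfl
  let τ : G →* Module.End (ZMod p) (Additive (P0 ⧸ Φ)) :=
    { toFun := τ₀
      map_one' := LinearMap.ext fun x => by
        obtain ⟨a, ha⟩ := QuotientGroup.mk_surjective (Additive.toMul x)
        rw [show x = Additive.ofMul (a : P0 ⧸ Φ) by rw [ha, ofMul_toMul], hτ₀, Module.End.one_apply, map_one,
          MulAut.one_apply]
      map_mul' := fun g h => LinearMap.ext fun x => by
        obtain ⟨a, ha⟩ := QuotientGroup.mk_surjective (Additive.toMul x)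
        rw [show x = Additive.ofMul (a : P0 ⧸ Φ) by rw [ha, ofMul_toMul], Module.End.mul_apply, hτ₀, hτ₀, hτ₀,
          map_mul, MulAut.mul_apply] }
  have hτ : ∀ (g : G) (a : P0), τ g (Additive.ofMul (a : P0 ⧸ Φ)) = Additive.ofMul ((c g a : P0) : P0 ⧸ Φ) :=
    fun g a => rfl
  have hc : ∀ (g : G) (a : P0), ((c g a : P0) : G) = g * a * g⁻¹ := fun g a => MulAut.conjNormal_apply g a
  -- the kernel
  have hker : τ.ker = P0 := by
    refine le_antisymm (CfsgLib.le_pCore ?_) fun g hg => MonoidHom.mem_ker.mpr (LinearMap.ext fun x => ?_)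
    · rintro ⟨y, hy⟩
      obtain ⟨k, d, hd, ho⟩ := Nat.exists_eq_pow_mul_and_not_dvd (orderOf_pos y).ne' p hp.one_lt.ne'
      set b := y ^ p ^ k with hb
      have hbc : b ^ d = 1 := by rw [hb, ← pow_mul, ← ho, pow_orderOf_eq_one]
      obtain ⟨e, he⟩ := IsPGroup.iff_card.mp hP0p
      have hcp : Nat.Coprime d (p ^ e) := ((hp.coprime_iff_not_dvd.mpr hd).symm).pow_right e
      have hbA : Subgroup.zpowers b ≤ Subgroup.centralizer (P0 : Set G) := by
        refine CfsgLib.centralize_of_trivial_mod_frattini (by rw [Subgroup.normalizer_eq_top]; exact le_top) ?_ ?_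
        · rw [Nat.card_zpowers]
          exact (hcp.coprime_dvd_left (orderOf_dvd_of_pow_eq_one hbc)).coprime_dvd_right
            (he ▸ Subgroup.card_subgroup_dvd_card (frattini P0))
        · rintro _ ⟨j, rfl⟩ z hz
          have hj : b ^ j ∈ τ.ker := Subgroup.zpow_mem _ (Subgroup.pow_mem _ hy _) j
          have h1 := LinearMap.congr_fun (MonoidHom.mem_ker.mp hj) (Additive.ofMul ((⟨z, hz⟩ : P0) : P0 ⧸ Φ))
          rw [hτ, Module.End.one_apply] at h1
          have h2 := QuotientGroup.eq.mp (Additive.ofMul.injective h1).symm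
          refine ⟨(c (b ^ j) ⟨z, hz⟩) * (⟨z, hz⟩ : P0)⁻¹, ?_, ?_⟩
          · have h3 := (inferInstance : Φ.Normal).conj_mem _ h2 (⟨z, hz⟩ : P0)
            rwa [mul_inv_cancel_left] at h3
          · rw [Subgroup.subtype_apply, Subgroup.coe_mul, hc, Subgroup.coe_inv]
      have hbP : b ∈ P0 := Blocks.hall_higman hsol hO (hbA (Subgroup.mem_zpowers b))
      have hb1 : b = 1 := by
        rw [← orderOf_eq_one_iff]
        refine Nat.eq_one_of_dvd_coprimes hcp (orderOf_dvd_of_pow_eq_one hbc) ?_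
        rw [← he, ← Subgroup.orderOf_mk b hbP]
        exact orderOf_dvd_natCard _
      exact ⟨k, Subtype.ext hb1⟩
    · obtain ⟨a, ha⟩ := QuotientGroup.mk_surjective (Additive.toMul x)
      rw [show x = Additive.ofMul (a : P0 ⧸ Φ) by rw [ha, ofMul_toMul], hτ, Module.End.one_apply]
      congr 1
      have hca : c g a = (⟨g, hg⟩ : P0) * a * (⟨g, hg⟩ : P0)⁻¹ := Subtype.ext (hc g a)
      rw [hca, QuotientGroup.mk_mul, QuotientGroup.mk_mul, QuotientGroup.mk_inv, mul_comm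
        ((⟨g, hg⟩ : P0) : P0 ⧸ Φ), mul_inv_cancel_right]
  -- the two layers
  let W : Submodule (ZMod p) (Additive (P0 ⧸ Φ)) :=
    AddSubgroup.toZModSubmodule p (Subgroup.toAddSubgroup ((K₀.subgroupOf P0).map (QuotientGroup.mk' Φ)))
  have hW : ∀ x, x ∈ W ↔ ∃ a : P0, (a : G) ∈ K₀ ∧ Additive.ofMul (a : P0 ⧸ Φ) = x := fun x => by
    constructor
    · rintro ⟨a, ha, hax⟩
      exact ⟨a, ha, Additive.toMul.injective hax⟩
    · rintro ⟨a, ha, rfl⟩
      exact ⟨a, ha, rfl⟩
  have hWinv : ∀ h : G, ∀ x ∈ W, τ h x ∈ W := fun h x hx => by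
    obtain ⟨a, ha, rfl⟩ := (hW x).mp hx
    refine (hW _).mpr ⟨c h a, ?_, (hτ h a).symm⟩
    rw [hc]
    exact (inferInstance : K₀.Normal).conj_mem _ ha h
  let τ₁ : G →* Module.End (ZMod p) W :=
    { toFun := fun h => (τ h).restrict (hWinv h)
      map_one' := LinearMap.ext fun x => Subtype.ext (by simp)
      map_mul' := fun h h' => LinearMap.ext fun x => Subtype.ext (by simp) }
  let τ₂ : G →* Module.End (ZMod p) (Additive (P0 ⧸ Φ) ⧸ W) :=
    { toFun := fun h => W.mapQ W (τ h) (hWinv h)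
      map_one' := Submodule.linearMap_qext W (LinearMap.ext fun x => by simp)
      map_mul' := fun h h' => Submodule.linearMap_qext W (LinearMap.ext fun x => by simp) }
  let τ' : G →* Module.End (ZMod p) (W × (Additive (P0 ⧸ Φ) ⧸ W)) :=
    { toFun := fun h => LinearMap.prodMap (τ₁ h) (τ₂ h)
      map_one' := by rw [map_one, map_one]; exact LinearMap.prodMap_one
      map_mul' := fun h h' => by rw [map_mul, map_mul]; exact (LinearMap.prodMap_mul _ _ _ _).symm }
  haveI : τ.ker.Normal := inferInstance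
  have hker' : τ'.ker = P0 := by
    refine le_antisymm (CfsgLib.le_pCore ?_) fun h hh => MonoidHom.mem_ker.mpr ?_
    · rintro ⟨h, hh⟩
      have hh' : LinearMap.prodMap (τ₁ h) (τ₂ h) = 1 := hh
      have h1 : ∀ x ∈ W, τ h x = x := fun x hx => by
        have := congrArg (fun A => ((A ((⟨x, hx⟩ : W), (0 : Additive (P0 ⧸ Φ) ⧸ W))).1 : Additive (P0 ⧸ Φ))) hh'
        exact this
      have h2 : ∀ x, τ h x - x ∈ W := fun x => by
        have := congrArg (fun A => (A ((0 : W), W.mkQ x)).2) hh'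
        exact (Submodule.Quotient.eq W).mp this
      have h3 : ∀ i : ℕ, ∀ x, τ (h ^ i) x = x + i • (τ h x - x) := by
        intro i
        induction i with
        | zero => intro x; simp
        | succ i ih =>
          intro x
          rw [pow_succ', map_mul, Module.End.mul_apply, ih, map_add, map_nsmul, h1 _ (h2 x), succ_nsmul]
          abel
      have h4 : h ^ p ∈ P0 := hker ▸ MonoidHom.mem_ker.mpr (LinearMap.ext fun x => by
        rw [h3, hexp, add_zero, Module.End.one_apply])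
      obtain ⟨i, hi⟩ := hP0p ⟨_, h4⟩
      refine ⟨i + 1, Subtype.ext ?_⟩
      have h5 : (h ^ p) ^ p ^ i = 1 := congrArg Subtype.val hi
      rw [← pow_mul, ← pow_succ'] at h5
      exact h5
    · have hh' : τ h = 1 := MonoidHom.mem_ker.mp (hker.symm ▸ hh : h ∈ τ.ker)
      refine LinearMap.ext fun x => Prod.ext (Subtype.ext ?_) ?_
      · show τ h (x.1 : Additive (P0 ⧸ Φ)) = _
        rw [hh']; rfl
      · obtain ⟨y, hy⟩ := W.mkQ_surjective x.2
        show τ₂ h x.2 = x.2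
        rw [← hy]
        show W.mkQ (τ h y) = W.mkQ y
        rw [hh']; rfl
  -- the two congruences
  have hlist : ∀ (l : List G) (a : P0), ∃ b : P0, (b : G) = l.foldr (fun h w => h * w * h⁻¹ * w⁻¹) (a : G) ∧
      (l.map fun h => τ h - 1).prod (Additive.ofMul (a : P0 ⧸ Φ)) = Additive.ofMul (b : P0 ⧸ Φ) := by
    intro l a
    induction l with
    | nil => exact ⟨a, rfl, by simp⟩
    | cons h l ih =>
      obtain ⟨b, hb, hb'⟩ := ih
      refine ⟨c h b * b⁻¹, ?_, ?_⟩
      · rw [Subgroup.coe_mul, hc, Subgroup.coe_inv, List.foldr_cons, hb]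
      · rw [List.map_cons, List.prod_cons, Module.End.mul_apply, hb', LinearMap.sub_apply, Module.End.one_apply, hτ,
          QuotientGroup.mk_mul, QuotientGroup.mk_inv, ofMul_mul, ofMul_inv, sub_eq_add_neg]
  have hsum : ∀ (N : ℕ) (a : P0), ∃ b : P0, (b : G) = ((a : G) * g) ^ N * (g ^ N)⁻¹ ∧
      (∑ i ∈ Finset.range N, τ g ^ i) (Additive.ofMul (a : P0 ⧸ Φ)) = Additive.ofMul (b : P0 ⧸ Φ) := by
    intro N a
    induction N with
    | zero => exact ⟨1, by simp, by simp⟩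
    | succ N ih =>
      obtain ⟨b, hb, hb'⟩ := ih
      refine ⟨b * c (g ^ N) a, ?_, ?_⟩
      · rw [Subgroup.coe_mul, hc, hb, pow_succ, pow_succ]; group
      · rw [Finset.sum_range_succ, LinearMap.add_apply, hb', ← map_pow, hτ, QuotientGroup.mk_mul, ofMul_mul]
  have hval : ∀ (a : P0) (l : List G), l.length = j → (∀ h ∈ l, h * g⁻¹ ∈ P0) →
      ∃ b : P0, (b : G) = l.foldr (fun h w => h * w * h⁻¹ * w⁻¹) (((a : G) * g) ^ N * (g ^ N)⁻¹) ∧
        ((τ g - 1) ^ j * ∑ i ∈ Finset.range N, τ g ^ i) (Additive.ofMul (a : P0 ⧸ Φ)) = Additive.ofMul (b : P0 ⧸ Φ) := by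
    intro a l hlen hl
    obtain ⟨b, hb, hb'⟩ := hsum N a
    obtain ⟨b', hb2, hb2'⟩ := hlist l b
    refine ⟨b', hb ▸ hb2, ?_⟩
    have hm : (l.map fun h => τ h - 1) = List.replicate j (τ g - 1) := by
      refine List.eq_replicate_iff.mpr ⟨by rw [List.length_map, hlen], fun f hf => ?_⟩
      obtain ⟨h, hh, rfl⟩ := List.mem_map.mp hf
      have h1 : τ (h * g⁻¹) = 1 := MonoidHom.mem_ker.mp (hker.symm ▸ hl h hh : h * g⁻¹ ∈ τ.ker)
      rw [show h = h * g⁻¹ * g from (inv_mul_cancel_right h g).symm, map_mul, h1, one_mul]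
    rw [hm, List.prod_replicate] at hb2'
    rw [Module.End.mul_apply, hb', hb2']
  have hzero : (τ' g - 1) ^ j * ∑ i ∈ Finset.range N, τ' g ^ i = 0 := LinearMap.ext fun x => by
    refine Prod.ext ?_ ?_
    · rw [show ∀ y : W × (Additive (P0 ⧸ Φ) ⧸ W), y.1 = LinearMap.fst (ZMod p) _ _ y from fun _ => rfl,
        intertwine (LinearMap.fst (ZMod p) _ _) (τ' g) (τ₁ g) (fun _ => rfl) j N x]
      refine Subtype.ext ?_
      rw [show ∀ y : W, (y : Additive (P0 ⧸ Φ)) = W.subtype y from fun _ => rfl,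
        intertwine W.subtype (τ₁ g) (τ g) (fun _ => rfl) j N]
      obtain ⟨a, ha, hax⟩ := (hW _).mp (LinearMap.fst (ZMod p) _ _ x).2
      obtain ⟨l, hlen, hl, hfold⟩ := hlow a a.2 ha
      obtain ⟨b, hb, hb'⟩ := hval a l hlen hl
      rw [Submodule.subtype_apply, ← hax, hb', show b = 1 from Subtype.ext (hb.trans hfold)]
      simp
    · rw [show ∀ y : W × (Additive (P0 ⧸ Φ) ⧸ W), y.2 = LinearMap.snd (ZMod p) _ _ y from fun _ => rfl,
        intertwine (LinearMap.snd (ZMod p) _ _) (τ' g) (τ₂ g) (fun _ => rfl) j N x]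
      obtain ⟨y, hy⟩ := W.mkQ_surjective (LinearMap.snd (ZMod p) _ _ x)
      rw [← hy, ← intertwine W.mkQ (τ g) (τ₂ g) (fun _ => rfl) j N]
      obtain ⟨a, ha⟩ := QuotientGroup.mk_surjective (Additive.toMul y)
      obtain ⟨l, hlen, hl, hfold⟩ := htop a a.2
      obtain ⟨b, hb, hb'⟩ := hval a l hlen hl
      rw [show y = Additive.ofMul (a : P0 ⧸ Φ) by rw [ha, ofMul_toMul], hb']
      exact (Submodule.Quotient.mk_eq_zero W).mpr ((hW _).mpr ⟨b, hb ▸ hfold, rfl⟩)
  -- extend the scalars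
  set K := AlgebraicClosure (ZMod p)
  haveI : CharP K p := charP_of_injective_algebraMap (algebraMap (ZMod p) K).injective p
  let β := Module.End.baseChangeHom (ZMod p) K (W × (Additive (P0 ⧸ Φ) ⧸ W))
  let ρ : G →* Module.End K (K ⊗[ZMod p] (W × (Additive (P0 ⧸ Φ) ⧸ W))) := β.toMonoidHom.comp τ'
  have hmk : Function.Injective (TensorProduct.mk (ZMod p) K (W × (Additive (P0 ⧸ Φ) ⧸ W)) 1) :=
    Module.FaithfullyFlat.tensorProduct_mk_injective (W × (Additive (P0 ⧸ Φ) ⧸ W))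
  refine ⟨K, inferInstance, inferInstance, inferInstance, K ⊗[ZMod p] (W × (Additive (P0 ⧸ Φ) ⧸ W)), inferInstance,
    inferInstance, inferInstance, ρ, ?_, fun hne => ?_, ?_⟩
  · refine Eq.trans ?_ hker'
    ext h
    rw [MonoidHom.mem_ker, MonoidHom.mem_ker]
    refine ⟨fun hh => LinearMap.ext fun v => hmk ?_, fun hh => by show β (τ' h) = 1; rw [hh, map_one]⟩
    have := LinearMap.congr_fun hh (1 ⊗ₜ[ZMod p] v)
    exact this
  · haveI : Nontrivial P0 := (Subgroup.nontrivial_iff_ne_bot _).mpr hne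
    haveI : Nontrivial (W × (Additive (P0 ⧸ Φ) ⧸ W)) := by
      by_contra h
      rw [not_nontrivial_iff_subsingleton] at h
      have hsub : ∀ a : P0, (a : P0 ⧸ Φ) = 1 := fun a => by
        have h1 : Additive.ofMul (a : P0 ⧸ Φ) ∈ W := (Submodule.Quotient.mk_eq_zero W).mp
          (congrArg Prod.snd (Subsingleton.elim ((0 : W), W.mkQ (Additive.ofMul (a : P0 ⧸ Φ))) 0))
        exact Additive.ofMul.injective (congrArg (fun y => ((Prod.fst y : W) : Additive (P0 ⧸ Φ)))
          (Subsingleton.elim ((⟨_, h1⟩ : W), (0 : Additive (P0 ⧸ Φ) ⧸ W)) 0))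
      obtain ⟨M, hM, -⟩ := (eq_top_or_exists_le_coatom (⊥ : Subgroup P0)).resolve_left bot_ne_top
      exact hM.1 (top_le_iff.mp (le_trans (fun a _ => (QuotientGroup.eq_one_iff a).mp (hsub a)) (frattini_le_coatom hM)))
    exact hmk.nontrivial
  · have := congrArg β hzero
    rw [map_mul, map_pow, map_sub, map_one, map_sum, map_zero] at this
    rw [show (∑ i ∈ Finset.range N, ρ g ^ i) = ∑ i ∈ Finset.range N, β (τ' g ^ i) from
      Finset.sum_congr rfl fun i _ => (map_pow β (τ' g) i).symm]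
    exact this

/-- A group without `2`-elements of order two has `2`-length zero. -/
theorem pLengthLE_zero_of_expLE {p : ℕ} [Fact p.Prime] {G : Type u} [Group G] [Finite G] (he : ExpLE p 0 G) :
    Cfsg.PLengthLE p 0 G := by
  rw [PSeries.pLengthLE_zero_iff, eq_top_iff]
  refine CfsgLib.le_pPrimeCore ?_
  refine ((Fact.out : p.Prime).coprime_iff_not_dvd.mpr fun hd => ?_).symm
  rw [Subgroup.card_top] at hd
  obtain ⟨g, hg⟩ := exists_prime_orderOf_dvd_card' p hd
  have h1 := he g ⟨1, by rw [pow_one, ← hg, pow_orderOf_eq_one]⟩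
  rw [pow_zero, pow_one] at h1
  rw [h1, orderOf_one] at hg
  exact (Fact.out : p.Prime).one_lt.ne hg

/-- Two steps of the series lose a factor of the exponent. -/
theorem expLE_two_steps_two {H : Type u} [Group H] [Finite H] [Group.IsSolvable H] (hOp : Cfsg.pCore 2 H = ⊥) {e : ℕ}
    (he1 : 1 ≤ e) {K : Type v} [Field K] [IsAlgClosed K] [CharP K 2] {V : Type w} [AddCommGroup V] [Module K V]
    [FiniteDimensional K V] (ρ : H →* Module.End K V) (hρ : Function.Injective ρ) (he : ExpLE 2 (e + 1) H)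
    (hexc : ∀ h : H, (∃ k : ℕ, h ^ 2 ^ k = 1) → (ρ h - 1) ^ (2 ^ (e + 1) - 1) = 0)
    [(Cfsg.pCore 2 (H ⧸ Cfsg.pPrimeCore 2 H)).Normal] :
    ExpLE 2 e ((H ⧸ Cfsg.pPrimeCore 2 H) ⧸ Cfsg.pCore 2 (H ⧸ Cfsg.pPrimeCore 2 H)) := by
  classical
  haveI := Fact.mk Nat.prime_two
  set H₁ := H ⧸ Cfsg.pPrimeCore 2 H
  set π₁ := QuotientGroup.mk' (Cfsg.pPrimeCore 2 H) with hπ₁
  have hπ₁s : Function.Surjective π₁ := QuotientGroup.mk'_surjective _
  set π₂ := QuotientGroup.mk' (Cfsg.pCore 2 H₁) with hπ₂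
  have hπ₂s : Function.Surjective π₂ := QuotientGroup.mk'_surjective _
  have hsol : Cfsg.IsPSolvable 2 H := CfsgLib.PLocal.isPSolvable_of_isSolvable (Nat.card H) H rfl inferInstance
  have hsol₁ : Cfsg.IsPSolvable 2 H₁ := PSolvableClosure.of_surjective π₁ hπ₁s hsol
  have hO₁ : Cfsg.pPrimeCore 2 H₁ = ⊥ := CfsgLib.pPrimeCore_quotient_eq_bot (G := H) 2
  intro x hx
  have hx1 : x ^ 2 ^ (e + 1) = 1 := (he.of_surjective π₁ hπ₁s).of_surjective π₂ hπ₂s x hx
  by_contra hne1
  have hxo : orderOf x = 2 ^ (e + 1) := orderOf_eq_prime_pow hne1 hx1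
  obtain ⟨g₁, rfl, hg₁⟩ := exists_lift Nat.prime_two π₂ hπ₂s hx
  obtain ⟨g, rfl, hg⟩ := exists_lift Nat.prime_two π₁ hπ₁s hg₁
  obtain ⟨k, hk⟩ := hg
  obtain ⟨S, hS⟩ := (IsPGroup.of_card_dvd_pow (n := k) (G := Subgroup.zpowers g) (by
    rw [Nat.card_zpowers]; exact orderOf_dvd_of_pow_eq_one hk)).exists_le_sylow
  have hgS : g ∈ (S : Subgroup H) := hS (Subgroup.mem_zpowers g)
  have hpe : ∀ h ∈ (S : Subgroup H), ∃ i : ℕ, h ^ 2 ^ i = 1 := fun h hh => by
    obtain ⟨i, hi⟩ := S.2 ⟨h, hh⟩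
    exact ⟨i, congrArg Subtype.val hi⟩
  have hP : Small ρ (S : Subgroup H) (e + 1) :=
    ⟨S.2, by omega, fun h hh => he h (hpe h hh), fun h hh => hexc h (hpe h hh)⟩
  haveI : ((derivedCentralizer H).map π₁).Normal := Subgroup.Normal.map inferInstance π₁ hπ₁s
  let K₀ : Subgroup H₁ := Cfsg.pCore 2 H₁ ⊓ (derivedCentralizer H).map π₁
  haveI : K₀.Normal := Subgroup.normal_inf_normal _ _
  have hlift : ∀ v ∈ Cfsg.pCore 2 H₁, ∃ a ∈ (S : Subgroup H), π₁ a = v := fun v hv => by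
    have hv' := CfsgLib.pCore_le_sylow (S.mapSurjective hπ₁s) hv
    rw [Sylow.coe_mapSurjective] at hv'
    exact hv'
  set m := 2 ^ (e - 1) - 1 with hm
  have hfold : ∀ (a w : H), (List.replicate m (π₁ g) ++ [π₁ (a * g)]).foldr (fun h w => h * w * h⁻¹ * w⁻¹) (π₁ w) =
      π₁ ((fun w => ⁅g, w⁆)^[m] ⁅a * g, w⁆) := by
    intro a w
    have hrep : ∀ (i : ℕ) (z : H₁), (List.replicate i (π₁ g)).foldr (fun h w => h * w * h⁻¹ * w⁻¹) z =
        (fun w => π₁ g * w * (π₁ g)⁻¹ * w⁻¹)^[i] z := fun i => by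
      induction i with
      | zero => intro z; rfl
      | succ i ih => intro z; rw [List.replicate_succ, List.foldr_cons, ih, Function.iterate_succ_apply']
    rw [List.foldr_append, List.foldr_cons, List.foldr_nil, hrep,
      Function.Semiconj.iterate_right (f := π₁) (ga := fun w => ⁅g, w⁆) (gb := fun w => π₁ g * w * (π₁ g)⁻¹ * w⁻¹)
        (fun w => by rw [map_commutatorElement, commutatorElement_def]) m, map_commutatorElement, commutatorElement_def]
  have hlen : ∀ a : H, (List.replicate m (π₁ g) ++ [π₁ (a * g)]).length = 2 ^ (e - 1) := fun a => by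
    have := Nat.two_pow_pos (e - 1)
    simp [hm]; omega
  have hmem : ∀ a : H, π₁ a ∈ Cfsg.pCore 2 H₁ →
      ∀ h ∈ List.replicate m (π₁ g) ++ [π₁ (a * g)], h * (π₁ g)⁻¹ ∈ Cfsg.pCore 2 H₁ := fun a ha h hh => by
    rcases List.mem_append.mp hh with hh | hh
    · rw [List.eq_of_mem_replicate hh, mul_inv_cancel]; exact one_mem _
    · rw [List.mem_singleton.mp hh, map_mul, mul_inv_cancel_right]; exact ha
  have htops : ∀ h ∈ (S : Subgroup H), h ^ 2 ^ e ∈ derivedCentralizer H := fun h hh => top_mem_derived hρ hP hh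
  have hiter : ∀ (N : Subgroup H) [N.Normal] (i : ℕ) (w : H), w ∈ N → (fun w => ⁅g, w⁆)^[i] w ∈ N := by
    intro N hN i w hw
    induction i with
    | zero => exact hw
    | succ i ih =>
      rw [Function.iterate_succ_apply', commutatorElement_def]
      exact mul_mem (hN.conj_mem _ ih g) (inv_mem ih)
  obtain ⟨K₁, _, _, _, V₁, _, _, _, ρ₁, hker, hnt, hρ₁⟩ := exists_layer_module hsol₁ hO₁ K₀ (π₁ g) (2 ^ (e - 1)) (2 ^ e)
    (fun v hv => by
      obtain ⟨a, haS, rfl⟩ := hlift v hv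
      refine ⟨_, hlen a, hmem a hv, ?_⟩
      rw [← map_mul, ← map_pow, ← map_pow, ← map_inv, ← map_mul, hfold]
      set d := (a * g) ^ 2 ^ e * (g ^ 2 ^ e)⁻¹ with hd
      have hd0 : π₁ d ∈ Cfsg.pCore 2 H₁ := by
        rw [← QuotientGroup.eq_one_iff]
        show π₂ (π₁ d) = 1
        rw [hd, map_mul, map_mul, map_inv, map_inv, map_pow, map_pow, map_pow, map_pow, map_mul, map_mul,
          show π₂ (π₁ a) = 1 from (QuotientGroup.eq_one_iff _).mpr hv, one_mul, mul_inv_cancel]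
      haveI : ((Cfsg.pCore 2 H₁).comap π₁).Normal := inferInstance
      refine Subgroup.mem_inf.mpr ⟨?_, Subgroup.mem_map_of_mem _ (hiter _ m _ ?_)⟩
      · refine (hiter ((Cfsg.pCore 2 H₁).comap π₁) m _ ?_ : _)
        rw [commutatorElement_def]
        exact mul_mem ((inferInstance : ((Cfsg.pCore 2 H₁).comap π₁).Normal).conj_mem _ hd0 _) (inv_mem hd0)
      · have hdD : d ∈ derivedCentralizer H := mul_mem (htops _ (mul_mem haS hgS)) (inv_mem (htops g hgS))
        rw [commutatorElement_def]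
        exact mul_mem ((inferInstance : (derivedCentralizer H).Normal).conj_mem _ hdD _) (inv_mem hdD))
    (fun v hv hvK => by
      obtain ⟨a, haS, rfl⟩ := hlift v hv
      refine ⟨_, hlen a, hmem a hv, ?_⟩
      have haD : a ∈ derivedCentralizer H := by
        obtain ⟨c, hc, hca⟩ := Subgroup.mem_map.mp (Subgroup.mem_inf.mp hvK).2
        have hM : c⁻¹ * a ∈ Cfsg.pPrimeCore 2 H := QuotientGroup.eq.mp hca
        rw [← QuotientGroup.eq_one_iff]
        obtain ⟨i, hi⟩ := hpe a haS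
        have h1 : ((a : H) : H ⧸ derivedCentralizer H) = ((c⁻¹ * a : H) : H ⧸ derivedCentralizer H) := by
          rw [QuotientGroup.mk_mul, QuotientGroup.mk_inv, (QuotientGroup.eq_one_iff c).mpr hc, inv_one, one_mul]
        refine orderOf_eq_one_iff.mp (Nat.eq_one_of_dvd_coprimes
          (Nat.Coprime.pow_left i (CfsgLib.card_pPrimeCore_coprime (G := H) 2).symm) ?_ ?_)
        · exact orderOf_dvd_of_pow_eq_one (by rw [← QuotientGroup.mk_pow, hi, QuotientGroup.mk_one])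
        · rw [h1]
          exact (orderOf_map_dvd (QuotientGroup.mk' _) _).trans (Subgroup.orderOf_dvd_natCard _ hM)
      rw [← map_mul, ← map_pow, ← map_pow, ← map_inv, ← map_mul, hfold]
      have hcomm := fun h (hh : h ∈ (S : Subgroup H)) h' (hh' : h' ∈ (S : Subgroup H)) =>
        top_commute hρ hOp hP hh hh'
      have hag : a * g ∈ (S : Subgroup H) := mul_mem haS hgS
      have hyS : g ^ 2 ^ e ∈ tops (S : Subgroup H) (e + 1) := top_mem_tops (n := e + 1) hgS
      have hyS' : (a * g) ^ 2 ^ e ∈ tops (S : Subgroup H) (e + 1) := top_mem_tops (n := e + 1) hag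
      have hinv : (g ^ 2 ^ e)⁻¹ = g ^ 2 ^ e := inv_eq_of_mul_eq_one_left (tops_sq (by omega) hP.exp hcomm hyS)
      have hcm : ⁅a * g, (a * g) ^ 2 ^ e * (g ^ 2 ^ e)⁻¹⁆ = ⁅a * g, g ^ 2 ^ e⁆ := by
        rw [hinv]
        have h1 : ⁅a * g, g ^ 2 ^ e⁆ ∈ tops (S : Subgroup H) (e + 1) := by
          rw [commutatorElement_def]
          exact mul_mem (conj_mem_tops hag hyS) (inv_mem hyS)
        calc ⁅a * g, (a * g) ^ 2 ^ e * g ^ 2 ^ e⁆
            = (a * g) ^ 2 ^ e * ⁅a * g, g ^ 2 ^ e⁆ * ((a * g) ^ 2 ^ e)⁻¹ := by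
              have key : ∀ b X Y : H, Commute b X → ⁅b, X * Y⁆ = X * ⁅b, Y⁆ * X⁻¹ := fun b X Y h => by
                simp only [commutatorElement_def, ← mul_assoc, h.eq]; group
              exact key _ _ _ (Commute.self_pow _ _)
          _ = _ := by rw [(tops_comm hcomm hyS' h1).eq, mul_inv_cancel_right]
      rw [hcm]
      have h2 := nested_tops hρ hOp hP hgS hag (by rwa [mul_inv_cancel_right])
      rw [show e + 1 - 2 = e - 1 by omega, Nat.add_sub_cancel] at h2
      rw [hm, h2, map_one])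
  obtain ⟨ρ', hinj, hρ'⟩ := exists_quotient_action ρ₁ hker
  haveI : Nontrivial V₁ := hnt fun h => by
    haveI := pCore_ne_bot hsol₁ hO₁ h
    exact hne1 (by rw [show π₁ g = 1 from Subsingleton.elim _ _, map_one, one_pow])
  haveI : CharP (Module.End K₁ V₁) 2 := charP_of_injective_algebraMap (algebraMap K₁ (Module.End K₁ V₁)).injective 2
  rw [geom_sum_eq_pow (K := K₁), ← pow_add, ← hρ'] at hρ₁
  have hp0 := Nat.two_pow_pos (e - 1)
  have h2e : 2 ^ e = 2 * 2 ^ (e - 1) := by rw [← pow_succ', Nat.sub_add_cancel he1]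
  rcases theorem_b (PSolvableClosure.of_surjective π₂ hπ₂s hsol₁) (pCore_quotient_pCore H₁ 2) ρ' hinj hxo _ hρ₁ with
    h' | ⟨n₀, q, i, h1, h2, hq, hi, heq, -, h3⟩
  · rw [pow_succ] at h'
    omega
  · have hn₀ : 2 ≤ n₀ := by
      by_contra hlt
      obtain rfl : n₀ = 1 := by omega
      have h5 : 1 < q ^ i := Nat.one_lt_pow (by omega) hq.one_lt
      omega
    have h4 : 2 ^ (e + 1 - n₀) * 2 ^ n₀ = 2 ^ e * 2 := by
      rw [← pow_add, Nat.sub_add_cancel h2, pow_succ]
    rw [Nat.mul_sub, mul_one, h4] at h3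
    have h6 : 2 ^ (e + 1 - n₀) ≤ 2 ^ (e - 1) := Nat.pow_le_pow_right two_pos (by omega)
    omega

/-- Gross' bound on the `2`-length. -/
theorem pLengthLE_gross : ∀ (e : ℕ) {G : Type u} [Group G] [Finite G] [Group.IsSolvable G],
    ExpLE 2 (e + 1) G → Cfsg.PLengthLE 2 (2 * e + 1) G := by
  haveI := Fact.mk Nat.prime_two
  intro e
  induction e with
  | zero =>
    intro G _ _ _ he
    classical
    set π₀ := QuotientGroup.mk' (Cfsg.pPrimeCore 2 G)
    refine PSeries.pLengthLE_of_pPrime_kernel π₀ (by rw [QuotientGroup.ker_mk']; exact CfsgLib.card_pPrimeCore_coprime 2) ?_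
    set G₁ := G ⧸ Cfsg.pPrimeCore 2 G
    have hO₁ : Cfsg.pPrimeCore 2 G₁ = ⊥ := CfsgLib.pPrimeCore_quotient_eq_bot (G := G) 2
    have he₁ : ExpLE 2 1 G₁ := he.of_surjective π₀ (QuotientGroup.mk'_surjective _)
    haveI := Blocks.pCore_normal' (G := G₁) (p := 2)
    refine PSeries.pLengthLE_of_pGroup_kernel (QuotientGroup.mk' (Cfsg.pCore 2 G₁))
      (by rw [QuotientGroup.ker_mk']; exact CfsgLib.isPGroup_pCore 2) (pLengthLE_zero_of_expLE fun x hx => ?_)
    obtain ⟨g, rfl, k, hk⟩ := exists_lift Nat.prime_two _ (QuotientGroup.mk'_surjective (Cfsg.pCore 2 G₁)) hx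
    rw [pow_zero, pow_one, QuotientGroup.mk'_apply, QuotientGroup.eq_one_iff]
    refine centralizer_pCore_le Nat.prime_two hO₁ (Subgroup.mem_centralizer_iff.mpr fun a ha => ?_)
    obtain ⟨S, hS⟩ := (IsPGroup.of_card_dvd_pow (n := k) (G := Subgroup.zpowers g) (by
      rw [Nat.card_zpowers]; exact orderOf_dvd_of_pow_eq_one hk)).exists_le_sylow
    have hsq : ∀ s ∈ (S : Subgroup G₁), s⁻¹ = s := fun s hs => by
      obtain ⟨i, hi⟩ := S.2 ⟨s, hs⟩
      have h1 := he₁ s ⟨i, congrArg Subtype.val hi⟩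
      rw [pow_one, pow_two] at h1
      exact inv_eq_of_mul_eq_one_left h1
    have haS := CfsgLib.pCore_le_sylow S ha
    have hgS := hS (Subgroup.mem_zpowers g)
    calc a * g = (a * g)⁻¹ := (hsq _ (mul_mem haS hgS)).symm
      _ = g * a := by rw [mul_inv_rev, hsq a haS, hsq g hgS]
  | succ e ih =>
    intro G _ _ _ he
    classical
    set π₀ := QuotientGroup.mk' (Cfsg.pPrimeCore 2 G)
    refine PSeries.pLengthLE_of_pPrime_kernel π₀ (by rw [QuotientGroup.ker_mk']; exact CfsgLib.card_pPrimeCore_coprime 2) ?_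
    set G₁ := G ⧸ Cfsg.pPrimeCore 2 G
    have hsol₁ : Cfsg.IsPSolvable 2 G₁ := CfsgLib.PLocal.isPSolvable_of_isSolvable (Nat.card G₁) G₁ rfl inferInstance
    have hO₁ : Cfsg.pPrimeCore 2 G₁ = ⊥ := CfsgLib.pPrimeCore_quotient_eq_bot (G := G) 2
    have he₁ : ExpLE 2 (e + 1 + 1) G₁ := he.of_surjective π₀ (QuotientGroup.mk'_surjective _)
    haveI := Blocks.pCore_normal' (G := G₁) (p := 2)
    set π₁ := QuotientGroup.mk' (Cfsg.pCore 2 G₁) with hπ₁
    rw [show 2 * (e + 1) + 1 = 2 * e + 1 + 1 + 1 by ring]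
    refine PSeries.pLengthLE_of_pGroup_kernel π₁ (by rw [QuotientGroup.ker_mk']; exact CfsgLib.isPGroup_pCore 2) ?_
    set H := G₁ ⧸ Cfsg.pCore 2 G₁
    refine PSeries.pLengthLE_of_pPrime_kernel (QuotientGroup.mk' (Cfsg.pPrimeCore 2 H))
      (by rw [QuotientGroup.ker_mk']; exact CfsgLib.card_pPrimeCore_coprime 2) ?_
    haveI := Blocks.pCore_normal' (G := H ⧸ Cfsg.pPrimeCore 2 H) (p := 2)
    refine PSeries.pLengthLE_of_pGroup_kernel (QuotientGroup.mk' (Cfsg.pCore 2 (H ⧸ Cfsg.pPrimeCore 2 H)))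
      (by rw [QuotientGroup.ker_mk']; exact CfsgLib.isPGroup_pCore 2) ?_
    refine ih ?_
    obtain ⟨K, _, _, _, V, _, _, _, ρ, hker, -, hρ⟩ := exists_module hsol₁ hO₁
    obtain ⟨ρ', hinj, hρ'⟩ := exists_quotient_action ρ hker
    refine expLE_two_steps_two (pCore_quotient_pCore G₁ 2) (by omega) ρ' hinj
      (he₁.of_surjective π₁ (QuotientGroup.mk'_surjective _)) fun h hh => ?_
    obtain ⟨g, rfl, hg⟩ := exists_lift Nat.prime_two π₁ (QuotientGroup.mk'_surjective _) hh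
    rw [hπ₁, QuotientGroup.mk'_apply, hρ']
    exact top_exceptional hsol₁ he₁ hg ρ hρ

end CfsgLib.HallHigmanB
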