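import Cfsg.Agent.Lib.HallHigmanB.TwoQuarter

/-!
Pairs of quarter turns and involutions differing by an element, in a `2`-group of automorphisms of an abelian
group of odd order preserving a nondegenerate alternating pairing.
-/

set_option autoImplicit false
set_option maxHeartbeats 1000000
set_option linter.unusedSectionVars false

namespace CfsgLib.HallHigmanB.Quarter

open Displacement

universe u v

variable {E : Type u} [CommGroup E] [Finite E]

/-- A nondegenerate alternating pairing with values in a group without involutions. -/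
structure AltPair (E : Type u) [CommGroup E] (M : Type v) [CommGroup M] where
  val : E → E → M
  mul_right : ∀ x y z, val x (y * z) = val x y * val x z
  alt : ∀ x, val x x = 1
  swap : ∀ x y, val y x = (val x y)⁻¹
  nondeg : ∀ x, (∀ y, val x y = 1) → x = 1
  no_invol : ∀ c : M, c * c = 1 → c = 1

/-- An automorphism preserving a pairing. -/
def Preserves {M : Type v} [CommGroup M] (B : AltPair E M) (f : MulAut E) : Prop :=
  ∀ x y, B.val (f x) (f y) = B.val x y

variable {M : Type v} [CommGroup M] {B : AltPair E M}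

theorem orth_of_preserves {f : MulAut E} (hf : Preserves B f) {x y : E} (hx : f x = x) (hy : f y = y⁻¹) :
    B.val x y = 1 := by
  have h1 := hf x y
  rw [hx, hy] at h1
  have h2 : B.val x y⁻¹ * B.val x y = 1 := by
    rw [← B.mul_right, inv_mul_cancel]
    have h := B.mul_right x 1 1
    rw [mul_one] at h
    exact (mul_eq_left.mp h.symm)
  rw [h1] at h2
  exact B.no_invol _ h2

variable {q : ℕ} [hq : Fact q.Prime]

/-- An involution preserving the pairing and the plane acts on the plane as a scalar. -/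
theorem scalar_on_plane (hodd : Odd (Nat.card E)) {s f : MulAut E} (hs : IsPlane q s) (hsB : Preserves B s)
    (hf : f * f = 1) (hfB : Preserves B f) (hc : Commute f s) :
    (∀ x ∈ plane s, f x = x) ∨ ∀ x ∈ plane s, f x = x⁻¹ := by
  by_contra hcon
  push Not at hcon
  obtain ⟨⟨y₀, hy₀, hy₀'⟩, x₀, hx₀, hx₀'⟩ := hcon
  -- a fixed and a moved vector of the plane
  set x := x₀ * f x₀ with hx
  set y := f y₀ / y₀ with hy
  have hxs : x ∈ plane s := mul_mem hx₀ (plane_invariant hc hx₀)
  have hys : y ∈ plane s := div_mem (plane_invariant hc hy₀) hy₀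
  have hfx : f x = x := by rw [hx, map_mul, invol hf, mul_comm]
  have hfy : f y = y⁻¹ := apply_plane hf (disp_mem_plane f y₀)
  have hx1 : x ≠ 1 := fun h => hx₀' (eq_inv_of_mul_eq_one_right h)
  have hy1 : y ≠ 1 := fun h => hy₀' (div_eq_one.mp h)
  let P₁ : Subgroup E :=
    { carrier := {e | e ∈ plane s ∧ f e = e}
      one_mem' := ⟨one_mem _, map_one f⟩
      mul_mem' := fun {a b} ha hb => ⟨mul_mem ha.1 hb.1, by rw [map_mul, ha.2, hb.2]⟩
      inv_mem' := fun {a} ha => ⟨inv_mem ha.1, by rw [map_inv, ha.2]⟩ }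
  have hP₁ : P₁ ≤ plane s := fun e he => he.1
  have hcyc : IsCyclic P₁ := by
    obtain ⟨i, hi, hci⟩ := (Nat.dvd_prime_pow hq.out).mp (hs.2 ▸ Subgroup.card_dvd_of_le hP₁)
    have hi2 : i ≠ 2 := fun h => hy₀' (by
      have h1 := Subgroup.eq_of_le_of_card_ge hP₁ (by rw [hci, h, hs.2])
      exact ((h1.symm ▸ hy₀ : y₀ ∈ P₁)).2)
    rcases (show i = 0 ∨ i = 1 by omega) with rfl | rfl
    · haveI : Subsingleton P₁ := (Nat.card_eq_one_iff_unique.mp (by rw [hci, pow_zero])).1
      exact isCyclic_of_subsingleton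
    · exact isCyclic_of_prime_card (p := q) (by rw [hci, pow_one])
  obtain ⟨⟨g, hg⟩, hgen⟩ := IsCyclic.exists_generator (α := P₁)
  have hrm : ∀ a : E, B.val a 1 = 1 := fun a => by
    have h := B.mul_right a 1 1
    rw [mul_one] at h
    exact mul_eq_left.mp h.symm
  let hom : E → E →* M := fun a => MonoidHom.mk' (B.val a) (B.mul_right a)
  have hgx : B.val x g = 1 := by
    obtain ⟨k, hk⟩ := Subgroup.mem_zpowers_iff.mp (hgen ⟨x, hxs, hfx⟩)
    have hk' : g ^ k = x := congrArg Subtype.val hk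
    rw [← hk', B.swap g]
    have h1 : hom g (g ^ k) = hom g g ^ k := map_zpow _ _ _
    have h2 : hom g g = 1 := B.alt g
    rw [h2, one_zpow] at h1
    rw [show B.val g (g ^ k) = 1 from h1, inv_one]
  have hP₁x : ∀ e ∈ P₁, B.val x e = 1 := fun e he => by
    obtain ⟨k, hk⟩ := Subgroup.mem_zpowers_iff.mp (hgen ⟨e, he⟩)
    have hk' : g ^ k = e := congrArg Subtype.val hk
    rw [← hk', show B.val x (g ^ k) = hom x (g ^ k) from rfl, map_zpow, show hom x g = 1 from hgx, one_zpow]
  refine hx1 (B.nondeg x fun w => ?_)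
  obtain ⟨c, b, hcs, hb, rfl⟩ := exists_decomp hodd hs.1 w
  rw [B.mul_right]
  have h1 : B.val x c = 1 := by
    rw [B.swap c, orth_of_preserves hsB hcs (apply_plane hs.1 hxs), inv_one]
  obtain ⟨d, e, hd, he, hde⟩ := exists_decomp hodd hf b
  have hds : d * d ∈ plane s := by
    have h : d * d = b * f b := by
      rw [hde, map_mul, hd, apply_plane hf he, mul_mul_mul_comm, mul_inv_cancel, mul_one]
    rw [h]
    exact mul_mem hb (plane_invariant hc hb)
  have h2 : B.val x d = 1 := B.no_invol _ (by rw [← B.mul_right]; exact hP₁x _ ⟨hds, by rw [map_mul, hd]⟩)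
  rw [h1, hde, B.mul_right, h2, orth_of_preserves hfB hfx (apply_plane hf he), one_mul, one_mul]

/-- An involution preserving the pairing commutes with a quarter turn when it commutes with its square. -/
theorem commute_of_invol (hodd : Odd (Nat.card E)) {σ f : MulAut E} (h : IsQuarter q σ) (hsB : Preserves B (σ * σ))
    (hf : f * f = 1) (hfB : Preserves B f) (hc : Commute f (σ * σ)) : Commute σ f := by
  refine ext_decomp hodd h.isPlane.1 (fun e he => ?_) fun e he => ?_
  · rw [MulAut.mul_apply, MulAut.mul_apply, h.fix e he, h.fix (f e) (by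
      show ((σ * σ) * f) e = f e
      rw [← hc.eq, MulAut.mul_apply, he])]
  · rw [MulAut.mul_apply, MulAut.mul_apply]
    have hσe := plane_invariant h.comm he
    rcases scalar_on_plane hodd h.isPlane hsB hf hfB hc with h1 | h1
    · rw [h1 e he, h1 _ hσe]
    · rw [h1 e he, h1 _ hσe, map_inv]

/-- Quarter turns with independent planes commute. -/
theorem commute_of_indep (hodd : Odd (Nat.card E)) {σ τ : MulAut E} (hσ : IsQuarter q σ) (hτ : IsQuarter q τ)
    (hc : Commute τ (σ * σ)) (hfix : ∀ e ∈ plane (σ * σ), (τ * τ) e = e) : Commute σ τ := by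
  refine ext_decomp hodd hσ.isPlane.1 (fun e he => ?_) fun e he => ?_
  · rw [MulAut.mul_apply, MulAut.mul_apply, hσ.fix e he, hσ.fix (τ e) (by
      show ((σ * σ) * τ) e = τ e
      rw [← hc.eq, MulAut.mul_apply, he])]
  · rw [MulAut.mul_apply, MulAut.mul_apply, hτ.fix e (hfix e he),
      hτ.fix (σ e) (hfix _ (plane_invariant hσ.comm he))]

variable {P : Type u} [Group P] [Finite P] (φ : P →* MulAut E)

/-- Either the square acts trivially or the element is a quarter turn. -/
def Mild (q : ℕ) (b : P) : Prop := φ b * φ b = 1 ∨ IsQuarter q (φ b)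

/-- The square of a quarter turn commutes with the elements of an abelian group it normalises. -/
theorem commute_of_abelian (hP : IsPGroup 2 P) (hodd : Odd (Nat.card E)) (hq4 : q % 4 = 3) {a u : P}
    (ha : IsQuarter q (φ a)) (hu : Commute (φ (a * u * a⁻¹ * u⁻¹)) (φ u)) :
    Commute (φ a * φ a) (φ u) := by
  set σ := φ a with hσ
  set η := φ u with hη
  set τ := η * σ * η⁻¹ with hτdef
  have hτ : IsQuarter q τ := ha.conj η
  have hτu : φ (u * a * u⁻¹) = τ := by rw [map_mul, map_mul, map_inv]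
  have hc : Commute σ (τ * τ) := by
    rw [← hτu]
    exact commute_quarter hP hodd hq4 φ (hτu.symm ▸ hτ) ha
  rcases ha.apart hτ.isPlane hodd hq4 hc with heq | ⟨-, hfix, hfix'⟩
  · rw [show τ * τ = η * (σ * σ) * η⁻¹ by rw [hτdef]; group, eq_mul_inv_iff_mul_eq] at heq
    exact heq
  exfalso
  obtain ⟨x, hx, hx1⟩ := (Subgroup.bot_or_exists_ne_one (plane (σ * σ))).resolve_left ha.isPlane.ne_bot
  set w := σ * η * σ⁻¹ * η⁻¹ with hw
  have hcw : Commute w η := by
    have := hu
    rwa [map_mul, map_mul, map_mul, map_inv, map_inv, ← hσ, ← hη, ← hw] at this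
  have hwτ : w = σ * τ⁻¹ := by rw [hw, hτdef]; group
  have hτx : τ⁻¹ x = x := τ.injective (by rw [MulAut.apply_inv_self, hτ.fix x (hfix x hx)])
  have hηB : ∀ z, z ∈ plane (σ * σ) → η z ∈ plane (τ * τ) := fun z hz => by
    rw [show τ * τ = η * (σ * σ) * η⁻¹ by rw [hτdef]; group, plane_conj]
    exact ⟨z, hz, rfl⟩
  have h1 := DFunLike.congr_fun hcw.eq x
  rw [hwτ] at h1
  simp only [MulAut.mul_apply] at h1
  rw [hτx] at h1
  have hσ' : σ⁻¹ x ∈ plane (σ * σ) := plane_invariant ((ha.comm).inv_left) hx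
  rw [show τ⁻¹ (η x) = η (σ⁻¹ x) by rw [hτdef]; simp [mul_inv_rev, MulAut.mul_apply],
    ha.fix _ (hfix' _ (hηB _ hσ'))] at h1
  have h2 : (σ * σ) x = x := by
    rw [MulAut.mul_apply, ← η.injective h1, MulAut.apply_inv_self]
  exact hx1 (plane_inf_fixed hodd ha.isPlane.1 hx h2)

/-- A mild translate of a quarter turn by an element commuting with its square. -/
theorem square_quotient (hP : IsPGroup 2 P) (hodd : Odd (Nat.card E)) (hq4 : q % 4 = 3)
    (hpres : ∀ g, Preserves B (φ g)) {a c : P}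
    (ha : IsQuarter q (φ a)) (hb : Mild φ q (c * a)) (hc : Commute (φ a * φ a) (φ c)) :
    φ (c * a * (c * a) * (a * a)⁻¹) = 1 ∨ φ (c * a * (c * a) * (a * a)⁻¹) = φ (c * c) := by
  have hsB : Preserves B (φ a * φ a) := by rw [← map_mul]; exact hpres _
  have hcs : Commute (φ (c * a)) (φ a * φ a) := by
    rw [map_mul]; exact (hc.symm).mul_left ha.comm
  have fin : Commute (φ a) (φ (c * a)) → φ (c * a * (c * a) * (a * a)⁻¹) = φ (c * c) := fun h => by
    have hφc : φ c = φ (c * a) * (φ a)⁻¹ := by rw [map_mul, mul_inv_cancel_right]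
    have h' : Commute (φ a)⁻¹ (φ (c * a)) := h.inv_left
    rw [map_mul φ c c, hφc, map_mul φ (c * a * (c * a)), map_mul φ (c * a) (c * a), map_inv, map_mul φ a a]
    generalize φ (c * a) = β at h' ⊢
    generalize φ a = α at h' ⊢
    calc β * β * (α * α)⁻¹ = β * (β * α⁻¹) * α⁻¹ := by group
      _ = β * (α⁻¹ * β) * α⁻¹ := by rw [h'.eq]
      _ = β * α⁻¹ * (β * α⁻¹) := by group
  rcases hb with hb | hb
  · exact Or.inr (fin (commute_of_invol hodd ha hsB hb (hpres _) hcs))
  have hcq : Commute (φ a) (φ (c * a) * φ (c * a)) := commute_quarter hP hodd hq4 φ hb ha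
  rcases ha.apart hb.isPlane hodd hq4 hcq with heq | ⟨-, hfix, -⟩
  · left
    rw [map_mul, map_mul φ (c * a) (c * a), map_inv, map_mul φ a a, ← heq, mul_inv_cancel]
  · exact Or.inr (fin (commute_of_indep hodd ha hb hcs hfix))

/-- A translate of a quarter turn cannot move its plane. -/
theorem commute_of_cube (hP : IsPGroup 2 P) (hodd : Odd (Nat.card E)) (hq4 : q % 4 = 3)
    (hpres : ∀ g, Preserves B (φ g)) {a c e : P}
    (ha : IsQuarter q (φ a)) (hb : Mild φ q (c * a)) (hb' : Mild φ q (c * c * c * e * a))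
    (he : φ e * φ e = 1) (hce : Commute (φ c) (φ e)) (hes : Commute (φ a * φ a) (φ e))
    (hqs : Commute (φ a * φ a) (φ (c * c))) :
    Commute (φ a * φ a) (φ c) := by
  by_contra hcon
  have hsB : Preserves B (φ a * φ a) := by rw [← map_mul]; exact hpres _
  have key : ∀ b : P, Mild φ q b → Commute (φ a * φ a) (φ b) ∨ φ b * φ b = 1 := fun b h => by
    rcases h with h | h
    · exact Or.inr h
    · exact Or.inl (commute_quarter hP hodd hq4 φ ha h).symm
  have hbne : ¬ Commute (φ a * φ a) (φ (c * a)) := fun h => hcon (by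
    have := h.mul_right (ha.comm.symm.inv_right)
    rwa [map_mul, mul_inv_cancel_right] at this)
  have hb1 : φ (c * a) * φ (c * a) = 1 := (key _ hb).resolve_left hbne
  have hb'1 : φ (c * c * c * e * a) * φ (c * c * c * e * a) = 1 := by
    refine (key _ hb').resolve_left fun h => hcon ?_
    rw [map_mul, map_mul, map_mul, mul_assoc] at h
    have h1 := h.mul_right (((hes.mul_right ha.comm.symm).inv_right))
    rw [mul_inv_cancel_right] at h1
    have h2 := (hqs.inv_right).mul_right h1
    rwa [map_mul, inv_mul_cancel_left] at h2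
  set α := φ a with hα
  set γ := φ c with hγ
  set ε := φ e with hε
  obtain ⟨β, hβ⟩ : ∃ β, β = γ * α := ⟨_, rfl⟩
  have hββ : β * β = 1 := by rw [hβ, ← map_mul]; exact hb1
  have hβi : β⁻¹ = β := inv_eq_of_mul_eq_one_left hββ
  obtain ⟨τ, hτdef⟩ : ∃ τ, τ = β * α * β⁻¹ := ⟨_, rfl⟩
  have hτ : IsQuarter q τ := hτdef ▸ ha.conj β
  have hτu : φ (c * a * a * (c * a)⁻¹) = τ := by rw [hτdef, hβ, map_mul, map_mul, map_inv, map_mul]
  have hc1 : Commute α (τ * τ) := by
    rw [← hτu]; exact commute_quarter hP hodd hq4 φ (hτu.symm ▸ hτ) ha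
  obtain ⟨-, hfix, -⟩ := (ha.apart hτ.isPlane hodd hq4 hc1).resolve_left fun heq => by
    rw [show τ * τ = β * (α * α) * β⁻¹ by rw [hτdef]; group, eq_mul_inv_iff_mul_eq] at heq
    exact hbne (by rw [map_mul, ← hβ]; exact heq)
  have hτa : Commute α τ := commute_of_indep hodd ha hτ
    (by rw [← hτu]; exact commute_quarter hP hodd hq4 φ ha (hτu.symm ▸ hτ)) hfix
  have hcc : γ * γ = τ⁻¹ * α⁻¹ := by
    have hγ' : γ = β * α⁻¹ := by rw [hβ, mul_inv_cancel_right]
    rw [hγ', hτdef, mul_inv_rev, mul_inv_rev, inv_inv, hβi]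
    simp only [mul_assoc]
  have hεα : Commute α ε := commute_of_invol hodd ha hsB he (hpres e) hes.symm
  have hεβ : Commute β ε := hβ ▸ Commute.mul_left hce hεα
  have hεg : Commute (γ * γ) ε := hce.mul_left hce
  have hβg : β * (γ * γ) * β = α⁻¹ * τ⁻¹ := by
    rw [hcc, hτdef, mul_inv_rev, mul_inv_rev, inv_inv, hβi]
    calc β * (β * (α⁻¹ * β) * α⁻¹) * β = β * β * α⁻¹ * (β * α⁻¹ * β) := by group
      _ = α⁻¹ * (β * (α⁻¹ * β)) := by rw [hββ, one_mul]; group
  rw [← (hτa.inv_inv).symm.eq, ← hcc] at hβg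
  -- the square of the cube translate
  have h4 : (γ * γ) * (γ * γ) = 1 := by
    have h1 : φ (c * c * c * e * a) = γ * γ * ε * β := by
      rw [map_mul, map_mul, map_mul, map_mul, hβ]
      calc γ * γ * γ * ε * α = γ * γ * (γ * ε) * α := by group
        _ = γ * γ * ε * (γ * α) := by rw [hce.eq]; group
    rw [h1] at hb'1
    generalize γ * γ = δ at hb'1 hεg hβg ⊢
    calc δ * δ = δ * (β * δ * β) := by rw [hβg]
      _ = δ * (β * δ * β) * (ε * ε) := by rw [he, mul_one]
      _ = δ * ε * β * (δ * ε * β) := by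
        have e2 : Commute (β * δ * β) ε := by rw [hβg]; exact hεg
        calc δ * (β * δ * β) * (ε * ε) = δ * ((β * δ * β) * ε) * ε := by group
          _ = δ * ε * β * δ * (β * ε) := by rw [e2.eq]; group
          _ = δ * ε * β * (δ * (ε * β)) := by rw [hεβ.eq]; group
          _ = _ := by group
      _ = 1 := hb'1
  rw [hcc, (hτa.inv_inv).mul_mul_mul_comm, ← mul_inv_rev, ← mul_inv_rev, ← mul_inv_rev, inv_eq_one,
    mul_eq_one_iff_eq_inv] at h4
  have heq : α * α = τ * τ := h4.trans (inv_eq_of_mul_eq_one_left hτ.isPlane.1)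
  obtain ⟨x, hx, hx1⟩ := (Subgroup.bot_or_exists_ne_one (plane (α * α))).resolve_left ha.isPlane.ne_bot
  exact hx1 (plane_inf_fixed hodd ha.isPlane.1 hx (by rw [heq]; exact hfix x hx))

end CfsgLib.HallHigmanB.Quarter
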