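import Cfsg.Agent.Lib.HallHigmanB.TwoTops
import Cfsg.Agent.Lib.HallHigmanB.TwoSharpLocal

/-!
Top powers of exceptional elements against normalised subgroups centralising the derived groups: they centralise
the abelian ones, and their quotients centralise those of class two with elementary derived group.
-/

set_option autoImplicit false
set_option maxHeartbeats 1000000
set_option linter.unusedSectionVars false

namespace CfsgLib.HallHigmanB

open Module
open scoped commutatorElement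

universe u v w

variable {G : Type u} [Group G] [Finite G] {K : Type v} [Field K] [IsAlgClosed K]
  {V : Type w} [AddCommGroup V] [Module K V] [FiniteDimensional K V]

theorem units_sq_injective [CharP K 2] (c : Kˣ) (hc : c * c = 1) : c = 1 := by
  refine Units.ext ?_
  haveI := Fact.mk Nat.prime_two
  have h1 : ((c : K) - 1) ^ 2 = 0 := by
    rw [sub_pow_char, one_pow, pow_two, ← Units.val_mul, hc, Units.val_one, sub_self]
  rw [Units.val_one]
  exact sub_eq_zero.mp ((pow_eq_zero_iff two_ne_zero).mp h1)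

section classTwo

variable {q : ℕ} {P T D : Subgroup G} (C : ClassTwo q P T D) (χ : D →* Kˣ)

include C

theorem pair_out {t w : T} :
    pair χ (((t : T ⧸ (rad χ C.com C.cen).subgroupOf T).out : T) : G)
      (((w : T ⧸ (rad χ C.com C.cen).subgroupOf T).out : T) : G) = pair χ (t : G) (w : G) := by
  obtain ⟨r, hr⟩ := QuotientGroup.mk_out_eq_mul ((rad χ C.com C.cen).subgroupOf T) t
  obtain ⟨s, hs⟩ := QuotientGroup.mk_out_eq_mul ((rad χ C.com C.cen).subgroupOf T) w
  have hr' := (Subgroup.mem_subgroupOf.mp r.2).2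
  have hs' := (Subgroup.mem_subgroupOf.mp s.2).2
  rw [hr, hs, Subgroup.coe_mul, Subgroup.coe_mul,
    pair_mul_left C.com C.cen t.2 (r : T).2 (mul_mem w.2 (s : T).2),
    hr' _ (mul_mem w.2 (s : T).2), mul_one, pair_mul_right C.com C.cen w.2 (s : T).2 t.2,
    pair_swap C.com (s : T).2 t.2, hs' _ t.2, inv_one, mul_one]

/-- The pairing on the quotient by the radical. -/
noncomputable def pairing [CharP K 2] : Quarter.AltPair (T ⧸ (rad χ C.com C.cen).subgroupOf T) Kˣ where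
  val x y := pair χ ((x.out : T) : G) ((y.out : T) : G)
  mul_right x y z := by
    obtain ⟨t, rfl⟩ := QuotientGroup.mk_surjective x
    obtain ⟨a, rfl⟩ := QuotientGroup.mk_surjective y
    obtain ⟨b, rfl⟩ := QuotientGroup.mk_surjective z
    rw [← QuotientGroup.mk_mul, pair_out C χ, pair_out C χ, pair_out C χ, Subgroup.coe_mul,
      pair_mul_right C.com C.cen a.2 b.2 t.2]
  alt x := by
    have h : ⁅((x.out : T) : G), ((x.out : T) : G)⁆ = 1 := commutatorElement_self _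
    rw [pair_eq (h ▸ one_mem D)]
    exact (congrArg χ (Subtype.ext h)).trans (map_one χ)
  swap x y := pair_swap C.com x.out.2 y.out.2
  nondeg x h := by
    obtain ⟨t, rfl⟩ := QuotientGroup.mk_surjective x
    refine (QuotientGroup.eq_one_iff t).mpr (Subgroup.mem_subgroupOf.mpr ⟨t.2, fun w hw => ?_⟩)
    have h1 := h ((⟨w, hw⟩ : T) : T ⧸ (rad χ C.com C.cen).subgroupOf T)
    rwa [pair_out C χ] at h1
  no_invol := units_sq_injective

theorem act_preserves [CharP K 2] (g : stab P χ) : Quarter.Preserves (pairing C χ) (act C χ g) := by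
  intro x y
  obtain ⟨t, rfl⟩ := QuotientGroup.mk_surjective x
  obtain ⟨w, rfl⟩ := QuotientGroup.mk_surjective y
  have hgt : ∀ a ∈ T, (g : G) * a * (g : G)⁻¹ ∈ T := fun a ha =>
    (Subgroup.mem_normalizer_iff.mp (stab_normT C χ g.2) a).mp ha
  show pair χ _ _ = pair χ _ _
  rw [show act C χ g (t : T ⧸ (rad χ C.com C.cen).subgroupOf T) =
      ((⟨(g : G) * t * (g : G)⁻¹, hgt t t.2⟩ : T) : T ⧸ (rad χ C.com C.cen).subgroupOf T) from rfl,
    show act C χ g (w : T ⧸ (rad χ C.com C.cen).subgroupOf T) =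
      ((⟨(g : G) * w * (g : G)⁻¹, hgt w w.2⟩ : T) : T ⧸ (rad χ C.com C.cen).subgroupOf T) from rfl,
    pair_out C χ, pair_out C χ, pair_eq (C.com _ (hgt t t.2) _ (hgt w w.2)), pair_eq (C.com _ t.2 _ w.2)]
  refine (Subgroup.mem_inf.mp g.2).2.2 ⟨_, C.com _ t.2 _ w.2⟩ ⟨_, C.com _ (hgt t t.2) _ (hgt w w.2)⟩ ?_
  show (g : G) * ⁅(t : G), (w : G)⁆ * (g : G)⁻¹ = ⁅(g : G) * t * (g : G)⁻¹, (g : G) * w * (g : G)⁻¹⁆
  simp only [commutatorElement_def]; group

variable [Fact q.Prime] [CharP K 2] {ρ : G →* Module.End K V} (hρ : Function.Injective ρ) (hpq : 2 ≠ q) {n : ℕ}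
  (hP : Small ρ P n) (hχ : wspace ρ D χ ⊤ ≠ ⊥)

include hρ hpq hP hχ

omit hρ hpq hχ in
theorem sq_pow {g : G} (hg : g ^ 2 ^ (n - 2) ∈ stab P χ) (hg' : g ^ 2 ^ (n - 1) ∈ stab P χ) :
    (⟨_, hg'⟩ : stab P χ) = ⟨_, hg⟩ * ⟨_, hg⟩ := Subtype.ext (by
  show g ^ 2 ^ (n - 1) = g ^ 2 ^ (n - 2) * g ^ 2 ^ (n - 2)
  rw [← pow_add, ← two_mul, ← pow_succ', show n - 2 + 1 = n - 1 by have := hP.two_le; omega])

theorem mild {h : G} (hh : h ∈ P) (ha : h ^ 2 ^ (n - 2) ∈ stab P χ) :
    Quarter.Mild (act C χ) q (⟨_, ha⟩ : stab P χ) := by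
  rcases top_cases C χ hρ hpq hP hχ hh with ht | ⟨-, ha', hq⟩
  · have hy : h ^ 2 ^ (n - 1) ∈ stab P χ :=
      mem_stab_of_centralizes C χ (pow_mem hh _)
        (Subgroup.mem_inf.mp (Subgroup.mem_inf.mp (top_mem C hρ hpq hP hh)).1).2
    rw [triv_iff C χ hy, sq_pow C χ hP ha hy, map_mul] at ht
    exact Or.inl ht
  · exact Or.inr hq

theorem top_stab {h : G} (hh : h ∈ P) : h ^ 2 ^ (n - 1) ∈ stab P χ :=
  mem_stab_of_centralizes C χ (pow_mem hh _)
    (Subgroup.mem_inf.mp (Subgroup.mem_inf.mp (top_mem C hρ hpq hP hh)).1).2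

/-- The action of a top power commutes with that of an abelian normalised subgroup. -/
theorem act_top_commute {U : Subgroup G} (hUn : P ≤ Subgroup.normalizer (U : Set G))
    (hab : ∀ a ∈ U, ∀ b ∈ U, Commute a b) {h u : G} (hh : h ∈ P) (hu : u ∈ U) (hus : u ∈ stab P χ) :
    Commute (act C χ ⟨_, top_stab C χ hρ hpq hP hχ hh⟩) (act C χ ⟨u, hus⟩) := by
  have hy := top_stab C χ hρ hpq hP hχ hh
  rcases top_cases C χ hρ hpq hP hχ hh with ht | ⟨hq4, ha, hqa⟩
  · rw [(triv_iff C χ hy).mp ht]; exact Commute.one_left _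
  rw [sq_pow C χ hP ha hy, map_mul]
  refine Quarter.commute_of_abelian (act C χ) (hP.group.to_le inf_le_left) (odd_card C χ hpq) hq4 hqa ?_
  refine Commute.map (Subtype.ext ?_) (act C χ)
  exact (hab _ (mul_mem ((Subgroup.mem_normalizer_iff.mp (hUn (pow_mem hh _)) u).mp hu) (inv_mem hu)) u hu).eq

end classTwo

/-- A normalised subgroup `Kg` of a `2`-group centralising the derived groups, with a normalised central subgroup
`Zg` holding the squares and the commutators, which are involutions. -/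
structure Layer (P Kg Zg : Subgroup G) : Prop where
  leP : Kg ≤ P
  leDC : Kg ≤ derivedCentralizer G
  normK : P ≤ Subgroup.normalizer (Kg : Set G)
  leK : Zg ≤ Kg
  normZ : P ≤ Subgroup.normalizer (Zg : Set G)
  central : ∀ z ∈ Zg, ∀ x ∈ Kg, Commute z x
  sq : ∀ x ∈ Kg, x * x ∈ Zg
  com : ∀ x ∈ Kg, ∀ y ∈ Kg, ⁅x, y⁆ ∈ Zg
  com_sq : ∀ x ∈ Kg, ∀ y ∈ Kg, ⁅x, y⁆ * ⁅x, y⁆ = 1

section layer

variable {P Kg Zg : Subgroup G}

theorem Layer.norm_mem (L : Layer P Kg Zg) {h v : G} (hh : h ∈ P) (hv : v ∈ Kg) (j : ℕ) : norm h v j ∈ Kg :=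
  Subgroup.list_prod_mem _ fun g hg => by
    obtain ⟨i, -, rfl⟩ := List.mem_map.mp hg
    exact (Subgroup.mem_normalizer_iff.mp (L.normK (pow_mem hh i)) v).mp hv

theorem Layer.norm_sq (L : Layer P Kg Zg) {h v : G} (hh : h ∈ P) (hv : v ∈ Zg) (hv2 : v * v = 1) (j : ℕ) :
    norm h v j ∈ Zg ∧ norm h v j * norm h v j = 1 := by
  induction j with
  | zero => exact ⟨by simp [HallHigmanB.norm], by simp [HallHigmanB.norm]⟩
  | succ j ih =>
    have hw : h ^ j * v * (h ^ j)⁻¹ ∈ Zg := (Subgroup.mem_normalizer_iff.mp (L.normZ (pow_mem hh j)) v).mp hv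
    have hw2 : h ^ j * v * (h ^ j)⁻¹ * (h ^ j * v * (h ^ j)⁻¹) = 1 := by
      rw [show h ^ j * v * (h ^ j)⁻¹ * (h ^ j * v * (h ^ j)⁻¹) = h ^ j * (v * v) * (h ^ j)⁻¹ by group, hv2, mul_one,
        mul_inv_cancel]
    rw [norm_succ]
    exact ⟨mul_mem ih.1 hw, by rw [(L.central _ hw _ (L.leK ih.1)).mul_mul_mul_comm, ih.2, hw2, one_mul]⟩

/-- The product of the cubes of the conjugates is the cube of their product up to a central involution. -/
theorem Layer.norm_cube (L : Layer P Kg Zg) {h v : G} (hh : h ∈ P) (hv : v ∈ Kg) (j : ℕ) :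
    ∃ e ∈ Zg, e * e = 1 ∧ norm h (v * v * v) j = norm h v j * norm h v j * norm h v j * e := by
  induction j with
  | zero => exact ⟨1, one_mem _, one_mul 1, by simp [HallHigmanB.norm]⟩
  | succ j ih =>
    obtain ⟨e, he, he2, hN⟩ := ih
    set c := norm h v j with hc
    set w := h ^ j * v * (h ^ j)⁻¹ with hw
    have hcK : c ∈ Kg := L.norm_mem hh hv j
    have hwK : w ∈ Kg := (Subgroup.mem_normalizer_iff.mp (L.normK (pow_mem hh j)) v).mp hv
    set k := ⁅w, c⁆ with hk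
    have hkZ : k ∈ Zg := L.com _ hwK _ hcK
    have hk2 : k * k = 1 := L.com_sq _ hwK _ hcK
    have hwc : w * c = k * (c * w) := by rw [hk, commutatorElement_def]; group
    have hsq : (c * w) * (c * w) * (c * w) = c * c * c * (w * w * w) * k := by
      calc (c * w) * (c * w) * (c * w) = c * (w * c) * ((w * c) * w) := by group
        _ = c * k * c * ((w * k) * c) * w * w := by rw [hwc]; group
        _ = c * k * c * (k * (w * c)) * w * w := by rw [← (L.central k hkZ w hwK).eq]; group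
        _ = c * (k * c) * ((k * k) * c) * w * w * w := by rw [hwc]; group
        _ = c * c * (k * c) * w * w * w := by
          rw [hk2, (L.central k hkZ c hcK).eq, one_mul, show c * (c * k) * c = c * c * (k * c) by group,
            (L.central k hkZ c hcK).eq]
        _ = c * c * c * ((k * (w * w * w))) := by rw [(L.central k hkZ c hcK).eq]; group
        _ = _ := by rw [(L.central k hkZ _ (mul_mem (mul_mem hwK hwK) hwK)).eq]; group
    refine ⟨e * k, mul_mem he hkZ, ?_, ?_⟩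
    · rw [(L.central k hkZ e (L.leK he)).mul_mul_mul_comm, he2, hk2, one_mul]
    · rw [norm_succ, norm_succ, ← hw, ← hc, hN,
        show h ^ j * (v * v * v) * (h ^ j)⁻¹ = w * w * w by rw [hw]; group, hsq,
        (L.central k hkZ e (L.leK he)).symm.eq]
      calc c * c * c * e * (w * w * w) = c * c * c * (e * (w * w * w)) := by group
        _ = c * c * c * ((w * w * w) * e) := by rw [(L.central e he _ (mul_mem (mul_mem hwK hwK) hwK)).eq]
        _ = c * c * c * (w * w * w) * (k * k) * e := by rw [hk2]; group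
        _ = _ := by group

theorem Layer.self_comm (L : Layer P Kg Zg) : ∀ a ∈ Zg, ∀ b ∈ Zg, Commute a b := fun a ha b hb =>
  L.central a ha b (L.leK hb)

variable [CharP K 2] {ρ : G →* Module.End K V} (hρ : Function.Injective ρ) {n : ℕ} (hP : Small ρ P n)
  {q : ℕ} [Fact q.Prime] (hpq : 2 ≠ q) {T D : Subgroup G} (C : ClassTwo q P T D) (χ : D →* Kˣ)
  (hχ : wspace ρ D χ ⊤ ≠ ⊥) (hD : derivedCentralizer G ≤ Subgroup.centralizer (D : Set G))

include hρ hP hpq hχ hD

/-- The quotient of the top powers acts as a square from the layer. -/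
theorem quotient_of_quarter (L : Layer P Kg Zg) {h v : G} (hh : h ∈ P) (hv : v ∈ Kg)
    (ha : h ^ 2 ^ (n - 2) ∈ stab P χ) (hq4 : q % 4 = 3) (hqa : Quarter.IsQuarter q (act C χ ⟨_, ha⟩)) :
    let c := norm h v (2 ^ (n - 2))
    ∃ hcs : c * c ∈ stab P χ, act C χ ⟨_, top_stab C χ hρ hpq hP hχ (mul_mem (L.leP hv) hh)⟩ *
        (act C χ ⟨_, top_stab C χ hρ hpq hP hχ hh⟩)⁻¹ = 1 ∨
      act C χ ⟨_, top_stab C χ hρ hpq hP hχ (mul_mem (L.leP hv) hh)⟩ *
        (act C χ ⟨_, top_stab C χ hρ hpq hP hχ hh⟩)⁻¹ = act C χ ⟨_, hcs⟩ := by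
  intro c
  have hst : ∀ g ∈ Kg, g ∈ stab P χ := fun g hg => mem_stab_of_centralizes C χ (L.leP hg) (hD (L.leDC hg))
  have hcK : c ∈ Kg := L.norm_mem hh hv _
  obtain ⟨e, heZ, he2, hcube⟩ := L.norm_cube hh hv (2 ^ (n - 2))
  refine ⟨hst _ (mul_mem hcK hcK), ?_⟩
  set A : stab P χ := ⟨_, ha⟩ with hA
  set Cc : stab P χ := ⟨c, hst c hcK⟩ with hCc
  set Ee : stab P χ := ⟨e, hst e (L.leK heZ)⟩ with hEe
  have hvh : v * h ∈ P := mul_mem (L.leP hv) hh
  have hv3 : v * v * v * h ∈ P := mul_mem (L.leP (mul_mem (mul_mem hv hv) hv)) hh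
  have hb : (v * h) ^ 2 ^ (n - 2) = ((Cc * A : stab P χ) : G) := mul_pow_eq_norm h v _
  have hb3 : (v * v * v * h) ^ 2 ^ (n - 2) = ((Cc * Cc * Cc * Ee * A : stab P χ) : G) := by
    rw [mul_pow_eq_norm h, hcube]; rfl
  have hmb : Quarter.Mild (act C χ) q (Cc * A) := by
    have := mild C χ hρ hpq hP hχ hvh (hb ▸ (Cc * A).2)
    rwa [show (⟨_, hb ▸ (Cc * A).2⟩ : stab P χ) = Cc * A from Subtype.ext hb] at this
  have hmb3 : Quarter.Mild (act C χ) q (Cc * Cc * Cc * Ee * A) := by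
    have := mild C χ hρ hpq hP hχ hv3 (hb3 ▸ (Cc * Cc * Cc * Ee * A).2)
    rwa [show (⟨_, hb3 ▸ (Cc * Cc * Cc * Ee * A).2⟩ : stab P χ) = Cc * Cc * Cc * Ee * A from Subtype.ext hb3] at this
  have hPs : IsPGroup 2 (stab P χ) := hP.group.to_le inf_le_left
  have hyA : act C χ ⟨_, top_stab C χ hρ hpq hP hχ hh⟩ = act C χ A * act C χ A := by
    rw [← map_mul, sq_pow C χ hP ha]
  have hZ : ∀ z (hz : z ∈ Zg), Commute (act C χ A * act C χ A) (act C χ ⟨z, hst z (L.leK hz)⟩) := fun z hz =>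
    hyA ▸ act_top_commute C χ hρ hpq hP hχ L.normZ L.self_comm hh hz (hst z (L.leK hz))
  have hce : Commute (act C χ Cc) (act C χ Ee) :=
    Commute.map (Subtype.ext (L.central e heZ c hcK).symm.eq) (act C χ)
  have hcc : Commute (act C χ A * act C χ A) (act C χ Cc) :=
    Quarter.commute_of_cube (act C χ) hPs (odd_card C χ hpq) hq4 (act_preserves C χ) hqa hmb hmb3
      (by rw [← map_mul]; exact (congrArg (act C χ) (Subtype.ext he2)).trans (map_one _)) hce (hZ e heZ)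
      (hZ _ (L.sq c hcK))
  have h1 := Quarter.square_quotient (act C χ) hPs (odd_card C χ hpq) hq4 (act_preserves C χ) hqa hmb hcc
  have h2 : act C χ ⟨_, top_stab C χ hρ hpq hP hχ hvh⟩ * (act C χ ⟨_, top_stab C χ hρ hpq hP hχ hh⟩)⁻¹ =
      act C χ (Cc * A * (Cc * A) * (A * A)⁻¹) := by
    rw [← map_inv, ← map_mul]
    refine congrArg _ (Subtype.ext ?_)
    show (v * h) ^ 2 ^ (n - 1) * (h ^ 2 ^ (n - 1))⁻¹ =
      ((Cc * A : stab P χ) : G) * ((Cc * A : stab P χ) : G) * (h ^ 2 ^ (n - 2) * h ^ 2 ^ (n - 2))⁻¹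
    rw [← hb, ← pow_add, ← pow_add, ← two_mul, ← pow_succ', show n - 2 + 1 = n - 1 by have := hP.two_le; omega]
  rw [h2]
  exact h1

/-- The quotient of the top powers acts as a square from the layer, whichever top is nontrivial. -/
theorem quotient_cases (L : Layer P Kg Zg) {h v : G} (hh : h ∈ P) (hv : v ∈ Kg) :
    ∃ z : stab P χ, (z : G) ∈ Zg ∧ (v ∈ Zg → v * v = 1 → z = 1) ∧
      act C χ ⟨_, top_stab C χ hρ hpq hP hχ (mul_mem (L.leP hv) hh)⟩ *
        (act C χ ⟨_, top_stab C χ hρ hpq hP hχ hh⟩)⁻¹ = act C χ z := by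
  have hvh : v * h ∈ P := mul_mem (L.leP hv) hh
  have main : ∀ {h v : G} (hh : h ∈ P) (hv : v ∈ Kg) (ha : h ^ 2 ^ (n - 2) ∈ stab P χ), q % 4 = 3 →
      Quarter.IsQuarter q (act C χ ⟨_, ha⟩) →
      ∃ z : stab P χ, (z : G) ∈ Zg ∧ (v ∈ Zg → v * v = 1 → z = 1) ∧
      act C χ ⟨_, top_stab C χ hρ hpq hP hχ (mul_mem (L.leP hv) hh)⟩ *
        (act C χ ⟨_, top_stab C χ hρ hpq hP hχ hh⟩)⁻¹ = act C χ z := by
    intro h v hh hv ha hq4 hqa
    obtain ⟨hcs, hz | hz⟩ := quotient_of_quarter hρ hP hpq C χ hχ hD L hh hv ha hq4 hqa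
    · exact ⟨1, one_mem _, fun _ _ => rfl, by rw [hz, map_one]⟩
    · exact ⟨⟨_, hcs⟩, L.sq _ (L.norm_mem hh hv _), fun hvZ hv2 => Subtype.ext (L.norm_sq hh hvZ hv2 _).2, hz⟩
  rcases top_cases C χ hρ hpq hP hχ hh with ht | ⟨hq4, ha, hqa⟩
  · rcases top_cases C χ hρ hpq hP hχ hvh with ht' | ⟨hq4, ha', hqa'⟩
    · refine ⟨1, one_mem _, fun _ _ => rfl, ?_⟩
      rw [(triv_iff C χ _).mp ht, (triv_iff C χ _).mp ht', map_one, inv_one, mul_one]
    · obtain ⟨z, hz, hz1, hze⟩ := main hvh (inv_mem hv) ha' hq4 hqa'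
      refine ⟨z⁻¹, inv_mem hz, fun hvZ hv2 => by
        rw [hz1 (inv_mem hvZ) (by rw [← mul_inv_rev, hv2, inv_one]), inv_one], ?_⟩
      rw [map_inv, ← hze, mul_inv_rev, inv_inv]
      congr 2
      exact congrArg _ (Subtype.ext (by show h ^ 2 ^ (n - 1) = (v⁻¹ * (v * h)) ^ 2 ^ (n - 1); rw [inv_mul_cancel_left]))
  · exact main hh hv ha hq4 hqa

end layer

theorem commutator_mem_centralizer {y u : G} {A : Subgroup G} (hy : y ∈ Subgroup.centralizer (A : Set G))
    (hu : u ∈ Subgroup.normalizer (A : Set G)) : ⁅y, u⁆ ∈ Subgroup.centralizer (A : Set G) := by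
  have h : u * y⁻¹ * u⁻¹ ∈ Subgroup.centralizer (A : Set G) := Subgroup.mem_centralizer_iff.mpr fun a ha => by
    have ha' : u⁻¹ * a * u ∈ A := by
      have := (Subgroup.mem_normalizer_iff.mp (inv_mem hu) a).mp ha
      rwa [inv_inv] at this
    have h1 := Subgroup.mem_centralizer_iff.mp (inv_mem hy) _ ha'
    calc a * (u * y⁻¹ * u⁻¹) = u * ((u⁻¹ * a * u) * y⁻¹) * u⁻¹ := by group
      _ = u * (y⁻¹ * (u⁻¹ * a * u)) * u⁻¹ := by rw [h1]
      _ = u * y⁻¹ * u⁻¹ * a := by group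
  rw [commutatorElement_def, show y * u * y⁻¹ * u⁻¹ = y * (u * y⁻¹ * u⁻¹) by group]
  exact mul_mem hy h

section global

variable [Group.IsSolvable G] [CharP K 2] {ρ : G →* Module.End K V} {P : Subgroup G} {n : ℕ}
  (hρ : Function.Injective ρ) (hO : Cfsg.pCore 2 G = ⊥) (hP : Small ρ P n)

include hρ hO hP

omit hρ hO in
theorem derivedCentralizer_le {q : ℕ} (hq : q.Prime) (hpq : 2 ≠ q) {T : Subgroup G} (hTn : T.Normal)
    (hT : IsPGroup q T) (hcen : ∀ u ∈ T, ∀ d ∈ (⁅T, T⁆ : Subgroup G), Commute u d) :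
    derivedCentralizer G ≤ Subgroup.centralizer ((⁅T, T⁆ : Subgroup G) : Set G) := fun _ hg =>
  mem_derivedCentralizer.mp hg q hq hpq T hTn hT hcen

/-- An element trivial on every block is trivial. -/
theorem eq_one_of_act {g : G} (hgP : g ∈ P) (hgD : g ∈ derivedCentralizer G)
    (hgZ : ∀ (q : ℕ) (_ : Fact q.Prime) (T D : Subgroup G) (_ : ClassTwo q P T D), 2 ≠ q →
      g ∈ Subgroup.centralizer ((T ⊓ Subgroup.centralizer (T : Set G) : Subgroup G) : Set G))
    (h : ∀ (q : ℕ) (_ : Fact q.Prime) (T D : Subgroup G) (C : ClassTwo q P T D) (χ : D →* Kˣ)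
      (hs : g ∈ stab P χ), 2 ≠ q → wspace ρ D χ ⊤ ≠ ⊥ →
      derivedCentralizer G ≤ Subgroup.centralizer (D : Set G) → act C χ ⟨g, hs⟩ = 1) : g = 1 := by
  refine eq_one_of_centralizes hO (k := n) (hP.exp _ hgP) fun q hq hpq T hTn hT hcen => ?_
  haveI := Fact.mk hq
  have C := classTwo_of_normal hTn hT hcen P
  have hD := derivedCentralizer_le hP hq hpq hTn hT hcen
  refine centralizes_of_triv C hρ hpq (hP.exp _ hgP) (C.normT hgP) (hgZ q ⟨hq⟩ T _ C hpq) fun χ hχ => ?_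
  have hs := mem_stab_of_centralizes C χ hgP (hD hgD)
  exact (triv_iff C χ hs).mpr (h q ⟨hq⟩ T _ C χ hs hpq hχ hD)

/-- The top powers centralise the abelian normalised subgroups centralising the derived groups. -/
theorem top_commute_abelian {U : Subgroup G} (hUP : U ≤ P) (hUD : U ≤ derivedCentralizer G)
    (hUn : P ≤ Subgroup.normalizer (U : Set G)) (hab : ∀ a ∈ U, ∀ b ∈ U, Commute a b) {h u : G} (hh : h ∈ P)
    (hu : u ∈ U) : Commute (h ^ 2 ^ (n - 1)) u := by
  rw [← commutatorElement_eq_one_iff_commute]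
  have hy := pow_mem hh (2 ^ (n - 1))
  refine eq_one_of_act hρ hO hP ?_ ?_ (fun q _ T D C hpq => ?_) (fun q _ T D C χ hs hpq hχ hD => ?_)
  · rw [commutatorElement_def]
    exact mul_mem (mul_mem (mul_mem hy (hUP hu)) (inv_mem hy)) (inv_mem (hUP hu))
  · haveI := derivedCentralizer_normal (G := G)
    rw [commutatorElement_def]
    exact mul_mem ((inferInstance : (derivedCentralizer G).Normal).conj_mem _ (hUD hu) _) (inv_mem (hUD hu))
  · exact commutator_mem_centralizer (Subgroup.mem_inf.mp (top_mem C hρ hpq hP hh)).2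
      (normalizer_center C (hUP hu))
  · have hus := mem_stab_of_centralizes C χ (hUP hu) (hD (hUD hu))
    rw [show (⟨_, hs⟩ : stab P χ) = ⁅(⟨_, top_stab C χ hρ hpq hP hχ hh⟩ : stab P χ), ⟨u, hus⟩⁆ from rfl,
      map_commutatorElement, commutatorElement_eq_one_iff_commute]
    exact act_top_commute C χ hρ hpq hP hχ hUn hab hh hu hus

omit hO in
theorem top_quotient_mem_center {q : ℕ} [Fact q.Prime] (hpq : 2 ≠ q) {T D : Subgroup G} (C : ClassTwo q P T D)
    {h h' : G} (hh : h ∈ P) (hh' : h' ∈ P) : h' ^ 2 ^ (n - 1) * (h ^ 2 ^ (n - 1))⁻¹ ∈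
      Subgroup.centralizer ((T ⊓ Subgroup.centralizer (T : Set G) : Subgroup G) : Set G) :=
  mul_mem (Subgroup.mem_inf.mp (top_mem C hρ hpq hP hh')).2
    (inv_mem (Subgroup.mem_inf.mp (top_mem C hρ hpq hP hh)).2)

/-- On a central involution of a layer the two top powers agree. -/
theorem top_eq_of_involution {Kg Zg : Subgroup G} (L : Layer P Kg Zg) {h v : G} (hh : h ∈ P) (hv : v ∈ Zg)
    (hv2 : v * v = 1) : (v * h) ^ 2 ^ (n - 1) = h ^ 2 ^ (n - 1) := by
  have hvh : v * h ∈ P := mul_mem (L.leP (L.leK hv)) hh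
  rw [← mul_inv_eq_one]
  refine eq_one_of_act hρ hO hP (mul_mem (pow_mem hvh _) (inv_mem (pow_mem hh _)))
    (mul_mem (top_mem_derived hρ hP hvh) (inv_mem (top_mem_derived hρ hP hh)))
    (fun q _ T D C hpq => top_quotient_mem_center hρ hP hpq C hh hvh) (fun q _ T D C χ hs hpq hχ hD => ?_)
  obtain ⟨z, -, hz1, hze⟩ := quotient_cases hρ hP hpq C χ hχ hD L hh (L.leK hv)
  rw [hz1 hv hv2, map_one, ← map_inv, ← map_mul] at hze
  exact hze

/-- The quotient of the two top powers centralises the layer. -/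
theorem top_quotient_commute {Kg Zg : Subgroup G} (L : Layer P Kg Zg) {h v g : G} (hh : h ∈ P) (hv : v ∈ Kg)
    (hg : g ∈ Kg) : Commute ((v * h) ^ 2 ^ (n - 1) * (h ^ 2 ^ (n - 1))⁻¹) g := by
  have hvh : v * h ∈ P := mul_mem (L.leP hv) hh
  set t := (v * h) ^ 2 ^ (n - 1) * (h ^ 2 ^ (n - 1))⁻¹ with ht
  have htP : t ∈ P := mul_mem (pow_mem hvh _) (inv_mem (pow_mem hh _))
  rw [← commutatorElement_eq_one_iff_commute]
  refine eq_one_of_act hρ hO hP ?_ ?_ (fun q _ T D C hpq => ?_) (fun q _ T D C χ hs hpq hχ hD => ?_)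
  · rw [commutatorElement_def]
    exact mul_mem (mul_mem (mul_mem htP (L.leP hg)) (inv_mem htP)) (inv_mem (L.leP hg))
  · haveI := derivedCentralizer_normal (G := G)
    rw [commutatorElement_def]
    exact mul_mem ((inferInstance : (derivedCentralizer G).Normal).conj_mem _ (L.leDC hg) _) (inv_mem (L.leDC hg))
  · exact commutator_mem_centralizer (top_quotient_mem_center hρ hP hpq C hh hvh) (normalizer_center C (L.leP hg))
  · obtain ⟨z, hz, -, hze⟩ := quotient_cases hρ hP hpq C χ hχ hD L hh hv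
    have hgs := mem_stab_of_centralizes C χ (L.leP hg) (hD (L.leDC hg))
    rw [show (⟨_, hs⟩ : stab P χ) = ⁅(⟨_, top_stab C χ hρ hpq hP hχ hvh⟩ : stab P χ) *
        (⟨_, top_stab C χ hρ hpq hP hχ hh⟩ : stab P χ)⁻¹, ⟨g, hgs⟩⁆ from rfl,
      map_commutatorElement, map_mul, map_inv, hze, commutatorElement_eq_one_iff_commute]
    exact Commute.map (Subtype.ext (L.central _ hz g hg).eq) (act C χ)

end global

end CfsgLib.HallHigmanB
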