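import Cfsg.Agent.Lib.HallHigmanB.TwoReduction
import Cfsg.Agent.Lib.HallHigmanB.TwoSharpTops
import Cfsg.Agent.S0205

/-!
The `2`-length of a `2`-soluble group is at most the exponent of its Sylow `2`-subgroups.
-/

set_option autoImplicit false
set_option maxHeartbeats 1000000
set_option linter.unusedSectionVars false
set_option linter.style.haveILetI false

namespace CfsgLib.HallHigmanB

open Module
open scoped commutatorElement TensorProduct

universe u v w

/-- A `2`-soluble group is soluble, groups of odd order being soluble. -/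
theorem isSolvable_of_two_solvable {G : Type u} [Group G] [Finite G] (h : Cfsg.IsPSolvable 2 G) :
    Group.IsSolvable G := by
  haveI := Fact.mk Nat.prime_two
  obtain ⟨n, H, h0, hlast, hmono, hnorm, hstep⟩ := h
  have key : ∀ i : Fin (n + 1), Group.IsSolvable (H i) := by
    intro i
    induction i using Fin.induction with
    | zero =>
      rw [h0]
      haveI : Subsingleton (⊥ : Subgroup G) :=
        ⟨fun a b => Subtype.ext ((Subgroup.mem_bot.mp a.2).trans (Subgroup.mem_bot.mp b.2).symm)⟩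
      infer_instance
    | succ i ih =>
      have hle : H i.castSucc ≤ H i.succ := hmono (Fin.castSucc_lt_succ (i := i)).le
      haveI := hnorm i.castSucc
      haveI : ((H i.castSucc).subgroupOf (H i.succ)).Normal := inferInstance
      haveI := ih
      refine (Group.isSolvable_iff_subgroup_quotient ((H i.castSucc).subgroupOf (H i.succ))).mpr
        ⟨Group.isSolvable_of_isSolvable_injective (f := (Subgroup.subgroupOfEquivOfLe hle).toMonoidHom)
          (Subgroup.subgroupOfEquivOfLe hle).injective, ?_⟩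
      have hcard : Nat.card (H i.succ ⧸ (H i.castSucc).subgroupOf (H i.succ)) =
          (H i.castSucc).relIndex (H i.succ) := rfl
      rcases hstep i with ⟨m, hm⟩ | hc
      · haveI := (IsPGroup.of_card (p := 2) (hcard.trans hm)).isNilpotent
        infer_instance
      · exact Cfsg.Agent.S0205.result (hcard ▸ Nat.coprime_two_right.mp hc)
  have h1 := key (Fin.last n)
  rw [hlast] at h1
  haveI := h1
  exact Group.isSolvable_of_isSolvable_injective (f := (Subgroup.topEquiv (G := G)).symm.toMonoidHom)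
    (MulEquiv.injective _)

section layers

variable {G : Type u} [Group G]

/-- The elements of `K₀` centralising its abelian normal subgroups. -/
def layer (K₀ : Subgroup G) : Subgroup G :=
  K₀ ⊓ Subgroup.centralizer {x | ∃ U : Subgroup G, U.Normal ∧ U ≤ K₀ ∧ (∀ a ∈ U, ∀ b ∈ U, Commute a b) ∧ x ∈ U}

/-- The centre of the layer. -/
def layerCenter (K₀ : Subgroup G) : Subgroup G := layer K₀ ⊓ Subgroup.centralizer (layer K₀ : Set G)

theorem mem_layer {K₀ : Subgroup G} {x : G} : x ∈ layer K₀ ↔ x ∈ K₀ ∧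
    ∀ U : Subgroup G, U.Normal → U ≤ K₀ → (∀ a ∈ U, ∀ b ∈ U, Commute a b) → ∀ u ∈ U, Commute x u := by
  simp only [layer, Subgroup.mem_inf, Subgroup.mem_centralizer_iff, Set.mem_ofPred_eq]
  refine and_congr_right fun _ => ⟨fun h U hn hle hab u hu => (h u ⟨U, hn, hle, hab, hu⟩).symm, ?_⟩
  rintro h u ⟨U, hn, hle, hab, hu⟩
  exact (h U hn hle hab u hu).symm

variable (K₀ : Subgroup G) [hK₀ : K₀.Normal]

instance layer_normal : (layer K₀).Normal := by
  refine ⟨fun a ha g => ?_⟩
  rw [mem_layer] at ha ⊢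
  refine ⟨hK₀.conj_mem a ha.1 g, fun U hn hle hab u hu => ?_⟩
  have h := ha.2 U hn hle hab (g⁻¹ * u * g) (by simpa using hn.conj_mem u hu g⁻¹)
  calc g * a * g⁻¹ * u = g * (a * (g⁻¹ * u * g)) * g⁻¹ := by group
    _ = g * ((g⁻¹ * u * g) * a) * g⁻¹ := by rw [h.eq]
    _ = _ := by group

instance layerCenter_normal : (layerCenter K₀).Normal := by
  unfold layerCenter; infer_instance

theorem le_layerCenter {U : Subgroup G} [hU : U.Normal] (hle : U ≤ layer K₀)
    (hab : ∀ a ∈ U, ∀ b ∈ U, Commute a b) : U ≤ layerCenter K₀ := fun u hu =>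
  Subgroup.mem_inf.mpr ⟨hle hu, Subgroup.mem_centralizer_iff.mpr fun x hx =>
    ((mem_layer.mp hx).2 U hU (fun _ h => (mem_layer.mp (hle h)).1) hab u hu).eq⟩

theorem layerCenter_central {z x : G} (hz : z ∈ layerCenter K₀) (hx : x ∈ layer K₀) : Commute z x :=
  (Subgroup.mem_centralizer_iff.mp (Subgroup.mem_inf.mp hz).2 x hx).symm

variable [Finite G]

theorem layer_com (hp : IsPGroup 2 K₀) {x y : G} (hx : x ∈ layer K₀) (hy : y ∈ layer K₀) :
    ⁅x, y⁆ ∈ layerCenter K₀ := by
  set Kl := layer K₀ with hKl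
  haveI := Fact.mk Nat.prime_two
  let L : ℕ → Subgroup G := fun i => Nat.rec Kl (fun _ W => ⁅W, Kl⁆) i
  have hLn : ∀ i, (L i).Normal := fun i => by
    induction i with
    | zero => exact layer_normal K₀
    | succ i ih => exact Subgroup.commutator_normal _ _
  have hLK : ∀ i, L i ≤ Kl := fun i => by
    cases i with
    | zero => exact le_rfl
    | succ i => exact Subgroup.commutator_le_right _ _
  have hL1 : ∀ i, L (i + 1) ≤ ⁅Kl, Kl⁆ := fun i => Subgroup.commutator_mono (hLK i) le_rfl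
  obtain ⟨m, hm⟩ := (Subgroup.isNilpotent_iff_lowerCentralSeries Kl).mp (hp.to_le inf_le_left).isNilpotent
  have hLeq : ∀ i, L i = Kl.lowerCentralSeries i := fun i => by
    induction i with
    | zero => rfl
    | succ i ih => show ⁅L i, Kl⁆ = _; rw [ih]; rfl
  have key : ∀ d i, m ≤ i + d → L (i + 1) ≤ layerCenter K₀ := by
    intro d
    induction d with
    | zero =>
      intro i hi
      refine le_trans ?_ bot_le
      exact (hLeq (i + 1)).le.trans ((Kl.lowerCentralSeries_antitone (show m ≤ i + 1 by omega)).trans hm.le)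
    | succ d ih =>
      intro i hi
      have hnext := ih (i + 1) (by omega)
      haveI := hLn (i + 1)
      refine @le_layerCenter G _ K₀ hK₀ (L (i + 1)) (hLn (i + 1)) (hLK (i + 1)) ?_
      intro a ha b hb
      -- the commutators of the layer commute with `a`
      have hcen : ⁅Kl, Kl⁆ ≤ Subgroup.centralizer ({a} : Set G) := Subgroup.commutator_le.mpr fun s hs t ht => by
        rw [Subgroup.mem_centralizer_singleton_iff]
        have hka : ∀ s ∈ Kl, ∃ k, k ∈ Kl ∧ (∀ r ∈ Kl, Commute k r) ∧ a * s * a⁻¹ = k * s := fun s hs =>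
          ⟨⁅a, s⁆, hLK (i + 2) (Subgroup.commutator_mem_commutator ha hs), fun r hr => layerCenter_central K₀ (hnext (Subgroup.commutator_mem_commutator ha hs)) hr,
            by rw [commutatorElement_def]; group⟩
        obtain ⟨k, -, hk, hks⟩ := hka s hs
        obtain ⟨l, hlK, hl, hlt⟩ := hka t ht
        have e : a * ⁅s, t⁆ * a⁻¹ = ⁅s, t⁆ := by
          calc a * ⁅s, t⁆ * a⁻¹ = (a * s * a⁻¹) * (a * t * a⁻¹) * (a * s * a⁻¹)⁻¹ * (a * t * a⁻¹)⁻¹ := by
                rw [commutatorElement_def]; group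
            _ = k * (s * l) * (t * s⁻¹) * k⁻¹ * (t⁻¹ * l⁻¹) := by rw [hks, hlt]; group
            _ = k * (l * s) * (k⁻¹ * (t * s⁻¹)) * (t⁻¹ * l⁻¹) := by
              rw [((hk _ (mul_mem ht (inv_mem hs))).inv_left).eq, (hl s hs).eq]; group
            _ = k * l * (k⁻¹ * s) * (t * s⁻¹ * t⁻¹) * l⁻¹ := by rw [((hk s hs).inv_left).eq]; group
            _ = k * (l * k⁻¹) * (s * t * s⁻¹ * t⁻¹) * l⁻¹ := by group
            _ = k * (k⁻¹ * l) * (⁅s, t⁆) * l⁻¹ := by
              rw [commutatorElement_def, ((hk l hlK).inv_left).eq]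
            _ = l * (⁅s, t⁆ * l⁻¹) := by group
            _ = _ := by
              rw [((hl _ (Subgroup.commutator_le_left Kl Kl (Subgroup.commutator_mem_commutator hs ht))).inv_left).symm.eq]
              group
        rw [mul_inv_eq_iff_eq_mul] at e
        exact e.symm
      exact (Subgroup.mem_centralizer_singleton_iff.mp (hcen (hL1 i hb))).symm
  exact key m 0 (by omega) (Subgroup.commutator_mem_commutator hx hy)

theorem comm_pow_left {x y : G} (hcx : Commute ⁅x, y⁆ x) : ∀ a : ℕ, ⁅x ^ a, y⁆ = ⁅x, y⁆ ^ a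
  | 0 => by simp
  | a + 1 => by
    have h := comm_pow_left hcx a
    rw [pow_succ' x a, commutatorElement_def, show x * x ^ a * y * (x * x ^ a)⁻¹ * y⁻¹ =
      x * ⁅x ^ a, y⁆ * x⁻¹ * ⁅x, y⁆ by simp only [commutatorElement_def]; group, h,
      ((hcx.pow_left a).symm).eq, mul_inv_cancel_right, pow_succ]

theorem layer_com_sq (hp : IsPGroup 2 K₀) {x y : G} (hx : x ∈ layer K₀) (hy : y ∈ layer K₀) :
    ⁅x, y⁆ * ⁅x, y⁆ = 1 := by
  haveI := Fact.mk Nat.prime_two
  have hcom : ∀ {a b : G}, a ∈ layer K₀ → b ∈ layer K₀ → ∀ c ∈ layer K₀, Commute ⁅a, b⁆ c := fun ha hb c hc =>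
    layerCenter_central K₀ (layer_com K₀ hp ha hb) hc
  have step : ∀ r : ℕ, 1 ≤ r → (∀ a ∈ layer K₀, ∀ b ∈ layer K₀, ⁅a, b⁆ ^ 2 ^ (r + 1) = 1) →
      ∀ a ∈ layer K₀, ∀ b ∈ layer K₀, ⁅a, b⁆ ^ 2 ^ r = 1 := by
    intro r hr hall a ha b hb
    let gens : Set G := {g | ∃ c ∈ layer K₀, g = c ^ 2 ^ r}
    haveI hn : (Subgroup.closure gens).Normal := by
      refine ⟨fun g hg c => ?_⟩
      have hle : Subgroup.closure gens ≤ (Subgroup.closure gens).comap (MulAut.conj c).toMonoidHom :=
        (Subgroup.closure_le _).mpr fun g ⟨d, hd, hgd⟩ => Subgroup.subset_closure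
          ⟨c * d * c⁻¹, (layer_normal K₀).conj_mem d hd c, by
            show c * g * c⁻¹ = _
            rw [conj_pow, hgd]⟩
      exact hle hg
    have hgen : Subgroup.closure gens ≤ layer K₀ := (Subgroup.closure_le _).mpr fun g ⟨d, hd, hgd⟩ =>
      hgd ▸ pow_mem hd _
    have hcomm : ∀ g ∈ gens, ∀ g' ∈ gens, Commute g g' := by
      rintro _ ⟨c, hc, rfl⟩ _ ⟨d, hd, rfl⟩
      rw [← commutatorElement_eq_one_iff_commute,
        comm_pow_left (hcom hc (pow_mem hd _) c hc), ← commutatorElement_inv,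
        comm_pow_left (hcom hd hc d hd), inv_pow, ← pow_mul, ← pow_add,
        show r + r = r + 1 + (r - 1) by omega, pow_add, pow_mul, hall d hd c hc, one_pow, inv_one]
    have hab : ∀ g ∈ Subgroup.closure gens, ∀ g' ∈ Subgroup.closure gens, Commute g g' := by
      have h1 : Subgroup.closure gens ≤ Subgroup.centralizer gens := (Subgroup.closure_le _).mpr fun g hg =>
        Subgroup.mem_centralizer_iff.mpr fun g' hg' => (hcomm g' hg' g hg).eq
      have h2 : Subgroup.closure gens ≤ Subgroup.centralizer (Subgroup.closure gens : Set G) :=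
        (Subgroup.closure_le _).mpr fun g hg => Subgroup.mem_centralizer_iff.mpr fun g' hg' =>
          (Subgroup.mem_centralizer_iff.mp (h1 hg') g hg).symm
      exact fun g hg g' hg' => (Subgroup.mem_centralizer_iff.mp (h2 hg) g' hg').symm
    have hz := le_layerCenter K₀ hgen hab (Subgroup.subset_closure ⟨a, ha, rfl⟩)
    rw [← comm_pow_left (hcom ha hb a ha), commutatorElement_eq_one_iff_commute]
    exact layerCenter_central K₀ hz hb
  obtain ⟨d, hd⟩ := IsPGroup.iff_card.mp (hp.to_le (inf_le_left : layer K₀ ≤ K₀))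
  have hdesc : ∀ i, ∀ a ∈ layer K₀, ∀ b ∈ layer K₀, ⁅a, b⁆ ^ 2 ^ (d - i + 1) = 1 := by
    intro i
    induction i with
    | zero =>
      intro a ha b hb
      refine orderOf_dvd_iff_pow_eq_one.mp (dvd_trans ?_ (pow_dvd_pow 2 (Nat.le_succ _)))
      exact hd ▸ Subgroup.orderOf_dvd_natCard _ (Subgroup.mem_inf.mp (layer_com K₀ hp ha hb)).1
    | succ i ih =>
      rcases Nat.eq_zero_or_pos (d - i) with h | h
      · rwa [show d - (i + 1) + 1 = d - i + 1 by omega]
      · rw [show d - (i + 1) + 1 = d - i by omega]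
        exact step (d - i) h ih
  have h1 := hdesc d x hx y hy
  rwa [Nat.sub_self, zero_add, pow_one, pow_two] at h1

theorem layer_sq (hp : IsPGroup 2 K₀) {x : G} (hx : x ∈ layer K₀) : x * x ∈ layerCenter K₀ := by
  refine Subgroup.mem_inf.mpr ⟨mul_mem hx hx, Subgroup.mem_centralizer_iff.mpr fun y hy => ?_⟩
  have h := comm_pow_left (layerCenter_central K₀ (layer_com K₀ hp hx hy) hx) 2
  rw [pow_two, pow_two, layer_com_sq K₀ hp hx hy, commutatorElement_eq_one_iff_commute] at h
  exact h.eq.symm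

end layers

/-- The module carried by an elementary abelian section. -/
theorem exists_section_rep {G : Type u} [Group G] [Finite G] (X Y : Subgroup G) [hX : X.Normal] [hY : Y.Normal]
    (hsq : ∀ x ∈ X, x * x ∈ Y) (hcom : ∀ x ∈ X, ∀ y ∈ X, ⁅x, y⁆ ∈ Y) :
    ∃ (M : Type u) (_ : AddCommGroup M) (_ : Module (ZMod 2) M) (_ : Finite M) (τ : G →* Module.End (ZMod 2) M),
      (∀ g : G, τ g = 1 → ∀ x ∈ X, g * x * g⁻¹ * x⁻¹ ∈ Y) ∧
      (∀ (g : G) (N : ℕ), (∀ v ∈ X, (v * g) ^ N * (g ^ N)⁻¹ ∈ Y) → ∑ i ∈ Finset.range N, τ g ^ i = 0) ∧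
      ∀ l : List G, (∀ v ∈ X, l.foldr (fun h w => h * w * h⁻¹ * w⁻¹) v ∈ Y) → (l.map fun h => τ h - 1).prod = 0 := by
  classical
  haveI := Fact.mk Nat.prime_two
  set R := Y.subgroupOf X with hR
  letI : CommGroup (X ⧸ R) :=
    { (inferInstance : Group (X ⧸ R)) with
      mul_comm := fun a b => by
        obtain ⟨a, rfl⟩ := QuotientGroup.mk_surjective a
        obtain ⟨b, rfl⟩ := QuotientGroup.mk_surjective b
        show ((a * b : X) : X ⧸ R) = ((b * a : X) : X ⧸ R)
        rw [QuotientGroup.eq, show (a * b)⁻¹ * (b * a) = ⁅b⁻¹, a⁻¹⁆ by rw [commutatorElement_def]; group]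
        exact hcom _ (inv_mem b.2) _ (inv_mem a.2) }
  have hexp : ∀ x : Additive (X ⧸ R), 2 • x = 0 := fun x => by
    obtain ⟨a, ha⟩ := QuotientGroup.mk_surjective (Additive.toMul x)
    apply Additive.toMul.injective
    rw [toMul_nsmul, ← ha, toMul_zero, ← QuotientGroup.mk_pow, QuotientGroup.eq_one_iff, pow_two]
    exact hsq _ a.2
  letI : Module (ZMod 2) (Additive (X ⧸ R)) := AddCommGroup.zmodModule (n := 2) (G := Additive (X ⧸ R)) hexp
  let c : G →* MulAut X := MulAut.conjNormal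
  have hc : ∀ (g : G) (a : X), ((c g a : X) : G) = g * a * g⁻¹ := fun g a => MulAut.conjNormal_apply g a
  have hinv : ∀ g : G, R.map (c g).toMonoidHom = R := fun g => by
    ext z
    simp only [Subgroup.mem_map, hR, Subgroup.mem_subgroupOf]
    refine ⟨?_, fun hz => ⟨c g⁻¹ z, ?_, ?_⟩⟩
    · rintro ⟨a, ha, rfl⟩
      exact (hc g a).symm ▸ hY.conj_mem _ ha g
    · rw [hc]; exact hY.conj_mem _ hz _
    · show c g (c g⁻¹ z) = z
      rw [← MulAut.mul_apply, ← map_mul, mul_inv_cancel, map_one, MulAut.one_apply]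
  let τ₀ : G → Module.End (ZMod 2) (Additive (X ⧸ R)) := fun g =>
    AddMonoidHom.toZModLinearMap 2 (M := Additive (X ⧸ R)) (M₁ := Additive (X ⧸ R))
      (MonoidHom.toAdditive (QuotientGroup.congr R R (c g) (hinv g)).toMonoidHom)
  have hτ₀ : ∀ (g : G) (a : X), τ₀ g (Additive.ofMul (a : X ⧸ R)) = Additive.ofMul ((c g a : X) : X ⧸ R) :=
    fun g a => rfl
  let τ : G →* Module.End (ZMod 2) (Additive (X ⧸ R)) :=
    { toFun := τ₀
      map_one' := LinearMap.ext fun x => by
        obtain ⟨a, ha⟩ := QuotientGroup.mk_surjective (Additive.toMul x)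
        rw [show x = Additive.ofMul (a : X ⧸ R) by rw [ha, ofMul_toMul], hτ₀, Module.End.one_apply, map_one,
          MulAut.one_apply]
      map_mul' := fun g h => LinearMap.ext fun x => by
        obtain ⟨a, ha⟩ := QuotientGroup.mk_surjective (Additive.toMul x)
        rw [show x = Additive.ofMul (a : X ⧸ R) by rw [ha, ofMul_toMul], Module.End.mul_apply, hτ₀, hτ₀, hτ₀,
          map_mul, MulAut.mul_apply] }
  have hτ : ∀ (g : G) (a : X), τ g (Additive.ofMul (a : X ⧸ R)) = Additive.ofMul ((c g a : X) : X ⧸ R) :=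
    fun g a => rfl
  refine ⟨Additive (X ⧸ R), inferInstance, inferInstance, inferInstance, τ, fun g hg x hx => ?_,
    fun g N h => LinearMap.ext fun z => ?_, fun l h => LinearMap.ext fun z => ?_⟩
  · have h1 := LinearMap.congr_fun hg (Additive.ofMul ((⟨x, hx⟩ : X) : X ⧸ R))
    rw [hτ, Module.End.one_apply] at h1
    have h2 := Subgroup.mem_subgroupOf.mp (QuotientGroup.eq.mp (Additive.ofMul.injective h1).symm)
    rw [Subgroup.coe_mul, Subgroup.coe_inv, hc] at h2
    have h3 := hY.conj_mem _ h2 x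
    rwa [mul_inv_cancel_left] at h3
  · have hsum : ∀ (N : ℕ) (a : X), ∃ b : X, (b : G) = ((a : G) * g) ^ N * (g ^ N)⁻¹ ∧
        (∑ i ∈ Finset.range N, τ g ^ i) (Additive.ofMul (a : X ⧸ R)) = Additive.ofMul (b : X ⧸ R) := by
      intro N a
      induction N with
      | zero => exact ⟨1, by simp, by simp⟩
      | succ N ih =>
        obtain ⟨b, hb, hb'⟩ := ih
        refine ⟨b * c (g ^ N) a, ?_, ?_⟩
        · rw [Subgroup.coe_mul, hc, hb, pow_succ, pow_succ]; group
        · rw [Finset.sum_range_succ, LinearMap.add_apply, hb', ← map_pow, hτ, QuotientGroup.mk_mul, ofMul_mul]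
    obtain ⟨a, ha⟩ := QuotientGroup.mk_surjective (Additive.toMul z)
    obtain ⟨b, hb, hb'⟩ := hsum N a
    rw [show z = Additive.ofMul (a : X ⧸ R) by rw [ha, ofMul_toMul], hb', LinearMap.zero_apply,
      show (b : X ⧸ R) = 1 from (QuotientGroup.eq_one_iff b).mpr (Subgroup.mem_subgroupOf.mpr (hb ▸ h _ a.2)), ofMul_one]
  · have hlist : ∀ (l : List G) (a : X), ∃ b : X, (b : G) = l.foldr (fun h w => h * w * h⁻¹ * w⁻¹) (a : G) ∧
        (l.map fun h => τ h - 1).prod (Additive.ofMul (a : X ⧸ R)) = Additive.ofMul (b : X ⧸ R) := by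
      intro l a
      induction l with
      | nil => exact ⟨a, rfl, by simp⟩
      | cons h l ih =>
        obtain ⟨b, hb, hb'⟩ := ih
        refine ⟨c h b * b⁻¹, ?_, ?_⟩
        · rw [Subgroup.coe_mul, hc, Subgroup.coe_inv, List.foldr_cons, hb]
        · rw [List.map_cons, List.prod_cons, Module.End.mul_apply, hb', LinearMap.sub_apply, Module.End.one_apply, hτ,
            QuotientGroup.mk_mul, QuotientGroup.mk_inv, ofMul_mul, ofMul_inv, sub_eq_add_neg]
    obtain ⟨a, ha⟩ := QuotientGroup.mk_surjective (Additive.toMul z)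
    obtain ⟨b, hb, hb'⟩ := hlist l a
    rw [show z = Additive.ofMul (a : X ⧸ R) by rw [ha, ofMul_toMul], hb', LinearMap.zero_apply,
      show (b : X ⧸ R) = 1 from (QuotientGroup.eq_one_iff b).mpr (Subgroup.mem_subgroupOf.mpr (hb ▸ h _ a.2)), ofMul_one]

/-- A representation in which a normal `2`-subgroup acts trivially, with kernel larger only by a `2`-group. -/
theorem exists_trivialised {G : Type u} [Group G] (P0 : Subgroup G) [hP0n : P0.Normal] (hP0 : IsPGroup 2 P0) :
    ∀ (n : ℕ) {M : Type w} [AddCommGroup M] [Module (ZMod 2) M] [Finite M], Nat.card M ≤ n →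
    ∀ τ : G →* Module.End (ZMod 2) M,
    ∃ (M' : Type w) (_ : AddCommGroup M') (_ : Module (ZMod 2) M') (_ : Finite M')
      (τ' : G →* Module.End (ZMod 2) M'), P0 ≤ τ'.ker ∧ (∀ g ∈ τ'.ker, ∃ i : ℕ, g ^ 2 ^ i ∈ τ.ker) ∧
        ∀ l : List G, (l.map fun h => τ h - 1).prod = 0 → (l.map fun h => τ' h - 1).prod = 0 := by
  classical
  haveI := Fact.mk Nat.prime_two
  intro n
  induction n with
  | zero => intro M _ _ _ hn; exact absurd hn (by have := Nat.card_pos (α := M); omega)
  | succ n ih =>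
    intro M _ _ _ hn τ
    rcases subsingleton_or_nontrivial M with hs | hnt
    · exact ⟨M, inferInstance, inferInstance, inferInstance, τ,
        fun g _ => MonoidHom.mem_ker.mpr (LinearMap.ext fun _ => Subsingleton.elim _ _),
        fun g hg => ⟨0, by simpa using hg⟩, fun l h => h⟩
    let W : Submodule (ZMod 2) M :=
      { carrier := {v | ∀ p ∈ P0, τ p v = v}
        add_mem' := fun ha hb p hp => by rw [map_add, ha p hp, hb p hp]
        zero_mem' := fun p _ => map_zero _
        smul_mem' := fun a v hv p hp => by rw [map_smul, hv p hp] }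
    have hWne : W ≠ ⊥ := by
      letI : MulAction P0 M :=
        { smul := fun p v => τ (p : G) v
          one_smul := fun v => by
            show τ ((1 : P0) : G) v = v
            rw [Subgroup.coe_one, map_one, Module.End.one_apply]
          mul_smul := fun p p' v => by
            show τ ((p * p' : P0) : G) v = τ (p : G) (τ (p' : G) v)
            rw [Subgroup.coe_mul, map_mul, Module.End.mul_apply] }
      have hdvd : 2 ∣ Nat.card M := by
        obtain ⟨v, hv⟩ := exists_ne (0 : M)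
        have h2 : addOrderOf v = 2 := addOrderOf_eq_prime (p := 2) (by
          rw [two_nsmul, ← one_smul (ZMod 2) v, ← add_smul, show (1 : ZMod 2) + 1 = 0 from rfl, zero_smul]) hv
        exact h2 ▸ addOrderOf_dvd_natCard v
      obtain ⟨v, hv, hv0⟩ := hP0.exists_fixed_point_of_prime_dvd_card_of_fixed_point M hdvd
        (show (0 : M) ∈ MulAction.fixedPoints P0 M from fun p => map_zero (τ (p : G)))
      exact (Submodule.ne_bot_iff W).mpr ⟨v, fun p hp => hv ⟨p, hp⟩, fun h => hv0 h.symm⟩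
    have hWinv : ∀ g : G, ∀ v ∈ W, τ g v ∈ W := fun g v hv p hp => by
      have h1 := hv (g⁻¹ * p * g) (by simpa using hP0n.conj_mem p hp g⁻¹)
      calc τ p (τ g v) = τ g (τ (g⁻¹ * p * g) v) := by
            rw [← Module.End.mul_apply, ← map_mul, ← Module.End.mul_apply, ← map_mul]; congr 2; group
        _ = τ g v := by rw [h1]
    let τ₁ : G →* Module.End (ZMod 2) W :=
      { toFun := fun g => (τ g).restrict (hWinv g)
        map_one' := LinearMap.ext fun x => Subtype.ext (by simp)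
        map_mul' := fun g h => LinearMap.ext fun x => Subtype.ext (by simp) }
    let τ₂ : G →* Module.End (ZMod 2) (M ⧸ W) :=
      { toFun := fun g => W.mapQ W (τ g) (hWinv g)
        map_one' := Submodule.linearMap_qext W (LinearMap.ext fun x => by simp)
        map_mul' := fun g h => Submodule.linearMap_qext W (LinearMap.ext fun x => by simp) }
    haveI : Finite (M ⧸ W) := Finite.of_surjective _ W.mkQ_surjective
    have hlt : Nat.card (M ⧸ W) < Nat.card M := by
      rw [Submodule.card_eq_card_quotient_mul_card W]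
      refine lt_mul_of_one_lt_left Nat.card_pos ?_
      haveI : Nontrivial W := Submodule.nontrivial_iff_ne_bot.mpr hWne
      exact Finite.one_lt_card
    obtain ⟨M', _, _, _, τ', hP', hker', hvan'⟩ := ih (M := M ⧸ W) (by omega) τ₂
    let T : G →* Module.End (ZMod 2) (W × M') :=
      { toFun := fun h => LinearMap.prodMap (τ₁ h) (τ' h)
        map_one' := by rw [map_one, map_one]; exact LinearMap.prodMap_one
        map_mul' := fun h h' => by rw [map_mul, map_mul]; exact (LinearMap.prodMap_mul _ _ _ _).symm }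
    have hT : ∀ g, T g = LinearMap.prodMap (τ₁ g) (τ' g) := fun g => rfl
    have hTprod : ∀ l : List G, (l.map fun h => T h - 1).prod =
        LinearMap.prodMap (l.map fun h => τ₁ h - 1).prod (l.map fun h => τ' h - 1).prod := fun l => by
      induction l with
      | nil => exact LinearMap.prodMap_one.symm
      | cons h l ihl =>
        rw [List.map_cons, List.map_cons, List.map_cons, List.prod_cons, List.prod_cons, List.prod_cons, ihl, hT,
          ← LinearMap.prodMap_one, ← LinearMap.prodMap_mul]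
        congr 1
    refine ⟨W × M', inferInstance, inferInstance, inferInstance, T, fun p hp => MonoidHom.mem_ker.mpr ?_,
      fun g hg => ?_, fun l h => ?_⟩
    · rw [hT, MonoidHom.mem_ker.mp (hP' hp), show τ₁ p = 1 from LinearMap.ext fun v => Subtype.ext (v.2 p hp),
        LinearMap.prodMap_one]
    · have hg' : LinearMap.prodMap (τ₁ g) (τ' g) = 1 := MonoidHom.mem_ker.mp hg
      have h1 : ∀ v ∈ W, τ g v = v := fun v hv =>
        congrArg (fun A => ((A ((⟨v, hv⟩ : W), (0 : M'))).1 : M)) hg'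
      have h2 : τ' g = 1 := LinearMap.ext fun v => congrArg (fun A => (A ((0 : W), v)).2) hg'
      obtain ⟨i, hi⟩ := hker' g h2
      refine ⟨i + 1, MonoidHom.mem_ker.mpr (LinearMap.ext fun v => ?_)⟩
      set h := g ^ 2 ^ i with hh
      have hh1 : ∀ v ∈ W, τ h v = v := fun v hv => by
        have : ∀ j : ℕ, τ (g ^ j) v = v := fun j => by
          induction j with
          | zero => simp
          | succ j ihj => rw [pow_succ, map_mul, Module.End.mul_apply, h1 v hv, ihj]
        exact this _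
      have hd : τ h v - v ∈ W :=
        (Submodule.Quotient.eq W).mp (LinearMap.congr_fun (MonoidHom.mem_ker.mp hi) (W.mkQ v))
      rw [pow_succ, pow_mul, ← hh, pow_two, map_mul, Module.End.mul_apply, Module.End.one_apply]
      calc τ h (τ h v) = τ h (v + (τ h v - v)) := by rw [add_sub_cancel]
        _ = τ h v + (τ h v - v) := by rw [map_add, hh1 _ hd]
        _ = v + ((1 : ZMod 2) + 1) • (τ h v - v) := by rw [add_smul, one_smul]; abel
        _ = v := by rw [show (1 : ZMod 2) + 1 = 0 from rfl, zero_smul, add_zero]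
    · have h1 : (l.map fun h => τ₁ h - 1).prod = 0 := LinearMap.ext fun v => Subtype.ext (by
        have : ∀ (l : List G) (v : W), ((l.map fun h => τ₁ h - 1).prod v : M) = (l.map fun h => τ h - 1).prod (v : M) :=
          fun l => by
          induction l with
          | nil => intro v; rfl
          | cons h l ihl =>
            intro v
            rw [List.map_cons, List.map_cons, List.prod_cons, List.prod_cons, Module.End.mul_apply, Module.End.mul_apply,
              ← ihl]
            rfl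
        rw [this, h]; rfl)
      have h2 : (l.map fun h => τ₂ h - 1).prod = 0 := Submodule.linearMap_qext W (LinearMap.ext fun v => by
        have : ∀ (l : List G) (v : M), (l.map fun h => τ₂ h - 1).prod (W.mkQ v) =
            W.mkQ ((l.map fun h => τ h - 1).prod v) := fun l => by
          induction l with
          | nil => intro v; rfl
          | cons h l ihl =>
            intro v
            rw [List.map_cons, List.map_cons, List.prod_cons, List.prod_cons, Module.End.mul_apply, Module.End.mul_apply,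
              ihl]
            rfl
        rw [LinearMap.comp_apply, this, h]; simp)
      rw [hTprod, h1, hvan' l h2, LinearMap.prodMap_zero]

/-- A displacement of a `2`-element fixed by an element of odd order. -/
theorem displacement_eq_one {G : Type u} [Group G] {b x : G} {d : ℕ} (hd : Odd d) (hb : b ^ d = 1)
    (hu : ∃ k : ℕ, (b * x * b⁻¹ * x⁻¹) ^ 2 ^ k = 1) (hc : Commute b (b * x * b⁻¹ * x⁻¹)) :
    b * x * b⁻¹ * x⁻¹ = 1 := by
  obtain ⟨k, hk⟩ := hu
  set u := b * x * b⁻¹ * x⁻¹ with hudef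
  have h1 : ∀ i : ℕ, b ^ i * x * (b ^ i)⁻¹ = u ^ i * x := fun i => by
    induction i with
    | zero => simp
    | succ i ih =>
      calc b ^ (i + 1) * x * (b ^ (i + 1))⁻¹ = b * (b ^ i * x * (b ^ i)⁻¹) * b⁻¹ := by group
        _ = (b * u ^ i * b⁻¹) * (b * x * b⁻¹ * x⁻¹) * x := by rw [ih]; group
        _ = u ^ (i + 1) * x := by rw [← hudef, (hc.pow_right i).eq, mul_inv_cancel_right, pow_succ]
  have h2 := h1 d
  rw [hb, one_mul, inv_one, mul_one, right_eq_mul] at h2
  exact orderOf_eq_one_iff.mp (Nat.eq_one_of_dvd_coprimes ((Nat.coprime_two_right.mpr hd).pow_right k)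
    (orderOf_dvd_of_pow_eq_one h2) (orderOf_dvd_of_pow_eq_one hk))

/-- The module carried by the three layers of `O₂`. -/
theorem exists_sharp_module {G : Type u} [Group G] [Finite G] (hsol : Cfsg.IsPSolvable 2 G)
    (hO : Cfsg.pPrimeCore 2 G = ⊥) (Kl Zl : Subgroup G) [Kl.Normal] [Zl.Normal] (hKP : Kl ≤ Cfsg.pCore 2 G)
    (hZK : Zl ≤ Kl) (hcen : ∀ z ∈ Zl, ∀ x ∈ Kl, Commute z x) (hsq : ∀ x ∈ Kl, x * x ∈ Zl)
    (hcom : ∀ x ∈ Kl, ∀ y ∈ Kl, ⁅x, y⁆ ∈ Zl) :
    ∃ (K : Type) (_ : Field K) (_ : IsAlgClosed K) (_ : CharP K 2) (V : Type u) (_ : AddCommGroup V) (_ : Module K V)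
      (_ : FiniteDimensional K V) (ρ : G →* Module.End K V), ρ.ker = Cfsg.pCore 2 G ∧
      (∀ (g : G) (m : ℕ), (∀ v ∈ Cfsg.pCore 2 G, (v * g) ^ 2 ^ m * (g ^ 2 ^ m)⁻¹ ∈ Kl) →
        (∀ v ∈ Kl, (v * g) ^ 2 ^ m * (g ^ 2 ^ m)⁻¹ ∈ Zl) →
        (∀ v ∈ Zl, v * v = 1 → (v * g) ^ 2 ^ m = g ^ 2 ^ m) → (ρ g - 1) ^ (2 ^ m - 1) = 0) ∧
      ∀ l : List G, (∀ v ∈ Cfsg.pCore 2 G, l.foldr (fun h w => h * w * h⁻¹ * w⁻¹) v ∈ Kl) →
        (∀ v ∈ Kl, l.foldr (fun h w => h * w * h⁻¹ * w⁻¹) v ∈ Zl) →
        (∀ v ∈ Zl, v * v = 1 → l.foldr (fun h w => h * w * h⁻¹ * w⁻¹) v = 1) → (l.map fun h => ρ h - 1).prod = 0 := by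
  classical
  haveI := Fact.mk Nat.prime_two
  set P0 := Cfsg.pCore 2 G with hP0
  haveI hP0n : P0.Normal := Blocks.pCore_normal' (G := G) (p := 2)
  have hP0p : IsPGroup 2 P0 := CfsgLib.isPGroup_pCore 2
  -- the top layer modulo the Frattini subgroup
  set π := QuotientGroup.mk' Kl with hπ
  set Pb := P0.map π with hPb
  have hπs : Function.Surjective π := QuotientGroup.mk'_surjective Kl
  haveI : Pb.Normal := Subgroup.Normal.map hP0n π hπs
  have hPbp : IsPGroup 2 Pb := hP0p.map π
  haveI : ((frattini Pb).map Pb.subtype).Normal := inferInstance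
  set Y := ((frattini Pb).map Pb.subtype).comap π with hY
  haveI : Y.Normal := inferInstance
  obtain ⟨M₁, _, _, _, τ₁, hk₁, hv₁, hl₁⟩ := exists_section_rep P0 Y
    (fun x hx => Subgroup.mem_map.mpr ⟨(⟨π x, Subgroup.mem_map_of_mem π hx⟩ : Pb) ^ 2,
      CfsgLib.pow_mem_frattini_pGroup hPbp _, by rw [Subgroup.subtype_apply, map_mul, pow_two]; rfl⟩)
    (fun x hx y hy => Subgroup.mem_map.mpr ⟨⁅(⟨π x, Subgroup.mem_map_of_mem π hx⟩ : Pb),
        (⟨π y, Subgroup.mem_map_of_mem π hy⟩ : Pb)⁆,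
      CfsgLib.commutator_le_frattini_pGroup hPbp
        (Subgroup.commutator_mem_commutator (Subgroup.mem_top _) (Subgroup.mem_top _)),
      by rw [map_commutatorElement, map_commutatorElement]; rfl⟩)
  obtain ⟨M₂, _, _, _, τ₂, hk₂, hv₂, hl₂⟩ := exists_section_rep Kl Zl hsq hcom
  let Om : Subgroup G :=
    { carrier := {z | z ∈ Zl ∧ z * z = 1}
      one_mem' := ⟨one_mem _, one_mul 1⟩
      mul_mem' := fun {a b} ha hb => ⟨mul_mem ha.1 hb.1, by
        rw [(hcen b hb.1 a (hZK ha.1)).mul_mul_mul_comm, ha.2, hb.2, one_mul]⟩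
      inv_mem' := fun {a} ha => ⟨inv_mem ha.1, by rw [← mul_inv_rev, ha.2, inv_one]⟩ }
  haveI : Om.Normal := ⟨fun a ha g => ⟨(inferInstance : Zl.Normal).conj_mem a ha.1 g, by
    rw [show g * a * g⁻¹ * (g * a * g⁻¹) = g * (a * a) * g⁻¹ by group, ha.2, mul_one, mul_inv_cancel]⟩⟩
  obtain ⟨M₃, _, _, _, τ₃, hk₃, hv₃, hl₃⟩ := exists_section_rep Om (⊥ : Subgroup G)
    (fun x hx => Subgroup.mem_bot.mpr hx.2)
    (fun x hx y hy => Subgroup.mem_bot.mpr (commutatorElement_eq_one_iff_commute.mpr (hcen x hx.1 y (hZK hy.1))))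
  let τ : G →* Module.End (ZMod 2) (M₁ × M₂ × M₃) :=
    { toFun := fun h => LinearMap.prodMap (τ₁ h) (LinearMap.prodMap (τ₂ h) (τ₃ h))
      map_one' := by rw [map_one, map_one, map_one, LinearMap.prodMap_one]; exact LinearMap.prodMap_one
      map_mul' := fun h h' => by
        rw [map_mul, map_mul, map_mul, ← LinearMap.prodMap_mul]; exact (LinearMap.prodMap_mul _ _ _ _).symm }
  have hτ : ∀ g, τ g = LinearMap.prodMap (τ₁ g) (LinearMap.prodMap (τ₂ g) (τ₃ g)) := fun g => rfl
  have hsum : ∀ (g : G) (N : ℕ), ∑ i ∈ Finset.range N, τ g ^ i = LinearMap.prodMap (∑ i ∈ Finset.range N, τ₁ g ^ i)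
      (LinearMap.prodMap (∑ i ∈ Finset.range N, τ₂ g ^ i) (∑ i ∈ Finset.range N, τ₃ g ^ i)) := fun g N => by
    induction N with
    | zero =>
      simp only [Finset.range_zero, Finset.sum_empty]
      rw [LinearMap.prodMap_zero, LinearMap.prodMap_zero]
    | succ N ih =>
      have hpow : τ g ^ N = LinearMap.prodMap (τ₁ g ^ N) (LinearMap.prodMap (τ₂ g ^ N) (τ₃ g ^ N)) := by
        rw [← map_pow, hτ, map_pow, map_pow, map_pow]
      rw [Finset.sum_range_succ, Finset.sum_range_succ, Finset.sum_range_succ, Finset.sum_range_succ, ih, hpow,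
        ← LinearMap.prodMap_add, ← LinearMap.prodMap_add]
  obtain ⟨M, _, _, _, τ', hP', hker', hvan'⟩ := exists_trivialised P0 hP0p (Nat.card (M₁ × M₂ × M₃)) le_rfl τ
  -- elements of odd order in the kernel are trivial
  have hodd : ∀ (b : G) (d : ℕ), Odd d → b ^ d = 1 → b ∈ τ.ker → b = 1 := by
    intro b d hd hbd hb
    have hb' : LinearMap.prodMap (τ₁ b) (LinearMap.prodMap (τ₂ b) (τ₃ b)) = 1 := MonoidHom.mem_ker.mp hb
    have e₁ : τ₁ b = 1 := LinearMap.ext fun v => congrArg (fun A => (A (v, 0)).1) hb'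
    have e₂ : τ₂ b = 1 := LinearMap.ext fun v => congrArg (fun A => (A ((0 : M₁), (v, (0 : M₃)))).2.1) hb'
    have e₃ : τ₃ b = 1 := LinearMap.ext fun v => congrArg (fun A => (A ((0 : M₁), ((0 : M₂), v))).2.2) hb'
    have htwo : ∀ u ∈ P0, ∃ k : ℕ, u ^ 2 ^ k = 1 := fun u hu => by
      obtain ⟨k, hk⟩ := hP0p ⟨u, hu⟩
      exact ⟨k, congrArg Subtype.val hk⟩
    have hdisp : ∀ x ∈ P0, b * x * b⁻¹ * x⁻¹ ∈ P0 := fun x hx => mul_mem (hP0n.conj_mem x hx b) (inv_mem hx)
    have fix : ∀ x ∈ P0, Commute b (b * x * b⁻¹ * x⁻¹) → Commute b x := fun x hx h => by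
      have h1 := displacement_eq_one hd hbd (htwo _ (hdisp x hx)) h
      rw [mul_inv_eq_one, mul_inv_eq_iff_eq_mul] at h1
      exact h1
    have hfixZ : ∀ (i : ℕ), ∀ x ∈ Zl, x ^ 2 ^ i = 1 → Commute b x := by
      intro i
      induction i with
      | zero => intro x _ hx; rw [pow_zero, pow_one] at hx; rw [hx]; exact Commute.one_right b
      | succ i ih =>
        intro x hx hxi
        refine fix x (hKP (hZK hx)) (ih _ (mul_mem ((inferInstance : Zl.Normal).conj_mem x hx b) (inv_mem hx)) ?_)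
        have hy : x ^ 2 ^ i ∈ Om := ⟨pow_mem hx _, by rw [← pow_add, ← two_mul, ← pow_succ']; exact hxi⟩
        have h1 := Subgroup.mem_bot.mp (hk₃ b e₃ _ hy)
        rw [← conj_pow, ← inv_pow, ← (hcen _ ((inferInstance : Zl.Normal).conj_mem x hx b) _
          (hZK (inv_mem hx))).mul_pow] at h1
        exact h1
    have hfixK : ∀ x ∈ Kl, Commute b x := fun x hx => by
      refine fix x (hKP hx) ?_
      have hz := hk₂ b e₂ x hx
      obtain ⟨i, hi⟩ := htwo _ (hKP (hZK hz))
      exact hfixZ i _ hz hi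
    have hfixP : ∀ x ∈ P0, Commute b x := fun x hx => by
      refine fix x hx (hfixK _ ?_)
      have hA : Subgroup.zpowers (π b) ≤ Subgroup.centralizer (Pb : Set (G ⧸ Kl)) := by
        refine CfsgLib.centralize_of_trivial_mod_frattini (by rw [Subgroup.normalizer_eq_top]; exact le_top) ?_ ?_
        · rw [Nat.card_zpowers]
          obtain ⟨t, ht⟩ := IsPGroup.iff_card.mp (hPbp.to_subgroup (frattini Pb))
          rw [ht]
          exact ((Nat.coprime_two_right.mpr hd).pow_right t).coprime_dvd_left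
            (orderOf_dvd_of_pow_eq_one (by rw [← map_pow, hbd, map_one]))
        · rintro _ ⟨j, rfl⟩ z hz
          obtain ⟨u, hu, rfl⟩ := Subgroup.mem_map.mp hz
          have hbj : τ₁ (b ^ j) = 1 :=
            MonoidHom.mem_ker.mp (Subgroup.zpow_mem _ (MonoidHom.mem_ker.mpr e₁) j)
          have h1 := hk₁ (b ^ j) hbj u hu
          rw [hY, Subgroup.mem_comap, map_mul, map_mul, map_mul, map_inv, map_inv, map_zpow] at h1
          exact h1
      have h2 := Subgroup.mem_centralizer_iff.mp (hA (Subgroup.mem_zpowers _)) _ (Subgroup.mem_map_of_mem π hx)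
      rw [← QuotientGroup.eq_one_iff]
      show π (b * x * b⁻¹ * x⁻¹) = 1
      rw [map_mul, map_mul, map_mul, map_inv, map_inv, ← h2, mul_inv_cancel_right, mul_inv_cancel]
    have hbP : b ∈ P0 := Blocks.hall_higman hsol hO (Subgroup.mem_centralizer_iff.mpr fun x hx => (hfixP x hx).eq.symm)
    obtain ⟨k, hk⟩ := htwo b hbP
    exact orderOf_eq_one_iff.mp (Nat.eq_one_of_dvd_coprimes ((Nat.coprime_two_right.mpr hd).pow_right k)
      (orderOf_dvd_of_pow_eq_one hbd) (orderOf_dvd_of_pow_eq_one hk))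
  have hker : τ'.ker = P0 := by
    refine le_antisymm (CfsgLib.le_pCore ?_) hP'
    rintro ⟨y, hy⟩
    obtain ⟨i, hi⟩ := hker' y hy
    obtain ⟨k, d, hd, ho⟩ := Nat.exists_eq_pow_mul_and_not_dvd (orderOf_pos (y ^ 2 ^ i)).ne' 2 (by norm_num)
    have h1 := hodd _ d (Nat.odd_iff.mpr (Nat.two_dvd_ne_zero.mp hd))
      (by rw [← pow_mul, ← ho, pow_orderOf_eq_one]) (Subgroup.pow_mem _ hi (2 ^ k))
    rw [← pow_mul, ← pow_add] at h1
    exact ⟨i + k, Subtype.ext h1⟩
  -- extend the scalars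
  set K := AlgebraicClosure (ZMod 2)
  haveI : CharP K 2 := charP_of_injective_algebraMap (algebraMap (ZMod 2) K).injective 2
  let β := Module.End.baseChangeHom (ZMod 2) K M
  let ρ : G →* Module.End K (K ⊗[ZMod 2] M) := β.toMonoidHom.comp τ'
  have hmk : Function.Injective (TensorProduct.mk (ZMod 2) K M 1) :=
    Module.FaithfullyFlat.tensorProduct_mk_injective M
  refine ⟨K, inferInstance, inferInstance, inferInstance, K ⊗[ZMod 2] M, inferInstance, inferInstance,
    inferInstance, ρ, ?_, fun g m h1 h2 h3 => ?_, fun l h1 h2 h3 => ?_⟩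
  · refine Eq.trans ?_ hker
    ext h
    rw [MonoidHom.mem_ker, MonoidHom.mem_ker]
    refine ⟨fun hh => LinearMap.ext fun v => hmk ?_, fun hh => by show β (τ' h) = 1; rw [hh, map_one]⟩
    have := LinearMap.congr_fun hh (1 ⊗ₜ[ZMod 2] v)
    exact this
  · have hzero : ∑ i ∈ Finset.range (2 ^ m), τ g ^ i = 0 := by
      have hY1 : ∀ v ∈ P0, (v * g) ^ 2 ^ m * (g ^ 2 ^ m)⁻¹ ∈ Y := fun v hv => by
        show π _ ∈ (frattini Pb).map Pb.subtype
        rw [show π ((v * g) ^ 2 ^ m * (g ^ 2 ^ m)⁻¹) = 1 from (QuotientGroup.eq_one_iff _).mpr (h1 v hv)]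
        exact one_mem _
      have hO3 : ∀ v ∈ Om, (v * g) ^ 2 ^ m * (g ^ 2 ^ m)⁻¹ ∈ (⊥ : Subgroup G) := fun v hv =>
        Subgroup.mem_bot.mpr (by rw [h3 v hv.1 hv.2, mul_inv_cancel])
      rw [hsum, hv₁ g _ hY1, hv₂ g _ h2, hv₃ g _ hO3, LinearMap.prodMap_zero, LinearMap.prodMap_zero]
    rw [geom_sum_eq_pow (K := ZMod 2)] at hzero
    have h4 := congrArg β (hvan' (List.replicate (2 ^ m - 1) g) (by rwa [List.map_replicate, List.prod_replicate]))
    rw [List.map_replicate, List.prod_replicate, map_pow, map_sub, map_one, map_zero] at h4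
    exact h4
  · have hprod : ∀ l : List G, (l.map fun h => τ h - 1).prod = LinearMap.prodMap (l.map fun h => τ₁ h - 1).prod
        (LinearMap.prodMap (l.map fun h => τ₂ h - 1).prod (l.map fun h => τ₃ h - 1).prod) := fun l => by
      induction l with
      | nil => simp only [List.map_nil, List.prod_nil]; rw [LinearMap.prodMap_one, LinearMap.prodMap_one]
      | cons h l ihl =>
        simp only [List.map_cons, List.prod_cons]
        rw [ihl, hτ]
        exact LinearMap.ext fun x => rfl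
    have hY1 : ∀ v ∈ P0, l.foldr (fun h w => h * w * h⁻¹ * w⁻¹) v ∈ Y := fun v hv => by
      show π _ ∈ (frattini Pb).map Pb.subtype
      rw [show π (l.foldr (fun h w => h * w * h⁻¹ * w⁻¹) v) = 1 from (QuotientGroup.eq_one_iff _).mpr (h1 v hv)]
      exact one_mem _
    have hO3 : ∀ v ∈ Om, l.foldr (fun h w => h * w * h⁻¹ * w⁻¹) v ∈ (⊥ : Subgroup G) := fun v hv =>
      Subgroup.mem_bot.mpr (h3 v hv.1 hv.2)
    have hzero : (l.map fun h => τ h - 1).prod = 0 := by
      rw [hprod, hl₁ l hY1, hl₂ l h2, hl₃ l hO3, LinearMap.prodMap_zero, LinearMap.prodMap_zero]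
    have h4 := congrArg β (hvan' l hzero)
    rw [map_list_prod, List.map_map, map_zero] at h4
    rw [show (l.map fun h => ρ h - 1) = l.map (⇑β ∘ fun h => τ' h - 1) from List.map_congr_left fun h _ => by
      show β (τ' h) - 1 = β (τ' h - 1)
      rw [map_sub, map_one]]
    exact h4

/-- A group without nontrivial normal `2`-subgroup all of whose `2`-elements are short of the exponent `2 ^ (m + 1)`
in a faithful module has `2`-length at most `m`. -/
theorem pLengthLE_of_small : ∀ (m : ℕ) {H : Type u} [Group H] [Finite H] [Group.IsSolvable H],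
    Cfsg.pCore 2 H = ⊥ → ∀ {K : Type} [Field K] [IsAlgClosed K] [CharP K 2] {V : Type u} [AddCommGroup V]
    [Module K V] [FiniteDimensional K V] (ρ : H →* Module.End K V), Function.Injective ρ →
    (∀ h : H, (∃ k : ℕ, h ^ 2 ^ k = 1) → (ρ h - 1) ^ (2 ^ (m + 1) - 1) = 0) → Cfsg.PLengthLE 2 m H := by
  haveI := Fact.mk Nat.prime_two
  intro m
  induction m with
  | zero =>
    intro H _ _ _ _ K _ _ _ V _ _ _ ρ hρ hexc
    refine pLengthLE_zero_of_expLE fun h hh => ?_
    have h1 := hexc h hh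
    rw [show 2 ^ (0 + 1) - 1 = 1 from rfl, pow_one, sub_eq_zero] at h1
    rw [pow_zero, pow_one]
    exact hρ (h1.trans (map_one ρ).symm)
  | succ m ih =>
    intro H _ _ _ hOp K _ _ _ V _ _ _ ρ hρ hexc
    classical
    have hexp : ∀ h : H, (∃ k : ℕ, h ^ 2 ^ k = 1) → h ^ 2 ^ (m + 1 + 1) = 1 := fun h hh => by
      have h1 := hexc h hh
      rw [← geom_sum_eq_pow (K := K)] at h1
      have h2 := mul_geom_sum (ρ h) (2 ^ (m + 1 + 1))
      rw [h1, mul_zero, eq_comm, sub_eq_zero, ← map_pow] at h2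
      exact hρ (h2.trans (map_one ρ).symm)
    set π₁ := QuotientGroup.mk' (Cfsg.pPrimeCore 2 H) with hπ₁
    refine PSeries.pLengthLE_of_pPrime_kernel π₁ (by rw [QuotientGroup.ker_mk']; exact CfsgLib.card_pPrimeCore_coprime 2) ?_
    set H₁ := H ⧸ Cfsg.pPrimeCore 2 H
    have hπ₁s : Function.Surjective π₁ := QuotientGroup.mk'_surjective _
    have hsol₁ : Cfsg.IsPSolvable 2 H₁ := CfsgLib.PLocal.isPSolvable_of_isSolvable (Nat.card H₁) H₁ rfl inferInstance
    have hO₁ : Cfsg.pPrimeCore 2 H₁ = ⊥ := CfsgLib.pPrimeCore_quotient_eq_bot (G := H) 2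
    haveI := Blocks.pCore_normal' (G := H₁) (p := 2)
    set π₂ := QuotientGroup.mk' (Cfsg.pCore 2 H₁) with hπ₂
    have hπ₂s : Function.Surjective π₂ := QuotientGroup.mk'_surjective _
    refine PSeries.pLengthLE_of_pGroup_kernel π₂ (by rw [QuotientGroup.ker_mk']; exact CfsgLib.isPGroup_pCore 2) ?_
    haveI : ((derivedCentralizer H).map π₁).Normal := Subgroup.Normal.map derivedCentralizer_normal π₁ hπ₁s
    let K₀ : Subgroup H₁ := Cfsg.pCore 2 H₁ ⊓ (derivedCentralizer H).map π₁
    haveI : K₀.Normal := Subgroup.normal_inf_normal _ _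
    have hK₀p : IsPGroup 2 K₀ := (CfsgLib.isPGroup_pCore 2).to_le inf_le_left
    have hlK : layer K₀ ≤ K₀ := inf_le_left
    have hZK : layerCenter K₀ ≤ layer K₀ := inf_le_left
    obtain ⟨K₁, _, _, _, V₁, _, _, _, ρ₁, hker, hvan, -⟩ := exists_sharp_module hsol₁ hO₁ (layer K₀) (layerCenter K₀)
      (hlK.trans inf_le_left) hZK (fun z hz x hx => layerCenter_central K₀ hz hx) (fun x hx => layer_sq K₀ hK₀p hx)
      (fun x hx y hy => layer_com K₀ hK₀p hx hy)
    obtain ⟨ρ', hinj, hρ'⟩ := exists_quotient_action ρ₁ hker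
    refine ih (pCore_quotient_pCore H₁ 2) ρ' hinj fun x hx => ?_
    obtain ⟨g₁, rfl, hg₁⟩ := exists_lift Nat.prime_two π₂ hπ₂s hx
    obtain ⟨g, rfl, k, hk⟩ := exists_lift Nat.prime_two π₁ hπ₁s hg₁
    obtain ⟨S, hS⟩ := (IsPGroup.of_card_dvd_pow (n := k) (G := Subgroup.zpowers g) (by
      rw [Nat.card_zpowers]; exact orderOf_dvd_of_pow_eq_one hk)).exists_le_sylow
    have hgS : g ∈ (S : Subgroup H) := hS (Subgroup.mem_zpowers g)
    have hpe : ∀ h ∈ (S : Subgroup H), ∃ i : ℕ, h ^ 2 ^ i = 1 := fun h hh => by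
      obtain ⟨i, hi⟩ := S.2 ⟨h, hh⟩
      exact ⟨i, congrArg Subtype.val hi⟩
    have hP : Small ρ (S : Subgroup H) (m + 1 + 1) :=
      ⟨S.2, by omega, fun h hh => hexp h (hpe h hh), fun h hh => hexc h (hpe h hh)⟩
    have hinjS : ∀ a ∈ (S : Subgroup H), π₁ a = 1 → a = 1 := fun a ha h1 => by
      obtain ⟨i, hi⟩ := hpe a ha
      refine orderOf_eq_one_iff.mp (Nat.eq_one_of_dvd_coprimes
        (Nat.Coprime.pow_left i (CfsgLib.card_pPrimeCore_coprime (G := H) 2).symm)
        (orderOf_dvd_of_pow_eq_one hi) (Subgroup.orderOf_dvd_natCard _ ((QuotientGroup.eq_one_iff a).mp h1)))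
    have hcommS : ∀ a ∈ (S : Subgroup H), ∀ b ∈ (S : Subgroup H), Commute (π₁ a) (π₁ b) → Commute a b :=
      fun a ha b hb h => by
        rw [← commutatorElement_eq_one_iff_commute] at h ⊢
        refine hinjS _ ?_ (by rw [map_commutatorElement, h])
        rw [commutatorElement_def]
        exact mul_mem (mul_mem (mul_mem ha hb) (inv_mem ha)) (inv_mem hb)
    have hlift : ∀ v ∈ Cfsg.pCore 2 H₁, ∃ a ∈ (S : Subgroup H), π₁ a = v := fun v hv => by
      have hv' := CfsgLib.pCore_le_sylow (S.mapSurjective hπ₁s) hv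
      rw [Sylow.coe_mapSurjective] at hv'
      exact hv'
    have hSD : ∀ a ∈ (S : Subgroup H), π₁ a ∈ K₀ → a ∈ derivedCentralizer H := fun a haS haK => by
      obtain ⟨c, hc, hca⟩ := Subgroup.mem_map.mp (Subgroup.mem_inf.mp haK).2
      have hM : c⁻¹ * a ∈ Cfsg.pPrimeCore 2 H := QuotientGroup.eq.mp hca
      haveI := derivedCentralizer_normal (G := H)
      rw [← QuotientGroup.eq_one_iff]
      obtain ⟨i, hi⟩ := hpe a haS
      have h1 : ((a : H) : H ⧸ derivedCentralizer H) = ((c⁻¹ * a : H) : H ⧸ derivedCentralizer H) := by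
        rw [QuotientGroup.mk_mul, QuotientGroup.mk_inv, (QuotientGroup.eq_one_iff c).mpr hc, inv_one, one_mul]
      refine orderOf_eq_one_iff.mp (Nat.eq_one_of_dvd_coprimes
        (Nat.Coprime.pow_left i (CfsgLib.card_pPrimeCore_coprime (G := H) 2).symm) ?_ ?_)
      · exact orderOf_dvd_of_pow_eq_one (by rw [← QuotientGroup.mk_pow, hi, QuotientGroup.mk_one])
      · rw [h1]
        exact (orderOf_map_dvd (QuotientGroup.mk' _) _).trans (Subgroup.orderOf_dvd_natCard _ hM)
    -- the part of the Sylow subgroup over a normal subgroup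
    let overS : Subgroup H₁ → Subgroup H := fun W => (S : Subgroup H) ⊓ W.comap π₁
    have hnorm : ∀ W : Subgroup H₁, W.Normal → (S : Subgroup H) ≤ Subgroup.normalizer (overS W : Set H) :=
      fun W hW s hs => Subgroup.mem_normalizer_fintype fun a ha => by
        obtain ⟨ha1, ha2⟩ := Subgroup.mem_inf.mp ha
        exact Subgroup.mem_inf.mpr ⟨mul_mem (mul_mem hs ha1) (inv_mem hs), by
          rw [Subgroup.mem_comap, map_mul, map_mul, map_inv]; exact hW.conj_mem _ ha2 _⟩
    have hov : ∀ W : Subgroup H₁, W ≤ K₀ → overS W ≤ derivedCentralizer H := fun W hW a ha =>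
      hSD a (Subgroup.mem_inf.mp ha).1 (hW (Subgroup.mem_inf.mp ha).2)
    have hL : Layer (S : Subgroup H) (overS (layer K₀)) (overS (layerCenter K₀)) :=
      { leP := inf_le_left
        leDC := hov _ hlK
        normK := hnorm _ inferInstance
        leK := fun a ha => Subgroup.mem_inf.mpr ⟨(Subgroup.mem_inf.mp ha).1, hZK (Subgroup.mem_inf.mp ha).2⟩
        normZ := hnorm _ inferInstance
        central := fun z hz x hx => hcommS z (Subgroup.mem_inf.mp hz).1 x (Subgroup.mem_inf.mp hx).1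
          (layerCenter_central K₀ (Subgroup.mem_inf.mp hz).2 (Subgroup.mem_inf.mp hx).2)
        sq := fun x hx => Subgroup.mem_inf.mpr ⟨mul_mem (Subgroup.mem_inf.mp hx).1 (Subgroup.mem_inf.mp hx).1, by
          rw [Subgroup.mem_comap, map_mul]; exact layer_sq K₀ hK₀p (Subgroup.mem_inf.mp hx).2⟩
        com := fun x hx y hy => Subgroup.mem_inf.mpr ⟨by
          rw [commutatorElement_def]
          exact mul_mem (mul_mem (mul_mem (Subgroup.mem_inf.mp hx).1 (Subgroup.mem_inf.mp hy).1)
            (inv_mem (Subgroup.mem_inf.mp hx).1)) (inv_mem (Subgroup.mem_inf.mp hy).1), by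
          rw [Subgroup.mem_comap, map_commutatorElement]
          exact layer_com K₀ hK₀p (Subgroup.mem_inf.mp hx).2 (Subgroup.mem_inf.mp hy).2⟩
        com_sq := fun x hx y hy => hinjS _ (by
          have h1 : ⁅x, y⁆ ∈ (S : Subgroup H) := by
            rw [commutatorElement_def]
            exact mul_mem (mul_mem (mul_mem (Subgroup.mem_inf.mp hx).1 (Subgroup.mem_inf.mp hy).1)
              (inv_mem (Subgroup.mem_inf.mp hx).1)) (inv_mem (Subgroup.mem_inf.mp hy).1)
          exact mul_mem h1 h1) (by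
          rw [map_mul, map_commutatorElement]
          exact layer_com_sq K₀ hK₀p (Subgroup.mem_inf.mp hx).2 (Subgroup.mem_inf.mp hy).2) }
    have hnormN : ∀ (W : Subgroup H₁), W.Normal → ∀ v ∈ W, (v * π₁ g) ^ 2 ^ (m + 1) * (π₁ g ^ 2 ^ (m + 1))⁻¹ ∈ W :=
      fun W hW v hv => by
        rw [mul_pow_eq_norm, mul_inv_cancel_right]
        exact Subgroup.list_prod_mem _ fun z hz => by
          obtain ⟨i, -, rfl⟩ := List.mem_map.mp hz
          exact hW.conj_mem v hv _
    rw [show π₂ (π₁ g) = ((π₁ g : H₁) : H₁ ⧸ Cfsg.pCore 2 H₁) from rfl, hρ']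
    refine hvan (π₁ g) (m + 1) (fun v hv => ?_) (fun v hv => ?_) (fun v hv hv2 => ?_)
    · obtain ⟨a, haS, rfl⟩ := hlift v hv
      have hag := mul_mem haS hgS
      rw [mem_layer]
      refine ⟨Subgroup.mem_inf.mpr ⟨hnormN _ inferInstance _ hv, ?_⟩, fun U hUn hUle hUab u hu => ?_⟩
      · rw [← map_mul, ← map_pow, ← map_pow, ← map_inv, ← map_mul]
        exact Subgroup.mem_map_of_mem _ (mul_mem (top_mem_derived hρ hP hag) (inv_mem (top_mem_derived hρ hP hgS)))
      · obtain ⟨c, hcS, rfl⟩ := hlift u ((hUle.trans inf_le_left) hu)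
        have hc : c ∈ overS U := Subgroup.mem_inf.mpr ⟨hcS, hu⟩
        have hab' : ∀ p ∈ overS U, ∀ q ∈ overS U, Commute p q := fun p hp q hq =>
          hcommS p (Subgroup.mem_inf.mp hp).1 q (Subgroup.mem_inf.mp hq).1
            (hUab _ (Subgroup.mem_inf.mp hp).2 _ (Subgroup.mem_inf.mp hq).2)
        have e1 := top_commute_abelian hρ hOp hP inf_le_left (hov U hUle) (hnorm U hUn) hab' hag hc
        have e2 := top_commute_abelian hρ hOp hP inf_le_left (hov U hUle) (hnorm U hUn) hab' hgS hc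
        have e3 := (e1.mul_left e2.inv_left).map π₁
        rw [map_mul, map_inv, map_pow, map_pow, map_mul] at e3
        exact e3
    · obtain ⟨a, haS, rfl⟩ := hlift v ((hlK.trans inf_le_left) hv)
      refine Subgroup.mem_inf.mpr ⟨hnormN _ inferInstance _ hv, Subgroup.mem_centralizer_iff.mpr fun x hx => ?_⟩
      obtain ⟨c, hcS, rfl⟩ := hlift x ((hlK.trans inf_le_left) hx)
      have e3 := (top_quotient_commute hρ hOp hP hL hgS (Subgroup.mem_inf.mpr ⟨haS, hv⟩ : a ∈ overS (layer K₀))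
        (Subgroup.mem_inf.mpr ⟨hcS, hx⟩ : c ∈ overS (layer K₀))).map π₁
      rw [map_mul, map_inv, map_pow, map_pow, map_mul] at e3
      exact e3.eq.symm
    · obtain ⟨a, haS, rfl⟩ := hlift v ((hlK.trans inf_le_left) (hZK hv))
      have h1 := top_eq_of_involution hρ hOp hP hL hgS (Subgroup.mem_inf.mpr ⟨haS, hv⟩ : a ∈ overS (layerCenter K₀))
        (hinjS _ (mul_mem haS haS) (by rw [map_mul, hv2]))
      have h2 := congrArg π₁ h1
      rw [map_pow, map_pow, map_mul] at h2
      exact h2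

/-- The `2`-length is at most the exponent of the Sylow `2`-subgroups. -/
theorem pLengthLE_two_sharp {G : Type u} [Group G] [Finite G] [Group.IsSolvable G] {e : ℕ} (he : ExpLE 2 e G) :
    Cfsg.PLengthLE 2 e G := by
  haveI := Fact.mk Nat.prime_two
  classical
  rcases e with _ | e
  · exact pLengthLE_zero_of_expLE he
  set π₀ := QuotientGroup.mk' (Cfsg.pPrimeCore 2 G)
  refine PSeries.pLengthLE_of_pPrime_kernel π₀ (by rw [QuotientGroup.ker_mk']; exact CfsgLib.card_pPrimeCore_coprime 2) ?_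
  set G₁ := G ⧸ Cfsg.pPrimeCore 2 G
  have hsol₁ : Cfsg.IsPSolvable 2 G₁ := CfsgLib.PLocal.isPSolvable_of_isSolvable (Nat.card G₁) G₁ rfl inferInstance
  have hO₁ : Cfsg.pPrimeCore 2 G₁ = ⊥ := CfsgLib.pPrimeCore_quotient_eq_bot (G := G) 2
  have he₁ : ExpLE 2 (e + 1) G₁ := he.of_surjective π₀ (QuotientGroup.mk'_surjective _)
  haveI := Blocks.pCore_normal' (G := G₁) (p := 2)
  set π₁ := QuotientGroup.mk' (Cfsg.pCore 2 G₁) with hπ₁
  refine PSeries.pLengthLE_of_pGroup_kernel π₁ (by rw [QuotientGroup.ker_mk']; exact CfsgLib.isPGroup_pCore 2) ?_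
  obtain ⟨K, _, _, _, V, _, _, _, ρ, hker, -, hρ⟩ := exists_module hsol₁ hO₁
  obtain ⟨ρ', hinj, hρ'⟩ := exists_quotient_action ρ hker
  refine pLengthLE_of_small e (pCore_quotient_pCore G₁ 2) ρ' hinj fun h hh => ?_
  obtain ⟨g, rfl, hg⟩ := exists_lift Nat.prime_two π₁ (QuotientGroup.mk'_surjective _) hh
  rw [hπ₁, QuotientGroup.mk'_apply, hρ']
  exact top_exceptional hsol₁ he₁ hg ρ hρ

end CfsgLib.HallHigmanB
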